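import Mathlib

/-!
# Fixed point ratios of p-elements: the interface and the two radicals lemma
-/

set_option autoImplicit false
open Subgroup MulAction
open scoped Pointwise

namespace Cfsg.Agent.H409

/-- For every proper subgroup `H` some `p`-element of `S` has at most `(b/a)·|S:H|` fixed points
on the cosets of `H`. -/
def FprRow (a b p : ℕ) (S : Type*) [Group S] : Prop :=
  ∀ H : Subgroup S, H ≠ ⊤ → ∃ x : S, (∃ k : ℕ, orderOf x = p ^ k) ∧
    a * Nat.card (fixedBy (S ⧸ H) x) ≤ b * Nat.card (S ⧸ H)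

/-- Comparison of fixed point ratios along an equivariant map onto a transitive set. -/
theorem fix_le_of_map {G G' Ω Ω' : Type*} [Group G] [Group G'] [MulAction G Ω] [MulAction G' Ω']
    [Finite Ω] [Finite Ω'] [Nonempty Ω] [IsPretransitive G' Ω'] (f : G →* G')
    (hf : Function.Surjective f) (φ : Ω → Ω') (hφ : ∀ (g : G) (ω : Ω), φ (g • ω) = f g • φ ω)
    (x : G) {a b : ℕ} (h : a * Nat.card (fixedBy Ω' (f x)) ≤ b * Nat.card Ω') :
    a * Nat.card (fixedBy Ω x) ≤ b * Nat.card Ω := by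
  classical
  obtain ⟨ω0⟩ := ‹Nonempty Ω›
  set d := Nat.card {ω : Ω // φ ω = φ ω0} with hd
  have hfib : ∀ y : Ω', Nat.card {ω : Ω // φ ω = y} = d := by
    intro y
    obtain ⟨g', rfl⟩ := exists_smul_eq G' (φ ω0) y
    obtain ⟨g, rfl⟩ := hf g'
    refine Nat.card_congr ⟨fun w => ⟨g⁻¹ • w.1, ?_⟩, fun w => ⟨g • w.1, ?_⟩, ?_, ?_⟩
    · rw [hφ, w.2, map_inv, inv_smul_smul]
    · rw [hφ, w.2]
    · intro w; simp
    · intro w; simp
  have hcard : Nat.card Ω = Nat.card Ω' * d := by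
    have e : Ω ≃ Σ y : Ω', {ω : Ω // φ ω = y} := (Equiv.sigmaFiberEquiv φ).symm
    have : Fintype Ω' := Fintype.ofFinite Ω'
    rw [Nat.card_congr e, Nat.card_sigma]
    simp only [hfib]
    rw [Finset.sum_const, Finset.card_univ, smul_eq_mul, Nat.card_eq_fintype_card]
  have hfix : Nat.card (fixedBy Ω x) ≤ Nat.card (fixedBy Ω' (f x)) * d := by
    have e : Nat.card (Σ y : fixedBy Ω' (f x), {ω : Ω // φ ω = y.1}) =
        Nat.card (fixedBy Ω' (f x)) * d := by
      have : Fintype (fixedBy Ω' (f x)) := Fintype.ofFinite _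
      rw [Nat.card_sigma]
      simp only [hfib]
      rw [Finset.sum_const, Finset.card_univ, smul_eq_mul, Nat.card_eq_fintype_card]
    rw [← e]
    refine Nat.card_le_card_of_injective
      (fun w : fixedBy Ω x => (⟨⟨φ w.1, ?_⟩, ⟨w.1, rfl⟩⟩ :
        Σ y : fixedBy Ω' (f x), {ω : Ω // φ ω = y.1})) ?_
    · rw [mem_fixedBy, ← hφ]
      exact congrArg φ w.2
    · rintro ⟨w, hw⟩ ⟨w', hw'⟩ hww
      have h1 := (Sigma.mk.inj_iff.1 hww).1
      have h2 := congrArg (fun z : (Σ y : fixedBy Ω' (f x), {ω : Ω // φ ω = y.1}) => z.2.1) hww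
      exact Subtype.ext h2
  calc a * Nat.card (fixedBy Ω x) ≤ a * (Nat.card (fixedBy Ω' (f x)) * d) :=
        Nat.mul_le_mul_left _ hfix
    _ = a * Nat.card (fixedBy Ω' (f x)) * d := by ring
    _ ≤ b * Nat.card Ω' * d := Nat.mul_le_mul_right _ h
    _ = b * Nat.card Ω := by rw [hcard]; ring

/-- Fixed point ratios can only go down on smaller subgroups. -/
theorem fix_mono {G : Type*} [Group G] [Finite G] {H K : Subgroup G} (hHK : H ≤ K) (x : G)
    {a b : ℕ} (h : a * Nat.card (fixedBy (G ⧸ K) x) ≤ b * Nat.card (G ⧸ K)) :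
    a * Nat.card (fixedBy (G ⧸ H) x) ≤ b * Nat.card (G ⧸ H) := by
  let φ : (G ⧸ H) → (G ⧸ K) := Quotient.map' id (fun g g' hg => by
    rw [QuotientGroup.leftRel_apply] at hg ⊢
    exact hHK hg)
  refine fix_le_of_map (Ω := G ⧸ H) (MonoidHom.id G) Function.surjective_id φ ?_ x h
  intro g ω
  obtain ⟨w, rfl⟩ := QuotientGroup.mk_surjective ω
  rfl

/-- A row for the maximal subgroups gives the row. -/
theorem FprRow.of_coatom {a b p : ℕ} {S : Type*} [Group S] [Finite S]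
    (h : ∀ H : Subgroup S, IsCoatom H → ∃ x : S, (∃ k : ℕ, orderOf x = p ^ k) ∧
      a * Nat.card (fixedBy (S ⧸ H) x) ≤ b * Nat.card (S ⧸ H)) : FprRow a b p S := by
  intro H hH
  obtain ⟨K, hK, hHK⟩ := (eq_top_or_exists_le_coatom H).resolve_left hH
  obtain ⟨x, hx, hle⟩ := h K hK
  exact ⟨x, hx, fix_mono hHK x hle⟩

theorem FprRow.mono {a b a' b' p : ℕ} {S : Type*} [Group S] [Finite S] (h : FprRow a b p S)
    (hb : 0 < b) (hab : a' * b ≤ b' * a) : FprRow a' b' p S := by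
  intro H hH
  obtain ⟨x, hx, hle⟩ := h H hH
  refine ⟨x, hx, ?_⟩
  apply Nat.le_of_mul_le_mul_left _ hb
  calc b * (a' * Nat.card (fixedBy (S ⧸ H) x)) = a' * b * Nat.card (fixedBy (S ⧸ H) x) := by ring
    _ ≤ b' * a * Nat.card (fixedBy (S ⧸ H) x) := Nat.mul_le_mul_right _ hab
    _ = b' * (a * Nat.card (fixedBy (S ⧸ H) x)) := by ring
    _ ≤ b' * (b * Nat.card (S ⧸ H)) := Nat.mul_le_mul_left _ hle
    _ = b * (b' * Nat.card (S ⧸ H)) := by ring

/-- Rows pass to quotients. -/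
theorem FprRow.of_surjective {a b p : ℕ} {G S : Type*} [Group G] [Finite G] [Group S]
    (hp : p.Prime) (f : G →* S) (hf : Function.Surjective f) (h : FprRow a b p G) :
    FprRow a b p S := by
  intro H hH
  have hH' : H.comap f ≠ ⊤ := by
    intro h1
    apply hH
    rw [← map_comap_eq_self_of_surjective hf H, h1, ← MonoidHom.range_eq_map,
      MonoidHom.range_eq_top.2 hf]
  obtain ⟨x, ⟨k, hk⟩, hle⟩ := h _ hH'
  refine ⟨f x, ?_, ?_⟩
  · have h1 : orderOf (f x) ∣ p ^ k := by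
      rw [← hk]
      exact orderOf_map_dvd f x
    obtain ⟨j, -, hj⟩ := (Nat.dvd_prime_pow hp).1 h1
    exact ⟨j, hj⟩
  · let e : (G ⧸ H.comap f) → (S ⧸ H) := Quotient.map' f (fun g g' hg => by
      rw [QuotientGroup.leftRel_apply] at hg ⊢
      rw [mem_comap, map_mul, map_inv] at hg
      exact hg)
    have he : Function.Bijective e := by
      constructor
      · intro u v huv
        obtain ⟨u, rfl⟩ := QuotientGroup.mk_surjective u
        obtain ⟨v, rfl⟩ := QuotientGroup.mk_surjective v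
        have h1 : ((f u : S) : S ⧸ H) = (f v : S) := huv
        rw [QuotientGroup.eq] at h1 ⊢
        rwa [mem_comap, map_mul, map_inv]
      · intro v
        obtain ⟨v, rfl⟩ := QuotientGroup.mk_surjective v
        obtain ⟨g, rfl⟩ := hf v
        exact ⟨(g : G ⧸ H.comap f), rfl⟩
    have heq : ∀ (g : G) (w : G ⧸ H.comap f), e (g • w) = f g • e w := by
      intro g w
      obtain ⟨w, rfl⟩ := QuotientGroup.mk_surjective w
      change ((f (g * w) : S) : S ⧸ H) = ((f g * f w : S) : S ⧸ H)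
      rw [map_mul]
    have h1 : Nat.card (G ⧸ H.comap f) = Nat.card (S ⧸ H) :=
      Nat.card_congr (Equiv.ofBijective e he)
    have h2 : Nat.card (fixedBy (G ⧸ H.comap f) x) = Nat.card (fixedBy (S ⧸ H) (f x)) := by
      refine Nat.card_congr (Equiv.subtypeEquiv (Equiv.ofBijective e he) ?_)
      intro w
      rw [mem_fixedBy, mem_fixedBy, Equiv.ofBijective_apply, ← heq]
      exact he.1.eq_iff.symm
    rw [← h1, ← h2]
    exact hle

theorem FprRow.of_mulEquiv {a b p : ℕ} {G S : Type*} [Group G] [Finite G] [Group S]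
    (hp : p.Prime) (e : G ≃* S) (h : FprRow a b p G) : FprRow a b p S :=
  h.of_surjective hp e.toMonoidHom e.surjective

/-- A row gives the bound for every nontrivial transitive action. -/
theorem FprRow.action {a b p : ℕ} {G Ω : Type*} [Group G] [Finite G] [MulAction G Ω] [Finite Ω]
    [IsPretransitive G Ω] [Nontrivial Ω] (h : FprRow a b p G) :
    ∃ x : G, (∃ k : ℕ, orderOf x = p ^ k) ∧ a * Nat.card (fixedBy Ω x) ≤ b * Nat.card Ω := by
  obtain ⟨ω⟩ : Nonempty Ω := inferInstance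
  have hst : stabilizer G ω ≠ ⊤ := by
    intro h1
    have h2 := index_stabilizer_of_transitive G ω
    rw [h1, Subgroup.index_top] at h2
    have h3 : 1 < Nat.card Ω := Finite.one_lt_card
    omega
  obtain ⟨x, hx, hle⟩ := h _ hst
  refine ⟨x, hx, ?_⟩
  let e : Ω ≃ G ⧸ stabilizer G ω :=
    (Equiv.Set.univ Ω).symm.trans ((Equiv.setCongr (orbit_eq_univ G ω).symm).trans
      (orbitEquivQuotientStabilizer G ω))
  have hsym : ∀ g : G, e.symm (g : G ⧸ stabilizer G ω) = g • ω := by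
    intro g
    rfl
  have heq : ∀ (g : G) (w : G ⧸ stabilizer G ω), e.symm (g • w) = g • e.symm w := by
    intro g w
    obtain ⟨w, rfl⟩ := QuotientGroup.mk_surjective w
    change e.symm ((g * w : G) : G ⧸ stabilizer G ω) = _
    rw [hsym, hsym, mul_smul]
  have h2 : Nat.card (fixedBy (G ⧸ stabilizer G ω) x) = Nat.card (fixedBy Ω x) := by
    refine Nat.card_congr (Equiv.subtypeEquiv e.symm ?_)
    intro w
    rw [mem_fixedBy, mem_fixedBy, ← heq]
    exact e.symm.injective.eq_iff.symm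
  rw [← h2, Nat.card_congr e]
  exact hle

/-! ## The two radicals lemma -/

section TwoRad

variable {G Ω : Type*} [Group G] [Finite G] [MulAction G Ω]

/-- An `x`-invariant orbit of a group on which `x` acts without fixed points contains only one
fixed point of `x`. -/
theorem fpf_unique {R : Subgroup G} {x : G} (hn : ∀ y ∈ R, x * y * x⁻¹ ∈ R)
    (hC : ∀ y ∈ R, x * y = y * x → y = 1) {ω : Ω} (hω : x • ω = ω) {y : G} (hy : y ∈ R)
    (hyω : x • y • ω = y • ω) : y • ω = ω := by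
  classical
  -- the map `y ↦ y⁻¹ (x y x⁻¹)` is injective on `R` and preserves the stabiliser
  let R0 : Subgroup G := R ⊓ stabilizer G ω
  have hθ : ∀ z : R0, (z : G)⁻¹ * (x * z * x⁻¹) ∈ R0 := by
    intro z
    have hz1 : (z : G) ∈ R := z.2.1
    have hz2 : (z : G) • ω = ω := z.2.2
    refine ⟨R.mul_mem (R.inv_mem hz1) (hn _ hz1), ?_⟩
    change ((z : G)⁻¹ * (x * z * x⁻¹)) • ω = ω
    rw [mul_smul, mul_smul, mul_smul, inv_smul_eq_iff, hz2, inv_smul_eq_iff.2 hω.symm, hz2, hω]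
  let θ : R0 → R0 := fun z => ⟨_, hθ z⟩
  have hinj' : ∀ u ∈ R, ∀ v ∈ R, u⁻¹ * (x * u * x⁻¹) = v⁻¹ * (x * v * x⁻¹) → u = v := by
    intro u hu v hv h
    have h1 : x * (v * u⁻¹) = (v * u⁻¹) * x := by
      have h2 : v * (u⁻¹ * (x * u * x⁻¹)) * (x * u⁻¹) = v * (v⁻¹ * (x * v * x⁻¹)) * (x * u⁻¹) := by
        rw [h]
      have h3 : v * (u⁻¹ * (x * u * x⁻¹)) * (x * u⁻¹) = v * u⁻¹ * x := by group
      have h4 : v * (v⁻¹ * (x * v * x⁻¹)) * (x * u⁻¹) = x * (v * u⁻¹) := by group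
      rw [h3, h4] at h2
      exact h2.symm
    have h5 := hC _ (R.mul_mem hv (R.inv_mem hu)) h1
    rw [mul_inv_eq_one] at h5
    exact h5.symm
  have hinj : Function.Injective θ := by
    intro u v h
    have h1 := congrArg (fun z : R0 => (z : G)) h
    exact Subtype.ext (hinj' _ u.2.1 _ v.2.1 h1)
  have hsurj : Function.Surjective θ := Finite.surjective_of_injective hinj
  have hyθ : y⁻¹ * (x * y * x⁻¹) ∈ R0 := by
    refine ⟨R.mul_mem (R.inv_mem hy) (hn _ hy), ?_⟩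
    change (y⁻¹ * (x * y * x⁻¹)) • ω = ω
    rw [mul_smul, mul_smul, mul_smul, inv_smul_eq_iff, inv_smul_eq_iff.2 hω.symm]
    exact hyω
  obtain ⟨z, hz⟩ := hsurj ⟨_, hyθ⟩
  have h1 := congrArg (fun z : R0 => (z : G)) hz
  have h2 : (z : G) = y := hinj' _ z.2.1 _ hy h1
  rw [← h2]
  exact z.2.2

/-- The count for one radical: `|Φ| + m(|Fix x| - |Φ|) ≤ |Ω|`, where `Φ` is the set of common fixed
points of `x` and `R`. -/
theorem one_rad [Finite Ω] {R : Subgroup G} {x : G} (hn : ∀ y ∈ R, x * y * x⁻¹ ∈ R)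
    (hC : ∀ y ∈ R, x * y = y * x → y = 1) {m : ℕ}
    (hm : ∀ ω : Ω, x • ω = ω → (∃ y ∈ R, y • ω ≠ ω) → m ≤ Nat.card (orbit R ω)) :
    {ω : Ω | x • ω = ω ∧ ∀ y ∈ R, y • ω = ω}.ncard +
      m * {ω : Ω | x • ω = ω ∧ ∃ y ∈ R, y • ω ≠ ω}.ncard ≤ Nat.card Ω := by
  classical
  set Φ : Set Ω := {ω : Ω | x • ω = ω ∧ ∀ y ∈ R, y • ω = ω} with hΦ
  set F : Set Ω := {ω : Ω | x • ω = ω ∧ ∃ y ∈ R, y • ω ≠ ω} with hF
  -- the orbits of the points of `F` are pairwise disjoint and disjoint from `Φ`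
  let U : Set Ω := ⋃ ω ∈ F, orbit R ω
  have hdisj : F.PairwiseDisjoint (fun ω => orbit R ω) := by
    intro ω hω ω' hω' hne
    rw [Function.onFun, Set.disjoint_left]
    intro z hz hz'
    apply hne
    have h1 : orbit R ω = orbit R ω' := by
      rw [← orbit_eq_iff.2 hz, ← orbit_eq_iff.2 hz']
    have h2 : ω' ∈ orbit R ω := by
      rw [h1]
      exact mem_orbit_self _
    obtain ⟨⟨y, hy⟩, hyω⟩ := h2
    have hyω' : y • ω = ω' := hyω
    have h3 := fpf_unique hn hC hω.1 hy (by rw [hyω']; exact hω'.1)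
    rw [← hyω', h3]
  have hcard : m * F.ncard ≤ U.ncard := by
    have : Fintype Ω := Fintype.ofFinite Ω
    have h1 : U = ((Set.toFinset F).biUnion (fun ω => (orbit R ω).toFinset) : Finset Ω) := by
      ext z
      simp [U]
    rw [h1, Set.ncard_coe_finset, Finset.card_biUnion]
    · have h2 : ∀ ω ∈ F.toFinset, m ≤ ((orbit R ω).toFinset).card := by
        intro ω hω
        rw [Set.mem_toFinset] at hω
        have := hm ω hω.1 hω.2
        rwa [Nat.card_eq_fintype_card, ← Set.toFinset_card] at this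
      calc m * F.ncard = F.toFinset.card • m := by
            rw [Set.ncard_eq_toFinset_card', smul_eq_mul, mul_comm]
        _ ≤ ∑ ω ∈ F.toFinset, ((orbit R ω).toFinset).card :=
            Finset.card_nsmul_le_sum _ _ _ h2
    · intro ω hω ω' hω' hne
      have := hdisj (by simpa using hω) (by simpa using hω') hne
      change Disjoint (orbit R ω).toFinset (orbit R ω').toFinset
      rw [Set.disjoint_toFinset]
      exact this
  have hd : Disjoint Φ U := by
    rw [Set.disjoint_left]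
    intro z hz hz'
    simp only [U, Set.mem_iUnion] at hz'
    obtain ⟨ω, hω, hzω⟩ := hz'
    obtain ⟨⟨y, hy⟩, hyω⟩ := hzω
    have hyω' : y • ω = z := hyω
    have h1 : y⁻¹ • z = z := hz.2 _ (R.inv_mem hy)
    rw [← hyω', inv_smul_smul] at h1
    rw [← hyω', ← h1] at hz
    obtain ⟨-, y', hy', hne⟩ := hω
    exact hne (hz.2 y' hy')
  calc Φ.ncard + m * F.ncard ≤ Φ.ncard + U.ncard := Nat.add_le_add_left hcard _
    _ = (Φ ∪ U).ncard := (Set.ncard_union_eq hd).symm
    _ ≤ (Set.univ : Set Ω).ncard := Set.ncard_le_ncard (Set.subset_univ _)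
    _ = Nat.card Ω := Set.ncard_univ _

/-- The two radicals lemma, general form. -/
theorem two_rad_count [Finite Ω] {R₁ R₂ : Subgroup G} {x : G}
    (hn₁ : ∀ y ∈ R₁, x * y * x⁻¹ ∈ R₁) (hn₂ : ∀ y ∈ R₂, x * y * x⁻¹ ∈ R₂)
    (hC₁ : ∀ y ∈ R₁, x * y = y * x → y = 1) (hC₂ : ∀ y ∈ R₂, x * y = y * x → y = 1) {m : ℕ}
    (hm0 : 0 < m)
    (hm₁ : ∀ ω : Ω, x • ω = ω → (∃ y ∈ R₁, y • ω ≠ ω) → m ≤ Nat.card (orbit R₁ ω))
    (hm₂ : ∀ ω : Ω, x • ω = ω → (∃ y ∈ R₂, y • ω ≠ ω) → m ≤ Nat.card (orbit R₂ ω))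
    (hno : ∀ ω : Ω, x • ω = ω → (∀ y ∈ R₁, y • ω = ω) → ¬ ∀ y ∈ R₂, y • ω = ω) :
    (m + 1) * Nat.card (fixedBy Ω x) ≤ 2 * Nat.card Ω := by
  classical
  have key : ∀ R : Subgroup G, (fixedBy Ω x).ncard =
      {ω : Ω | x • ω = ω ∧ ∀ y ∈ R, y • ω = ω}.ncard +
        {ω : Ω | x • ω = ω ∧ ∃ y ∈ R, y • ω ≠ ω}.ncard := by
    intro R
    rw [← Set.ncard_union_eq]
    · congr 1
      ext ω
      simp only [mem_fixedBy, Set.mem_union, Set.mem_ofPred_eq]
      constructor
      · intro h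
        by_cases h1 : ∀ y ∈ R, y • ω = ω
        · exact Or.inl ⟨h, h1⟩
        · push Not at h1
          exact Or.inr ⟨h, h1⟩
      · rintro (h | h)
        · exact h.1
        · exact h.1
    · rw [Set.disjoint_left]
      rintro ω ⟨-, h1⟩ ⟨-, y, hy, h2⟩
      exact h2 (h1 y hy)
  have h1 := one_rad hn₁ hC₁ hm₁
  have h2 := one_rad hn₂ hC₂ hm₂
  have k1 := key R₁
  have k2 := key R₂
  have h3 : {ω : Ω | x • ω = ω ∧ ∀ y ∈ R₁, y • ω = ω}.ncard +
      {ω : Ω | x • ω = ω ∧ ∀ y ∈ R₂, y • ω = ω}.ncard ≤ (fixedBy Ω x).ncard := by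
    rw [← Set.ncard_union_eq]
    · apply Set.ncard_le_ncard _ (Set.toFinite _)
      rintro ω (h | h)
      · exact h.1
      · exact h.1
    · rw [Set.disjoint_left]
      rintro ω ⟨h, h1⟩ ⟨-, h2⟩
      exact hno ω h h1 h2
  rw [← Nat.card_coe_set_eq] at k1 k2 h3
  obtain ⟨m, rfl⟩ : ∃ m', m = m' + 1 := ⟨m - 1, by omega⟩
  set A := Nat.card (fixedBy Ω x)
  set n := Nat.card Ω
  set u := {ω : Ω | x • ω = ω ∧ ∀ y ∈ R₁, y • ω = ω}.ncard
  set v := {ω : Ω | x • ω = ω ∧ ∀ y ∈ R₂, y • ω = ω}.ncard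
  set s := {ω : Ω | x • ω = ω ∧ ∃ y ∈ R₁, y • ω ≠ ω}.ncard
  set t := {ω : Ω | x • ω = ω ∧ ∃ y ∈ R₂, y • ω ≠ ω}.ncard
  have h4 : m * (u + v) ≤ m * A := Nat.mul_le_mul_left _ h3
  nlinarith

/-! ### Lengths of the orbits -/

omit [Finite G] in
theorem dvd_card_of_orbits {Y : Type*} [MulAction G Y] [Finite Y] {d : ℕ}
    (h : ∀ y : Y, d ∣ Nat.card (orbit G y)) : d ∣ Nat.card Y := by
  classical
  have : Fintype (orbitRel.Quotient G Y) := Fintype.ofFinite _
  rw [Nat.card_congr (selfEquivSigmaOrbits G Y), Nat.card_sigma]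
  exact Finset.dvd_sum fun i _ => h _

/-- If `x^(p^e)` acts on `R` without fixed points, the `x`-invariant orbits of `R` have length
`1` modulo `p^(e+1)`. -/
theorem orbit_mod [Finite Ω] {p : ℕ} [Fact p.Prime] {R : Subgroup G} {x : G}
    (hx : ∃ k : ℕ, orderOf x = p ^ k) (e : ℕ) (hn : ∀ y ∈ R, x * y * x⁻¹ ∈ R)
    (hC : ∀ y ∈ R, x ^ p ^ e * y = y * x ^ p ^ e → y = 1) {ω : Ω} (hω : x • ω = ω) :
    p ^ (e + 1) ∣ Nat.card (orbit R ω) - 1 := by
  classical
  have hp : p.Prime := Fact.out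
  -- the powers of `x` act on the orbit
  have hn' : ∀ (j : ℕ) (y : G), y ∈ R → x ^ j * y * (x ^ j)⁻¹ ∈ R := by
    intro j
    induction j with
    | zero => intro y hy; simpa using hy
    | succ j ih =>
      intro y hy
      have h1 := hn _ (ih y hy)
      have h2 : x ^ (j + 1) * y * (x ^ (j + 1))⁻¹ = x * (x ^ j * y * (x ^ j)⁻¹) * x⁻¹ := by
        rw [pow_succ']; group
      rwa [h2]
  have hω' : ∀ j : ℕ, x ^ j • ω = ω := by
    intro j
    induction j with
    | zero => simp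
    | succ j ih => rw [pow_succ', mul_smul, ih, hω]
  have hinv : ∀ g ∈ zpowers x, ∀ z ∈ orbit R ω, g • z ∈ orbit R ω := by
    intro g hg z hz
    obtain ⟨j, rfl⟩ : ∃ j : ℕ, x ^ j = g := by
      rwa [← mem_powers_iff_mem_zpowers] at hg
    obtain ⟨⟨y, hy⟩, rfl⟩ := hz
    refine ⟨⟨_, hn' j y hy⟩, ?_⟩
    change (x ^ j * y * (x ^ j)⁻¹) • ω = x ^ j • y • ω
    rw [mul_smul, mul_smul, inv_smul_eq_iff.2 (hω' j).symm]
  let Y : SubMulAction (zpowers x) Ω :=
    { carrier := {z | z ∈ orbit R ω ∧ z ≠ ω}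
      smul_mem' := by
        rintro ⟨g, hg⟩ z ⟨hz, hne⟩
        refine ⟨hinv g hg z hz, ?_⟩
        intro h
        apply hne
        have h1 : g • z = ω := h
        rw [← inv_smul_eq_iff.2 h1.symm]
        obtain ⟨j, hj⟩ : ∃ j : ℕ, x ^ j = g⁻¹ := by
          have := (zpowers x).inv_mem hg
          rwa [← mem_powers_iff_mem_zpowers] at this
        rw [← hj, hω' j] }
  have hYcard : Nat.card (orbit R ω) = Nat.card Y + 1 := by
    have h1 : (orbit R ω) = insert ω {z | z ∈ orbit R ω ∧ z ≠ ω} := by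
      ext z
      simp only [Set.mem_insert_iff, Set.mem_ofPred_eq]
      constructor
      · intro hz
        by_cases h : z = ω
        · exact Or.inl h
        · exact Or.inr ⟨hz, h⟩
      · rintro (rfl | h)
        · exact mem_orbit_self _
        · exact h.1
    have h2 : (orbit R ω).ncard = Set.ncard {z | z ∈ orbit R ω ∧ z ≠ ω} + 1 := by
      rw [h1, Set.ncard_insert_of_notMem (by simp) (Set.toFinite _), ← h1]
    rw [← Nat.card_coe_set_eq, ← Nat.card_coe_set_eq] at h2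
    exact h2
  have hP : IsPGroup p (zpowers x) := by
    obtain ⟨k, hk⟩ := hx
    exact IsPGroup.of_card (n := k) (by rw [Nat.card_zpowers, hk])
  have hdvd : p ^ (e + 1) ∣ Nat.card Y := by
    apply dvd_card_of_orbits (G := zpowers x)
    intro z
    obtain ⟨n, hn2⟩ := hP.card_orbit z
    rw [hn2]
    apply pow_dvd_pow
    by_contra hlt
    have hle : n ≤ e := by omega
    -- then `x^(p^e)` fixes `z`
    have h1 : (⟨x, mem_zpowers x⟩ : zpowers x) ^ (p ^ n) ∈ stabilizer (zpowers x) z := by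
      have h2 : (stabilizer (zpowers x) z).index = p ^ n := by
        rw [← hn2, Subgroup.index, Nat.card_congr (orbitEquivQuotientStabilizer (zpowers x) z)]
      rw [← h2]
      have : (stabilizer (zpowers x) z).Normal := inferInstance
      exact pow_index_mem _ _
    have h3 : x ^ p ^ n • (z : Ω) = z := congrArg (fun w : Y => (w : Ω)) h1
    have h4 : x ^ p ^ e • (z : Ω) = z := by
      obtain ⟨d, rfl⟩ := Nat.exists_eq_add_of_le hle
      rw [pow_add, pow_mul]
      have : ∀ j : ℕ, (x ^ p ^ n) ^ j • (z : Ω) = z := by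
        intro j
        induction j with
        | zero => simp
        | succ j ih => rw [pow_succ', mul_smul, ih, h3]
      exact this _
    obtain ⟨hz1, hz2⟩ := z.2
    obtain ⟨⟨y, hy⟩, hyz⟩ := hz1
    have hyz' : y • ω = (z : Ω) := hyz
    apply hz2
    rw [← hyz'] at h4 ⊢
    exact fpf_unique (x := x ^ p ^ e) (hn' _) hC (hω' _) hy h4
  rw [hYcard, Nat.add_sub_cancel]
  exact hdvd

end TwoRad

end Cfsg.Agent.H409
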