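import Cfsg.Agent.H409.FprBasic

/-!
# Rows from two radicals
-/

set_option autoImplicit false
open Subgroup MulAction
open scoped Pointwise

namespace Cfsg.Agent.H409

variable {G : Type*} [Group G] [Finite G] {p : ℕ} [Fact p.Prime]

omit [Finite G] in
theorem card_orbit_eq_relIndex {Ω : Type*} [MulAction G Ω] (R : Subgroup G) (ω : Ω) :
    Nat.card (orbit R ω) = (R ⊓ stabilizer G ω).relIndex R := by
  rw [Nat.card_congr (orbitEquivQuotientStabilizer R ω), inf_comm, inf_relIndex_right]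
  rfl

omit [Fact p.Prime] in
/-- Two radicals, general form. -/
theorem FprRow.of_two_rad {x : G} {R₁ R₂ : Subgroup G} (hx : ∃ k : ℕ, orderOf x = p ^ k)
    (hn₁ : ∀ y ∈ R₁, x * y * x⁻¹ ∈ R₁) (hn₂ : ∀ y ∈ R₂, x * y * x⁻¹ ∈ R₂)
    (hC₁ : ∀ y ∈ R₁, x * y = y * x → y = 1) (hC₂ : ∀ y ∈ R₂, x * y = y * x → y = 1)
    (hgen : R₁ ⊔ R₂ ⊔ zpowers x = ⊤) {m : ℕ} (hm0 : 0 < m)
    (hm₁ : ∀ R₀ : Subgroup G, R₀ < R₁ → (∀ y ∈ R₀, x * y * x⁻¹ ∈ R₀) → m ≤ R₀.relIndex R₁)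
    (hm₂ : ∀ R₀ : Subgroup G, R₀ < R₂ → (∀ y ∈ R₀, x * y * x⁻¹ ∈ R₀) → m ≤ R₀.relIndex R₂) :
    FprRow (m + 1) 2 p G := by
  intro H hH
  refine ⟨x, hx, ?_⟩
  have aux : ∀ R : Subgroup G, (∀ y ∈ R, x * y * x⁻¹ ∈ R) →
      (∀ R₀ : Subgroup G, R₀ < R → (∀ y ∈ R₀, x * y * x⁻¹ ∈ R₀) → m ≤ R₀.relIndex R) →
      ∀ ω : G ⧸ H, x • ω = ω → (∃ y ∈ R, y • ω ≠ ω) → m ≤ Nat.card (orbit R ω) := by
    intro R hn hm ω hω ⟨y, hy, hne⟩
    refine le_of_le_of_eq ?_ (card_orbit_eq_relIndex R ω).symm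
    refine hm _ (lt_of_le_of_ne inf_le_left ?_) ?_
    · intro h
      rw [inf_eq_left] at h
      exact hne (h hy)
    · rintro z ⟨hz1, hz2⟩
      refine ⟨hn z hz1, ?_⟩
      have hz3 : z • ω = ω := hz2
      change (x * z * x⁻¹) • ω = ω
      rw [mul_smul, mul_smul, inv_smul_eq_iff.2 hω.symm, hz3, hω]
  refine two_rad_count hn₁ hn₂ hC₁ hC₂ hm0 (aux R₁ hn₁ hm₁) (aux R₂ hn₂ hm₂) ?_
  intro ω hω h1 h2
  have hle : R₁ ⊔ R₂ ⊔ zpowers x ≤ stabilizer G ω := by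
    refine sup_le (sup_le h1 h2) ?_
    rw [zpowers_le]
    exact hω
  rw [hgen, top_le_iff] at hle
  obtain ⟨g, rfl⟩ := QuotientGroup.mk_surjective ω
  apply hH
  rw [eq_top_iff]
  intro h _
  have h3 : g * h * g⁻¹ ∈ stabilizer G (g : G ⧸ H) := by
    rw [hle]; trivial
  have h4 : ((g * h * g⁻¹ * g : G) : G ⧸ H) = (g : G ⧸ H) := h3
  rw [inv_mul_cancel_right, QuotientGroup.eq] at h4
  have h5 := H.inv_mem h4
  simpa using h5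

omit [Finite G] [Fact p.Prime] in
theorem normal_of_fpf_pow {R : Subgroup G} {x : G} (e : ℕ)
    (hC : ∀ y ∈ R, x ^ p ^ e * y = y * x ^ p ^ e → y = 1) :
    ∀ y ∈ R, x * y = y * x → y = 1 := by
  intro y hy h
  exact hC y hy ((show Commute x y from h).pow_left _)

/-- The index of an `x`-invariant subgroup of a group on which `x^(p^e)` acts without
fixed points. -/
theorem relIndex_mod {R : Subgroup G} {x : G} (hx : ∃ k : ℕ, orderOf x = p ^ k) (e : ℕ)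
    (hn : ∀ y ∈ R, x * y * x⁻¹ ∈ R)
    (hC : ∀ y ∈ R, x ^ p ^ e * y = y * x ^ p ^ e → y = 1) {R₀ : Subgroup G} (hR₀ : R₀ ≤ R)
    (hn₀ : ∀ y ∈ R₀, x * y * x⁻¹ ∈ R₀) : p ^ (e + 1) ∣ R₀.relIndex R - 1 := by
  -- the action on the cosets of `R₀ <x>`
  have hxf : IsOfFinOrder x := isOfFinOrder_of_finite x
  have hpow : ∀ (S : Subgroup G), (∀ y ∈ S, x * y * x⁻¹ ∈ S) → ∀ g ∈ zpowers x, ∀ y ∈ S,
      g * y * g⁻¹ ∈ S := by
    intro S hS g hg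
    obtain ⟨j, rfl⟩ : ∃ j : ℕ, x ^ j = g := by
      rwa [← mem_powers_iff_mem_zpowers] at hg
    clear hg
    induction j with
    | zero => intro y hy; simpa using hy
    | succ j ih =>
      intro y hy
      have h1 := hS _ (ih y hy)
      have h2 : x ^ (j + 1) * y * (x ^ (j + 1))⁻¹ = x * (x ^ j * y * (x ^ j)⁻¹) * x⁻¹ := by
        rw [pow_succ']; group
      rwa [h2]
  let K : Subgroup G :=
    { carrier := {g | ∃ y ∈ R₀, ∃ c ∈ zpowers x, y * c = g}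
      one_mem' := ⟨1, R₀.one_mem, 1, one_mem _, by simp⟩
      mul_mem' := by
        rintro _ _ ⟨y, hy, c, hc, rfl⟩ ⟨y', hy', c', hc', rfl⟩
        refine ⟨y * (c * y' * c⁻¹), R₀.mul_mem hy (hpow R₀ hn₀ c hc y' hy'), c * c',
          mul_mem hc hc', by group⟩
      inv_mem' := by
        rintro _ ⟨y, hy, c, hc, rfl⟩
        refine ⟨c⁻¹ * y⁻¹ * c, ?_, c⁻¹, inv_mem hc, by group⟩
        have := hpow R₀ hn₀ c⁻¹ (inv_mem hc) _ (R₀.inv_mem hy)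
        rwa [inv_inv] at this }
  have hRx : ∀ g ∈ zpowers x, g ∈ R → g = 1 := by
    intro g hg hgR
    obtain ⟨j, rfl⟩ : ∃ j : ℕ, x ^ j = g := by
      rwa [← mem_powers_iff_mem_zpowers] at hg
    apply normal_of_fpf_pow e hC _ hgR
    rw [← pow_succ, ← pow_succ']
  have hKR : R ⊓ stabilizer G ((1 : G) : G ⧸ K) = R₀ := by
    apply le_antisymm
    · rintro g ⟨hg1, hg2⟩
      have h1 : ((g * 1 : G) : G ⧸ K) = ((1 : G) : G ⧸ K) := hg2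
      rw [mul_one, eq_comm, QuotientGroup.eq] at h1
      rw [inv_one, one_mul] at h1
      obtain ⟨y, hy, c, hc, rfl⟩ := h1
      have h2 : c ∈ R := by
        have := R.mul_mem (R.inv_mem (hR₀ hy)) hg1
        rwa [inv_mul_cancel_left] at this
      rw [hRx c hc h2, mul_one]
      exact hy
    · intro g hg
      refine ⟨hR₀ hg, ?_⟩
      change ((g * 1 : G) : G ⧸ K) = ((1 : G) : G ⧸ K)
      rw [mul_one, eq_comm, QuotientGroup.eq, inv_one, one_mul]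
      exact ⟨g, hg, 1, one_mem _, mul_one g⟩
  have hω : x • ((1 : G) : G ⧸ K) = ((1 : G) : G ⧸ K) := by
    change ((x * 1 : G) : G ⧸ K) = ((1 : G) : G ⧸ K)
    rw [mul_one, eq_comm, QuotientGroup.eq, inv_one, one_mul]
    exact ⟨1, R₀.one_mem, x, mem_zpowers x, one_mul x⟩
  have h := orbit_mod hx e hn hC hω
  rw [card_orbit_eq_relIndex, hKR] at h
  exact h

theorem one_lt_relIndex {R R₀ : Subgroup G} (h : R₀ < R) : 1 < R₀.relIndex R := by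
  have h1 : R₀.relIndex R ≠ 1 := by
    rw [Ne, relIndex_eq_one]
    exact fun h2 => absurd h2 (not_le_of_gt h)
  have h2 : R₀.relIndex R ≠ 0 := by
    unfold relIndex
    exact index_ne_zero_of_finite
  omega

/-- Two radicals: fixed point ratio at most `2/(p+2)`. -/
theorem FprRow.of_two_rad_basic {x : G} {R₁ R₂ : Subgroup G} (hx : ∃ k : ℕ, orderOf x = p ^ k)
    (hn₁ : ∀ y ∈ R₁, x * y * x⁻¹ ∈ R₁) (hn₂ : ∀ y ∈ R₂, x * y * x⁻¹ ∈ R₂)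
    (hC₁ : ∀ y ∈ R₁, x * y = y * x → y = 1) (hC₂ : ∀ y ∈ R₂, x * y = y * x → y = 1)
    (hgen : R₁ ⊔ R₂ ⊔ zpowers x = ⊤) : FprRow (p + 2) 2 p G := by
  have aux : ∀ R : Subgroup G, (∀ y ∈ R, x * y * x⁻¹ ∈ R) → (∀ y ∈ R, x * y = y * x → y = 1) →
      ∀ R₀ : Subgroup G, R₀ < R → (∀ y ∈ R₀, x * y * x⁻¹ ∈ R₀) → p + 1 ≤ R₀.relIndex R := by
    intro R hn hC R₀ hlt hn₀
    have h1 := relIndex_mod hx 0 hn (by simpa using hC) hlt.le hn₀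
    have h2 := one_lt_relIndex hlt
    rw [zero_add, pow_one] at h1
    have := Nat.le_of_dvd (by omega) h1
    omega
  exact FprRow.of_two_rad hx hn₁ hn₂ hC₁ hC₂ hgen (Nat.succ_pos p) (aux R₁ hn₁ hC₁)
    (aux R₂ hn₂ hC₂)

/-- The bound of the basic form suffices for `(p-1)/(2p-1)` when `p` is odd. -/
theorem FprRow.of_basic (hp2 : p ≠ 2) (h : FprRow (p + 2) 2 p G) :
    FprRow (2 * p - 1) (p - 1) p G := by
  refine h.mono (by norm_num) ?_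
  have hp : p.Prime := Fact.out
  have h3 : 3 ≤ p := by
    have := hp.two_le
    omega
  obtain ⟨q, rfl⟩ := Nat.exists_eq_add_of_le h3
  have e1 : 2 * (3 + q) - 1 = 5 + 2 * q := by omega
  have e2 : 3 + q - 1 = 2 + q := by omega
  rw [e1, e2]
  nlinarith

/-- Two radicals without invariant subgroups of index `p+1`: ratio at most `1/(p+1)`. -/
theorem FprRow.of_two_rad_ne {x : G} {R₁ R₂ : Subgroup G} (hx : ∃ k : ℕ, orderOf x = p ^ k)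
    (hn₁ : ∀ y ∈ R₁, x * y * x⁻¹ ∈ R₁) (hn₂ : ∀ y ∈ R₂, x * y * x⁻¹ ∈ R₂)
    (hC₁ : ∀ y ∈ R₁, x * y = y * x → y = 1) (hC₂ : ∀ y ∈ R₂, x * y = y * x → y = 1)
    (hgen : R₁ ⊔ R₂ ⊔ zpowers x = ⊤)
    (hne₁ : ∀ R₀ : Subgroup G, R₀ < R₁ → (∀ y ∈ R₀, x * y * x⁻¹ ∈ R₀) →
      R₀.relIndex R₁ ≠ p + 1)
    (hne₂ : ∀ R₀ : Subgroup G, R₀ < R₂ → (∀ y ∈ R₀, x * y * x⁻¹ ∈ R₀) →
      R₀.relIndex R₂ ≠ p + 1) : FprRow (p + 1) 1 p G := by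
  have hp : p.Prime := Fact.out
  have aux : ∀ R : Subgroup G, (∀ y ∈ R, x * y * x⁻¹ ∈ R) → (∀ y ∈ R, x * y = y * x → y = 1) →
      (∀ R₀ : Subgroup G, R₀ < R → (∀ y ∈ R₀, x * y * x⁻¹ ∈ R₀) → R₀.relIndex R ≠ p + 1) →
      ∀ R₀ : Subgroup G, R₀ < R → (∀ y ∈ R₀, x * y * x⁻¹ ∈ R₀) → 2 * p + 1 ≤ R₀.relIndex R := by
    intro R hn hC hne R₀ hlt hn₀
    have h1 := relIndex_mod hx 0 hn (by simpa using hC) hlt.le hn₀
    have h2 := one_lt_relIndex hlt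
    have h3 := hne R₀ hlt hn₀
    rw [zero_add, pow_one] at h1
    obtain ⟨c, hc⟩ := h1
    have hc0 : c ≠ 0 := by
      rintro rfl
      omega
    have hc1 : c ≠ 1 := by
      rintro rfl
      omega
    have hc2 : p * 2 ≤ p * c := Nat.mul_le_mul_left _ (by omega)
    omega
  have h := FprRow.of_two_rad hx hn₁ hn₂ hC₁ hC₂ hgen (Nat.succ_pos (2 * p))
    (aux R₁ hn₁ hC₁ hne₁) (aux R₂ hn₂ hC₂ hne₂)
  refine h.mono (by norm_num) ?_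
  nlinarith

/-- Two radicals of order prime to `p+1`: ratio at most `1/(p+1)`. -/
theorem FprRow.of_two_rad_ndvd {x : G} {R₁ R₂ : Subgroup G} (hx : ∃ k : ℕ, orderOf x = p ^ k)
    (hn₁ : ∀ y ∈ R₁, x * y * x⁻¹ ∈ R₁) (hn₂ : ∀ y ∈ R₂, x * y * x⁻¹ ∈ R₂)
    (hC₁ : ∀ y ∈ R₁, x * y = y * x → y = 1) (hC₂ : ∀ y ∈ R₂, x * y = y * x → y = 1)
    (hgen : R₁ ⊔ R₂ ⊔ zpowers x = ⊤)
    (hd₁ : ¬ (p + 1) ∣ Nat.card R₁) (hd₂ : ¬ (p + 1) ∣ Nat.card R₂) :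
    FprRow (p + 1) 1 p G := by
  refine FprRow.of_two_rad_ne hx hn₁ hn₂ hC₁ hC₂ hgen ?_ ?_
  · intro R₀ hlt _ h
    exact hd₁ (h ▸ (relIndex_dvd_card R₀ R₁))
  · intro R₀ hlt _ h
    exact hd₂ (h ▸ (relIndex_dvd_card R₀ R₂))

/-- Two radicals on which `x^p` acts without fixed points: ratio at most `1/(p+1)`. -/
theorem FprRow.of_two_rad_sq {x : G} {R₁ R₂ : Subgroup G} (hx : ∃ k : ℕ, orderOf x = p ^ k)
    (hn₁ : ∀ y ∈ R₁, x * y * x⁻¹ ∈ R₁) (hn₂ : ∀ y ∈ R₂, x * y * x⁻¹ ∈ R₂)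
    (hC₁ : ∀ y ∈ R₁, x ^ p * y = y * x ^ p → y = 1)
    (hC₂ : ∀ y ∈ R₂, x ^ p * y = y * x ^ p → y = 1)
    (hgen : R₁ ⊔ R₂ ⊔ zpowers x = ⊤) : FprRow (p + 1) 1 p G := by
  have hp : p.Prime := Fact.out
  have hC₁' : ∀ y ∈ R₁, x ^ p ^ 1 * y = y * x ^ p ^ 1 → y = 1 := by simpa using hC₁
  have hC₂' : ∀ y ∈ R₂, x ^ p ^ 1 * y = y * x ^ p ^ 1 → y = 1 := by simpa using hC₂
  have aux : ∀ R : Subgroup G, (∀ y ∈ R, x * y * x⁻¹ ∈ R) →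
      (∀ y ∈ R, x ^ p ^ 1 * y = y * x ^ p ^ 1 → y = 1) →
      ∀ R₀ : Subgroup G, R₀ < R → (∀ y ∈ R₀, x * y * x⁻¹ ∈ R₀) → R₀.relIndex R ≠ p + 1 := by
    intro R hn hC R₀ hlt hn₀ h
    have h1 := relIndex_mod hx 1 hn hC hlt.le hn₀
    rw [h, Nat.add_sub_cancel] at h1
    have h2 := Nat.le_of_dvd hp.pos h1
    have h3 : p ^ (1 + 1) = p * p := by ring
    rw [h3] at h2
    have := hp.one_lt
    nlinarith
  exact FprRow.of_two_rad_ne hx hn₁ hn₂ (normal_of_fpf_pow 1 hC₁') (normal_of_fpf_pow 1 hC₂') hgen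
    (aux R₁ hn₁ hC₁') (aux R₂ hn₂ hC₂')

end Cfsg.Agent.H409
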