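import Cfsg.Agent.H409.FprBasic
import Cfsg.Agent.H892.TExcA
import Cfsg.Agent.H701.CycPair
import Cfsg.Agent.S1059
import Cfsg.Agent.S1055

/-!
# Fixed point ratios of p-elements: `G₂(3)`, `p = 3`
-/

set_option autoImplicit false

namespace Cfsg.Agent.H409

open MulAction Subgroup Cfsg

/-- The number of fixed points of a Sylow subgroup `⟨z⟩` of prime order divides `|N(⟨z⟩) : ⟨z⟩|`. -/
theorem fix_dvd {G Ω : Type*} [Group G] [Finite G] [MulAction G Ω] [Finite Ω] [IsPretransitive G Ω]
    {r : ℕ} [hr : Fact r.Prime] (hr2 : ¬ r ^ 2 ∣ Nat.card G) {z : G} (hz : orderOf z = r)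
    (h0 : Nat.card (fixedBy Ω z) ≠ 0) :
    r * Nat.card (fixedBy Ω z) ∣ Nat.card (normalizer (zpowers z : Set G)) := by
  classical
  have : Nonempty (fixedBy Ω z) := (Nat.card_ne_zero.1 h0).1
  obtain ⟨ω, hω⟩ := this
  have hω' : z • ω = ω := hω
  let N := normalizer (zpowers z : Set G)
  have hzN : z ∈ N := le_normalizer (mem_zpowers z)
  have hpow : ∀ {a : Ω}, z • a = a → ∀ y ∈ zpowers z, y • a = a := by
    intro a ha y hy
    have h1 : zpowers z ≤ stabilizer G a := by
      rw [zpowers_le]; exact ha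
    exact h1 hy
  have horb : orbit N ω = fixedBy Ω z := by
    ext a
    constructor
    · rintro ⟨⟨n, hn⟩, rfl⟩
      change z • n • ω = n • ω
      rw [← inv_smul_eq_iff, ← mul_smul, ← mul_smul]
      apply hpow hω'
      have h1 := (mem_normalizer_iff.1 (inv_mem hn) z).1 (mem_zpowers z)
      rwa [inv_inv] at h1
    · intro ha
      have ha' : z • a = a := ha
      obtain ⟨g, hg⟩ := exists_smul_eq G ω a
      -- `⟨z⟩` and `g ⟨z⟩ g⁻¹` are Sylow subgroups of the stabiliser of `a`
      have hcardst : ¬ r ^ 2 ∣ Nat.card (stabilizer G a) := fun h => hr2 (h.trans (card_subgroup_dvd_card _))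
      let z1 : stabilizer G a := ⟨z, ha'⟩
      let z2 : stabilizer G a := ⟨g * z * g⁻¹, by
        change (g * z * g⁻¹) • a = a
        rw [mul_smul, mul_smul, ← hg, inv_smul_smul, hω']⟩
      have ho1 : orderOf z1 = r := by rw [← orderOf_coe z1]; exact hz
      have ho2 : orderOf z2 = r := by
        rw [← orderOf_coe z2]
        change orderOf (g * z * g⁻¹) = r
        rw [← hz]
        exact orderOf_injective (MulAut.conj g).toMonoidHom (MulAut.conj g).injective z
      have hsyl : ∀ y : stabilizer G a, orderOf y = r → ∃ P : Sylow r (stabilizer G a),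
          (P : Subgroup (stabilizer G a)) = zpowers y := by
        intro y hy
        have h1 : IsPGroup r (zpowers y) := IsPGroup.of_card (n := 1) (by rw [Nat.card_zpowers, hy, pow_one])
        obtain ⟨P, hP⟩ := h1.exists_le_sylow
        refine ⟨P, (eq_of_le_of_card_ge hP ?_).symm⟩
        obtain ⟨k, hk⟩ := IsPGroup.iff_card.1 P.isPGroup'
        have hk2 : k < 2 := by
          by_contra hcon
          apply hcardst
          have h2 : r ^ 2 ∣ Nat.card P := by rw [hk]; exact pow_dvd_pow r (by omega)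
          exact h2.trans (card_subgroup_dvd_card _)
        rw [Nat.card_zpowers, hy]
        calc Nat.card P = r ^ k := hk
          _ ≤ r ^ 1 := Nat.pow_le_pow_right hr.out.pos (by omega)
          _ = r := pow_one r
      obtain ⟨P1, hP1⟩ := hsyl z1 ho1
      obtain ⟨P2, hP2⟩ := hsyl z2 ho2
      obtain ⟨s, hs⟩ := exists_smul_eq (stabilizer G a) P2 P1
      have hmem : ((s : G) * g) ∈ N := by
        have h1 : (s : G) * g * z * ((s : G) * g)⁻¹ ∈ zpowers z := by
          have h2 : s * z2 * s⁻¹ ∈ (P1 : Subgroup (stabilizer G a)) := by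
            rw [← hs, Sylow.smul_def]
            exact ⟨z2, by rw [hP2]; exact mem_zpowers z2, rfl⟩
          rw [hP1] at h2
          obtain ⟨k, hk⟩ := h2
          refine ⟨k, ?_⟩
          have h3 := congrArg (fun y : stabilizer G a => (y : G)) hk
          simp only [coe_zpow, coe_mul, coe_inv] at h3
          change z ^ k = _
          rw [show z ^ k = (z1 : G) ^ k from rfl, h3]
          change (s : G) * (g * z * g⁻¹) * (s : G)⁻¹ = _
          group
        rw [show N = normalizer (zpowers z : Set G) from rfl, mem_normalizer_iff_map_conj_eq]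
        apply eq_of_le_of_card_ge
        · rw [map_le_iff_le_comap, zpowers_le]
          exact h1
        · rw [card_map_of_injective (MulAut.conj _).injective]
      refine ⟨⟨(s : G) * g, hmem⟩, ?_⟩
      change ((s : G) * g) • ω = a
      rw [mul_smul, hg]
      exact s.2
  have h1 : Nat.card (fixedBy Ω z) = (stabilizer N ω).index := by
    rw [index_stabilizer, horb, Nat.card_coe_set_eq]
  have h2 : (zpowers z).subgroupOf N ≤ stabilizer N ω := by
    rintro ⟨y, hy⟩ hyz
    exact hpow hω' y hyz
  have h3 : Nat.card ((zpowers z).subgroupOf N) = r := by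
    rw [Nat.card_congr (subgroupOfEquivOfLe (H := zpowers z) (K := N) (zpowers_le.2 hzN)).toEquiv,
      Nat.card_zpowers, hz]
  have h4 := (stabilizer N ω).card_mul_index
  rw [h1]
  change _ ∣ Nat.card N
  rw [← h4]
  exact Nat.mul_dvd_mul_right (h3 ▸ card_dvd_of_le h2) _

/-- A simple group with an element `z` of prime order `r` normalised but not centralised by `x`. -/
theorem fix_le_of_norm {G Ω : Type*} [Group G] [Finite G] [MulAction G Ω] [Finite Ω]
    {r : ℕ} [hr : Fact r.Prime] {z x : G} (hz : orderOf z = r) (hx : x * z * x⁻¹ ∈ zpowers z)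
    (hxz : x * z ≠ z * x) :
    r * Nat.card (fixedBy Ω x) ≤ Nat.card Ω + (r - 1) * Nat.card (fixedBy Ω z) := by
  classical
  have hn : ∀ y ∈ zpowers z, x * y * x⁻¹ ∈ zpowers z := by
    rintro _ ⟨k, rfl⟩
    have h1 : x * z ^ k * x⁻¹ = (x * z * x⁻¹) ^ k := (conj_zpow).symm
    change x * z ^ k * x⁻¹ ∈ zpowers z
    rw [h1]
    exact zpow_mem hx k
  have hgen : ∀ y ∈ zpowers z, y ≠ 1 → z ∈ zpowers y := by
    intro y hy hy1
    have h1 : zpowers y = zpowers z := by
      apply eq_of_le_of_card_ge (zpowers_le.2 hy)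
      rw [Nat.card_zpowers, Nat.card_zpowers, hz]
      have h2 : orderOf y ∣ r := by
        rw [← hz, ← Nat.card_zpowers, ← Nat.card_zpowers]
        exact card_dvd_of_le (zpowers_le.2 hy)
      rcases (Nat.dvd_prime hr.out).1 h2 with h3 | h3
      · exact absurd (orderOf_eq_one_iff.1 h3) hy1
      · exact h3.ge
    rw [h1]; exact mem_zpowers z
  have hC : ∀ y ∈ zpowers z, x * y = y * x → y = 1 := by
    intro y hy hxy
    by_contra hy1
    obtain ⟨k, hk⟩ := hgen y hy hy1
    apply hxz
    have h1 : Commute x y := hxy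
    have h2 : Commute x (y ^ k) := h1.zpow_right k
    have hk' : y ^ k = z := hk
    rw [hk'] at h2
    exact h2
  have h1 := one_rad (Ω := Ω) hn hC (m := r) (by
    rintro ω - ⟨y, hy, hyω⟩
    have h2 : Nat.card (orbit (zpowers z) ω) ∣ r := by
      have h3 : Nat.card (orbit (zpowers z) ω) ∣ Nat.card (zpowers z) := by
        rw [Nat.card_coe_set_eq, ← index_stabilizer]
        exact index_dvd_card _
      rwa [Nat.card_zpowers, hz] at h3
    rcases (Nat.dvd_prime hr.out).1 h2 with h3 | h3
    · exfalso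
      apply hyω
      have h4 := (Nat.card_eq_one_iff_unique.1 h3).1
      exact congrArg Subtype.val (h4.elim ⟨y • ω, ⟨⟨y, hy⟩, rfl⟩⟩ ⟨ω, mem_orbit_self _⟩)
    · exact h3.ge)
  have h2 : fixedBy Ω x = {ω : Ω | x • ω = ω ∧ ∀ y ∈ zpowers z, y • ω = ω} ∪
      {ω : Ω | x • ω = ω ∧ ∃ y ∈ zpowers z, y • ω ≠ ω} := by
    ext ω
    simp only [mem_fixedBy, Set.mem_union, Set.mem_ofPred_eq]
    constructor
    · intro h
      by_cases h3 : ∀ y ∈ zpowers z, y • ω = ω
      · exact Or.inl ⟨h, h3⟩
      · push Not at h3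
        exact Or.inr ⟨h, h3⟩
    · rintro (h | h)
      · exact h.1
      · exact h.1
  have h3 : Nat.card (fixedBy Ω x) ≤ {ω : Ω | x • ω = ω ∧ ∀ y ∈ zpowers z, y • ω = ω}.ncard +
      {ω : Ω | x • ω = ω ∧ ∃ y ∈ zpowers z, y • ω ≠ ω}.ncard := by
    rw [Nat.card_coe_set_eq, h2]
    exact Set.ncard_union_le _ _
  have h4 : {ω : Ω | x • ω = ω ∧ ∀ y ∈ zpowers z, y • ω = ω}.ncard ≤ Nat.card (fixedBy Ω z) := by
    rw [Nat.card_coe_set_eq]
    exact Set.ncard_le_ncard (fun ω hω => hω.2 z (mem_zpowers z)) (Set.toFinite _)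
  obtain ⟨s, hs⟩ : ∃ s, r = s + 1 := ⟨r - 1, by have := hr.out.pos; omega⟩
  have h5 := Nat.mul_le_mul_left r h3
  have h6 := Nat.mul_le_mul_left (r - 1) h4
  generalize {ω : Ω | x • ω = ω ∧ ∀ y ∈ zpowers z, y • ω = ω}.ncard = A at *
  generalize {ω : Ω | x • ω = ω ∧ ∃ y ∈ zpowers z, y • ω ≠ ω}.ncard = B at *
  generalize Nat.card (fixedBy Ω x) = fx at *
  generalize Nat.card (fixedBy Ω z) = fz at *
  generalize Nat.card Ω = n at *
  have hs' : r - 1 = s := by omega
  rw [hs'] at h6 ⊢
  calc r * fx ≤ r * (A + B) := h5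
    _ = A + r * B + s * A := by rw [hs]; ring
    _ ≤ n + s * fz := Nat.add_le_add h1 h6

/-- **`G₂(3)`, `p = 3`.** -/
theorem row_G2_three {T : Type*} [Group T] [Finite T] [IsSimpleGroup T] {F : Type*} [Field F] [Fintype F]
    (hF : Fintype.card F = 3) (e : T ≃* Lie.chevG2.group F) : FprRow (3 + 1) 1 3 T := by
  classical
  have h3 : Nat.Prime 3 := Nat.prime_three
  have h13 : Nat.Prime 13 := by norm_num
  have : Fact (Nat.Prime 13) := ⟨h13⟩
  have : Fact (Nat.Prime 3) := ⟨h3⟩
  have hc : Nat.card ↥(Lie.chevG2.group F) = 4245696 := by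
    rw [Cfsg.Agent.S1059.result (F := F) hF]
    norm_num
  have hcT : Nat.card T = 4245696 := by rw [Nat.card_congr e.toEquiv, hc]
  have hfin : Finite ↥(Lie.chevG2.group F) := Nat.finite_of_card_ne_zero (by omega)
  obtain ⟨C, hCc, hC13, hCC⟩ := Cfsg.Agent.H892.TExc.T_G2_3 (F := F) (u := 3) (N := 13) hF (by norm_num) h13
    (dvd_refl 13) (by norm_num)
  -- the element `z`
  obtain ⟨z, hz, hzC⟩ : ∃ z : T, orderOf z = 13 ∧ Nat.card (centralizer ({z} : Set T)) ∣ 13 := by
    obtain ⟨y, hy⟩ := hCc.exists_generator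
    have hyo : orderOf (y : Lie.chevG2.group F) = 13 := by
      rw [orderOf_coe, orderOf_eq_card_of_forall_mem_zpowers hy, hC13]
    refine ⟨e.symm y, by rw [← hyo]; exact orderOf_injective e.symm.toMonoidHom e.symm.injective _, ?_⟩
    rw [← hC13]
    have h1 : (centralizer ({e.symm (y : Lie.chevG2.group F)} : Set T)).map e.toMonoidHom ≤ C := by
      rintro _ ⟨a, ha, rfl⟩
      apply hCC y y.2 hyo
      have ha' : a * e.symm (y : Lie.chevG2.group F) = e.symm (y : Lie.chevG2.group F) * a :=
        mem_centralizer_singleton_iff.1 ha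
      rw [mem_centralizer_singleton_iff]
      have h2 := congrArg e ha'
      rw [map_mul, map_mul, e.apply_symm_apply] at h2
      exact h2
    have h2 := card_dvd_of_le h1
    rwa [card_map_of_injective (f := e.toMonoidHom) e.injective] at h2
  have hzcard : Nat.card (centralizer ({z} : Set T)) = 13 := by
    rcases (Nat.dvd_prime h13).1 hzC with h1 | h1
    · exfalso
      have h2 : zpowers z ≤ centralizer ({z} : Set T) := by
        rw [zpowers_le, mem_centralizer_singleton_iff]
      have h3 := card_dvd_of_le h2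
      rw [Nat.card_zpowers, hz, h1] at h3
      omega
    · exact h1
  have h132 : ¬ 13 ^ 2 ∣ Nat.card T := by rw [hcT]; norm_num
  -- the normaliser
  have hN : Nat.card (normalizer (zpowers z : Set T)) = 78 := by
    have h1 := Cfsg.Agent.H701.relIndex_dvd_totient hz
    have h2 : centralizer ({z} : Set T) ≤ normalizer (zpowers z : Set T) := by
      intro g hg
      rw [mem_normalizer_iff_map_conj_eq]
      have hg' : g * z = z * g := mem_centralizer_singleton_iff.1 hg
      apply eq_of_le_of_card_ge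
      · rw [map_le_iff_le_comap, zpowers_le]
        change g * z * g⁻¹ ∈ zpowers z
        rw [hg']
        have h3 : z * g * g⁻¹ = z := by group
        rw [h3]
        exact mem_zpowers z
      · rw [card_map_of_injective (MulAut.conj g).injective]
    have h3 := ((centralizer ({z} : Set T)).subgroupOf (normalizer (zpowers z : Set T))).card_mul_index
    rw [Nat.card_congr (subgroupOfEquivOfLe h2).toEquiv, hzcard] at h3
    obtain ⟨d, hd⟩ : ∃ d, ((centralizer ({z} : Set T)).subgroupOf (normalizer (zpowers z : Set T))).index = d :=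
      ⟨_, rfl⟩
    have hd12 : d ∣ 12 := by
      have h4 : Nat.totient 13 = 12 := by rw [Nat.totient_prime h13]
      rw [h4] at h1
      rw [← hd]; exact h1
    rw [hd] at h3
    have h5 : IsPGroup 13 (zpowers z) := IsPGroup.of_card (n := 1) (by rw [Nat.card_zpowers, hz, pow_one])
    obtain ⟨P, hP⟩ := h5.exists_le_sylow
    have hPz : (P : Subgroup T) = zpowers z := by
      refine (eq_of_le_of_card_ge hP ?_).symm
      obtain ⟨k, hk⟩ := IsPGroup.iff_card.1 P.isPGroup'
      have hk2 : k < 2 := by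
        by_contra hcon
        apply h132
        have h2 : 13 ^ 2 ∣ Nat.card P := by rw [hk]; exact pow_dvd_pow 13 (by omega)
        exact h2.trans (card_subgroup_dvd_card _)
      rw [Nat.card_zpowers, hz]
      calc Nat.card P = 13 ^ k := hk
        _ ≤ 13 ^ 1 := Nat.pow_le_pow_right (by norm_num) (by omega)
        _ = 13 := pow_one 13
    have h6 := P.card_eq_index_normalizer
    rw [show (normalizer (P : Set T)) = normalizer (zpowers z : Set T) by
      rw [← hPz]; rfl] at h6
    have h7 := card_sylow_modEq_one 13 T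
    rw [h6] at h7
    have h8 := (normalizer (zpowers z : Set T)).card_mul_index
    rw [hcT, ← h3] at h8
    rw [← h3]
    generalize (normalizer (zpowers z : Set T)).index = i at *
    have h9 : i % 13 = 1 := h7
    have h10 : d ≤ 12 := Nat.le_of_dvd (by norm_num) hd12
    interval_cases d <;> omega
  -- the element `x`
  obtain ⟨⟨x, hxN⟩, hx⟩ := exists_prime_orderOf_dvd_card' (G := normalizer (zpowers z : Set T)) 3
    (by rw [hN]; norm_num)
  have hx3 : orderOf x = 3 := by rw [← orderOf_coe] at hx; exact hx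
  have hxz : x * z ≠ z * x := by
    intro h
    have h1 : zpowers x ≤ centralizer ({z} : Set T) := by
      rw [zpowers_le, mem_centralizer_singleton_iff]; exact h
    have h2 := card_dvd_of_le h1
    rw [Nat.card_zpowers, hx3, hzcard] at h2
    omega
  have hxz' : x * z * x⁻¹ ∈ zpowers z := (mem_normalizer_iff.1 hxN z).1 (mem_zpowers z)
  intro H hH
  refine ⟨x, ⟨1, by rw [hx3, pow_one]⟩, ?_⟩
  have hle := fix_le_of_norm (Ω := T ⧸ H) hz hxz' hxz
  have hmod : Nat.card (T ⧸ H) ≡ Nat.card (fixedBy (T ⧸ H) z) [MOD 13] := by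
    have h1 : IsPGroup 13 (zpowers z) := IsPGroup.of_card (n := 1) (by rw [Nat.card_zpowers, hz, pow_one])
    have h2 := h1.card_modEq_card_fixedPoints (T ⧸ H)
    have h3 : fixedPoints (zpowers z) (T ⧸ H) = fixedBy (T ⧸ H) z := by
      ext ω
      constructor
      · intro h
        exact h ⟨z, mem_zpowers z⟩
      · rintro h ⟨y, hy⟩
        have h4 : zpowers z ≤ stabilizer T ω := by
          rw [zpowers_le]; exact h
        exact h4 hy
    rwa [h3] at h2
  have hne : Nat.card (fixedBy (T ⧸ H) z) ≠ Nat.card (T ⧸ H) := by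
    intro h
    have h1 : ∀ ω : T ⧸ H, z • ω = ω := by
      intro ω
      have h2 : fixedBy (T ⧸ H) z = Set.univ := by
        apply Set.eq_of_subset_of_ncard_le (Set.subset_univ _) _ (Set.toFinite _)
        rw [Set.ncard_univ, ← h, Nat.card_coe_set_eq]
      have h3 : ω ∈ fixedBy (T ⧸ H) z := by rw [h2]; trivial
      exact h3
    have h2 : z ∈ H.normalCore := by
      rw [normalCore_eq_ker, MonoidHom.mem_ker]
      ext ω
      exact h1 ω
    rcases (inferInstance : H.normalCore.Normal).eq_bot_or_eq_top with h3 | h3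
    · rw [h3, mem_bot] at h2
      rw [h2, orderOf_one] at hz
      omega
    · exact hH (top_le_iff.1 (h3 ▸ normalCore_le H))
  have hdvd : Nat.card (T ⧸ H) ∣ 4245696 := by
    rw [← hcT]
    exact index_dvd_card H
  have hfle : Nat.card (fixedBy (T ⧸ H) z) ≤ Nat.card (T ⧸ H) := by
    rw [Nat.card_coe_set_eq, ← Set.ncard_univ]
    exact Set.ncard_le_ncard (Set.subset_univ _) (Set.toFinite _)
  have hf6 : Nat.card (fixedBy (T ⧸ H) z) = 0 ∨ Nat.card (fixedBy (T ⧸ H) z) ∣ 6 := by
    by_cases h0 : Nat.card (fixedBy (T ⧸ H) z) = 0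
    · exact Or.inl h0
    · right
      have h1 := fix_dvd (Ω := T ⧸ H) h132 hz h0
      rw [hN] at h1
      have h2 : 13 * Nat.card (fixedBy (T ⧸ H) z) ∣ 13 * 6 := h1
      exact Nat.dvd_of_mul_dvd_mul_left (by norm_num) h2
  generalize Nat.card (fixedBy (T ⧸ H) z) = f at *
  generalize Nat.card (fixedBy (T ⧸ H) x) = g at *
  generalize Nat.card (T ⧸ H) = n at *
  have hmod' : n % 13 = f % 13 := hmod
  rcases hf6 with rfl | h6
  · omega
  · have hf : f ≤ 6 := Nat.le_of_dvd (by norm_num) h6
    by_cases h19 : n = 19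
    · subst h19; norm_num at hdvd
    · interval_cases f <;> omega

end Cfsg.Agent.H409
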