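import Cfsg.Agent.H409.FprOwnTable
import Cfsg.Agent.H409.FprG2three

/-!
# Fixed point ratios of p-elements: groups of Lie type of characteristic `p`
-/

set_option autoImplicit false

universe u

namespace Cfsg.Agent.H409

open Cfsg

/-- **Own characteristic.** Ratio `1 / (p + 1)` for simple groups of Lie type of characteristic `p`. -/
theorem FprRow.of_lie {p : ℕ} (hp : p.Prime) {G : Type u} [Group G] [Finite G] [IsSimpleGroup G]
    (h : IsLieTypeChar p G) : FprRow (p + 1) 1 p G :=
  FprRow.of_lie_of_G2 hp h (fun _ _ _ _ hF e => row_G2_three hF e.some)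

end Cfsg.Agent.H409
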