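import Cfsg.Agent.H409.FprExc
import Cfsg.Agent.H409.FprOwnAll
import Cfsg.Agent.H448.FprTwF.Row
import Cfsg.Agent.H448.FprRee
import Cfsg.Agent.H452.FprSz
import Cfsg.Agent.H452.FprRee
import Cfsg.Agent.H438.Fpr.TitsB

/-!
# Exceptional groups: the dispatchers of S3569 and S3578
-/

set_option autoImplicit false
set_option linter.unusedSectionVars false

universe u

namespace Cfsg.Agent.H409.Exc

open Cfsg Cfsg.Lie
open Cfsg.Agent.H441.FPR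

theorem charP_of_cast {K : Type*} [Field K] {p : ℕ} (hp : p.Prime) (h : (p : K) = 0) : CharP K p := by
  obtain ⟨r, hr⟩ := CharP.exists K
  have h1 : r ∣ p := (CharP.cast_eq_zero_iff K r p).1 h
  rcases (Nat.dvd_prime hp).1 h1 with h2 | h2
  · exact absurd h2 (CharP.char_ne_one K r)
  · rwa [h2] at hr

theorem weaken_row {S : Type*} [Group S] [Finite S] {p : ℕ} (hp : p.Prime) (h : FprRow (p + 1) 1 p S) :
    FprRow (2 * p - 1) (p - 1) p S := by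
  apply h.mono one_pos
  have h2 := hp.two_le
  obtain ⟨k, rfl⟩ : ∃ k, p = k + 2 := ⟨p - 2, by omega⟩
  have e1 : 2 * (k + 2) - 1 = 2 * k + 3 := by omega
  have e2 : k + 2 - 1 = k + 1 := by omega
  rw [e1, e2, mul_one]
  nlinarith

/-- the rows of the twisted groups `³D₄`, `²E₆` -/
def TwRows (a b : ℕ → ℕ) : Prop :=
  (∀ (K : Type) [Field K] [Fintype K] (q : ℕ), IsPrimePow q → Fintype.card K = q ^ 3 → ∀ p : ℕ, p.Prime →
    (p : K) ≠ 0 → p ∣ Nat.card ↥(twistedD4 K q) → FprRow (a p) (b p) p ↥(twistedD4 K q)) ∧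
  (∀ (K : Type) [Field K] [Fintype K] (q : ℕ), IsPrimePow q → Fintype.card K = q ^ 2 → ∀ p : ℕ, p.Prime →
    (p : K) ≠ 0 → p ∣ Nat.card ↥(twistedE6 K q) → FprRow (a p) (b p) p ↥(twistedE6 K q))

/-- **The rows of S3569 for the exceptional groups.** -/
theorem exc69 (B : Cfsg.Agent.H940.Eng.Base) (hTw : TwRows (fun p => 2 * p - 1) (fun p => p - 1))
    {S : Type u} [Group S] [Finite S] [IsSimpleGroup S] (h : IsExceptionalLieType S) {p : ℕ} (hp : p.Prime)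
    (hd : p ∣ Nat.card S) : FprRow (2 * p - 1) (p - 1) p S := by
  have hpf : Fact p.Prime := ⟨hp⟩
  by_cases hown : IsLieTypeChar p S
  · exact weaken_row hp (FprRow.of_lie hp hown)
  have key : ∀ {T : Type} [Group T] (e : S ≃* T) [Finite T], (p ∣ Nat.card T → FprRow (2 * p - 1) (p - 1) p T) →
      FprRow (2 * p - 1) (p - 1) p S := by
    intro T _ e _ hT
    exact FprRow.of_mulEquiv hp e.symm (hT (by rw [← Nat.card_congr e.toEquiv]; exact hd))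
  rcases h with h | h | h | h | h | h | h | h | h | h | h
  · obtain ⟨F, i1, i2, h3, ⟨e⟩⟩ := h
    refine key e (fun hd' => g2_row hp (fun h0 => hown ?_) h3 hd')
    exact Or.inr (Or.inr (Or.inr (Or.inr (Or.inr (Or.inr (Or.inl
      ⟨F, i1, i2, charP_of_cast hp h0, Or.inl ⟨h3, ⟨e⟩⟩⟩))))))
  · obtain ⟨F, i1, i2, ⟨e⟩⟩ := h
    refine key e (fun hd' => f4_row_all hp (fun h0 => hown ?_) hd')
    exact Or.inr (Or.inr (Or.inr (Or.inr (Or.inr (Or.inr (Or.inl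
      ⟨F, i1, i2, charP_of_cast hp h0, Or.inr (Or.inl ⟨e⟩)⟩))))))
  · obtain ⟨F, i1, i2, ⟨e⟩⟩ := h
    refine key e (fun hd' => e6_row_all hp (fun h0 => hown ?_) hd')
    exact Or.inr (Or.inr (Or.inr (Or.inr (Or.inr (Or.inr (Or.inl
      ⟨F, i1, i2, charP_of_cast hp h0, Or.inr (Or.inr (Or.inl ⟨e⟩))⟩))))))
  · obtain ⟨F, i1, i2, ⟨e⟩⟩ := h
    refine key e (fun hd' => e7_row_all hp (fun h0 => hown ?_) hd')
    exact Or.inr (Or.inr (Or.inr (Or.inr (Or.inr (Or.inr (Or.inl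
      ⟨F, i1, i2, charP_of_cast hp h0, Or.inr (Or.inr (Or.inr (Or.inl ⟨e⟩)))⟩))))))
  · obtain ⟨F, i1, i2, ⟨e⟩⟩ := h
    refine key e (fun hd' => e8_row_all hp (fun h0 => hown ?_) hd')
    exact Or.inr (Or.inr (Or.inr (Or.inr (Or.inr (Or.inr (Or.inl
      ⟨F, i1, i2, charP_of_cast hp h0, Or.inr (Or.inr (Or.inr (Or.inr ⟨e⟩)))⟩))))))
  · obtain ⟨K, i1, i2, q, hq, hK, ⟨e⟩⟩ := h
    refine key e (fun hd' => hTw.2 K q hq hK p hp (fun h0 => hown ?_) hd')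
    exact Or.inr (Or.inr (Or.inr (Or.inr (Or.inr (Or.inr (Or.inr (Or.inl
      ⟨K, i1, i2, charP_of_cast hp h0, q, hq, Or.inl ⟨hK, ⟨e⟩⟩⟩)))))))
  · obtain ⟨K, i1, i2, q, hq, hK, ⟨e⟩⟩ := h
    refine key e (fun hd' => hTw.1 K q hq hK p hp (fun h0 => hown ?_) hd')
    exact Or.inr (Or.inr (Or.inr (Or.inr (Or.inr (Or.inr (Or.inr (Or.inl
      ⟨K, i1, i2, charP_of_cast hp h0, q, hq, Or.inr ⟨hK, ⟨e⟩⟩⟩)))))))
  · have hp2 : p ≠ 2 := by
      rintro rfl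
      exact hown (Or.inr (Or.inr (Or.inr (Or.inr (Or.inr (Or.inr (Or.inr (Or.inr (Or.inl ⟨rfl, h⟩)))))))))
    exact weaken_row hp (Cfsg.Agent.H452.FprSz.row_sz h hp2 hd)
  · have hp3 : p ≠ 3 := by
      rintro rfl
      exact hown (Or.inr (Or.inr (Or.inr (Or.inr (Or.inr (Or.inr (Or.inr (Or.inr (Or.inr (Or.inr ⟨rfl, h⟩))))))))))
    by_cases hp2 : p = 2
    · subst hp2
      exact weaken_row hp (Cfsg.Agent.H448.FprRee.row_ree_two h)
    · exact weaken_row hp (Cfsg.Agent.H452.FprRee.row_ree h hp2 hp3 hd)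
  · have hp2 : p ≠ 2 := by
      rintro rfl
      exact hown (Or.inr (Or.inr (Or.inr (Or.inr (Or.inr (Or.inr (Or.inr (Or.inr (Or.inr (Or.inl ⟨rfl, h⟩))))))))))
    exact weaken_row hp (Cfsg.Agent.H448.FprTwF.row_2F4 h hp2 hd)
  · exact weaken_row hp (Cfsg.Agent.H438.Fpr.Tits.rowIso B h hp hd)

/-- the rows of S3578 for `F₄` not in `H409.FprExc` -/
structure Open78 : Prop where
  f4_two_three : ∀ (K : Type) [Field K] [Fintype K], Fintype.card K = 2 → FprRow (3 + 1) 1 3 ↥(chevF4.group K)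
  f4_seven : ∀ (K : Type) [Field K] [Fintype K], CharP K 2 → orderOf (Fintype.card K : ZMod 7) = 3 →
    FprRow (7 + 1) 1 7 ↥(chevF4.group K)

/-- **The rows of S3578 for the exceptional groups, `p` odd.** -/
theorem exc78 (B : Cfsg.Agent.H940.Eng.Base) (hO : Open78) (hTw : TwRows (fun p => p + 1) (fun _ => 1))
    {S : Type u} [Group S] [Finite S] [IsSimpleGroup S] (h : IsExceptionalLieType S) {p : ℕ} (hp : p.Prime)
    (hp2 : p ≠ 2) (hd : p ∣ Nat.card S) : FprRow (p + 1) 1 p S := by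
  have hpf : Fact p.Prime := ⟨hp⟩
  by_cases hown : IsLieTypeChar p S
  · exact FprRow.of_lie hp hown
  have key : ∀ {T : Type} [Group T] (e : S ≃* T) [Finite T], (p ∣ Nat.card T → FprRow (p + 1) 1 p T) →
      FprRow (p + 1) 1 p S := by
    intro T _ e _ hT
    exact FprRow.of_mulEquiv hp e.symm (hT (by rw [← Nat.card_congr e.toEquiv]; exact hd))
  rcases h with h | h | h | h | h | h | h | h | h | h | h
  · obtain ⟨F, i1, i2, h3, ⟨e⟩⟩ := h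
    refine key e (fun hd' => g2 hp hp2 (fun h0 => hown ?_) h3 hd')
    exact Or.inr (Or.inr (Or.inr (Or.inr (Or.inr (Or.inr (Or.inl
      ⟨F, i1, i2, charP_of_cast hp h0, Or.inl ⟨h3, ⟨e⟩⟩⟩))))))
  · obtain ⟨F, i1, i2, ⟨e⟩⟩ := h
    refine key e (fun hd' => f4 hp hp2 (fun h0 => hown ?_) (hO.f4_two_three F) (hO.f4_seven F) hd')
    exact Or.inr (Or.inr (Or.inr (Or.inr (Or.inr (Or.inr (Or.inl
      ⟨F, i1, i2, charP_of_cast hp h0, Or.inr (Or.inl ⟨e⟩)⟩))))))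
  · obtain ⟨F, i1, i2, ⟨e⟩⟩ := h
    refine key e (fun hd' => e6 hp hp2 (fun h0 => hown ?_) hd')
    exact Or.inr (Or.inr (Or.inr (Or.inr (Or.inr (Or.inr (Or.inl
      ⟨F, i1, i2, charP_of_cast hp h0, Or.inr (Or.inr (Or.inl ⟨e⟩))⟩))))))
  · obtain ⟨F, i1, i2, ⟨e⟩⟩ := h
    refine key e (fun hd' => e7 hp hp2 (fun h0 => hown ?_) hd')
    exact Or.inr (Or.inr (Or.inr (Or.inr (Or.inr (Or.inr (Or.inl
      ⟨F, i1, i2, charP_of_cast hp h0, Or.inr (Or.inr (Or.inr (Or.inl ⟨e⟩)))⟩))))))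
  · obtain ⟨F, i1, i2, ⟨e⟩⟩ := h
    refine key e (fun hd' => e8 hp hp2 (fun h0 => hown ?_) hd')
    exact Or.inr (Or.inr (Or.inr (Or.inr (Or.inr (Or.inr (Or.inl
      ⟨F, i1, i2, charP_of_cast hp h0, Or.inr (Or.inr (Or.inr (Or.inr ⟨e⟩)))⟩))))))
  · obtain ⟨K, i1, i2, q, hq, hK, ⟨e⟩⟩ := h
    refine key e (fun hd' => hTw.2 K q hq hK p hp (fun h0 => hown ?_) hd')
    exact Or.inr (Or.inr (Or.inr (Or.inr (Or.inr (Or.inr (Or.inr (Or.inl
      ⟨K, i1, i2, charP_of_cast hp h0, q, hq, Or.inl ⟨hK, ⟨e⟩⟩⟩)))))))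
  · obtain ⟨K, i1, i2, q, hq, hK, ⟨e⟩⟩ := h
    refine key e (fun hd' => hTw.1 K q hq hK p hp (fun h0 => hown ?_) hd')
    exact Or.inr (Or.inr (Or.inr (Or.inr (Or.inr (Or.inr (Or.inr (Or.inl
      ⟨K, i1, i2, charP_of_cast hp h0, q, hq, Or.inr ⟨hK, ⟨e⟩⟩⟩)))))))
  · exact Cfsg.Agent.H452.FprSz.row_sz h hp2 hd
  · have hp3 : p ≠ 3 := by
      rintro rfl
      exact hown (Or.inr (Or.inr (Or.inr (Or.inr (Or.inr (Or.inr (Or.inr (Or.inr (Or.inr (Or.inr ⟨rfl, h⟩))))))))))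
    exact Cfsg.Agent.H452.FprRee.row_ree h hp2 hp3 hd
  · exact Cfsg.Agent.H448.FprTwF.row_2F4 h hp2 hd
  · exact Cfsg.Agent.H438.Fpr.Tits.rowIso B h hp hd

end Cfsg.Agent.H409.Exc
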