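import Cfsg.Agent.H409.FprCycC

/-!
# Cyclic Sylow subgroups: the row from a bound of the normaliser and the minimal index
-/

set_option autoImplicit false
set_option linter.unusedSectionVars false

namespace Cfsg.Agent.H409

open MulAction Subgroup

/-- The number of fixed points of a cyclic Sylow subgroup. -/
theorem fix_dvd_cyc {G Ω : Type*} [Group G] [Finite G] [MulAction G Ω] [Finite Ω] [IsPretransitive G Ω]
    {p : ℕ} [hp : Fact p.Prime] (P : Sylow p G) {y : G} (hy : zpowers y = (P : Subgroup G))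
    (h0 : Nat.card (fixedBy Ω y) ≠ 0) :
    Nat.card P * Nat.card (fixedBy Ω y) ∣ Nat.card (normalizer (P : Set G)) := by
  classical
  have : Nonempty (fixedBy Ω y) := (Nat.card_ne_zero.1 h0).1
  obtain ⟨ω, hω⟩ := this
  have hω' : y • ω = ω := hω
  let N := normalizer (P : Set G)
  have hPN : (P : Subgroup G) ≤ N := le_normalizer
  have hpow : ∀ {a : Ω}, y • a = a → (P : Subgroup G) ≤ stabilizer G a := by
    intro a ha
    rw [← hy, zpowers_le]; exact ha
  have horb : orbit N ω = fixedBy Ω y := by
    ext a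
    constructor
    · rintro ⟨⟨n, hn⟩, rfl⟩
      change y • n • ω = n • ω
      rw [← inv_smul_eq_iff, ← mul_smul, ← mul_smul]
      have hyP : y ∈ (P : Subgroup G) := by rw [← hy]; exact mem_zpowers y
      have h1 := (mem_normalizer_iff.1 (inv_mem hn) y).1 hyP
      rw [inv_inv] at h1
      exact hpow hω' h1
    · intro ha
      have ha' : y • a = a := ha
      obtain ⟨g, hg⟩ := exists_smul_eq G ω a
      have h1 : (P : Subgroup G) ≤ stabilizer G a := hpow ha'
      have h2 : ((g • P : Sylow p G) : Subgroup G) ≤ stabilizer G a := by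
        rw [Sylow.smul_def]
        rintro _ ⟨z, hz, rfl⟩
        change (g * z * g⁻¹) • a = a
        rw [mul_smul, mul_smul, ← hg, inv_smul_smul]
        have h3 : z • ω = ω := hpow hω' hz
        rw [h3]
      obtain ⟨s, hs⟩ := exists_smul_eq (stabilizer G a) ((g • P).subtype h2) (P.subtype h1)
      have hmem : ((s : G) * g) ∈ N := by
        have h3 : ∀ z ∈ (P : Subgroup G), (s : G) * g * z * ((s : G) * g)⁻¹ ∈ (P : Subgroup G) := by
          intro z hz
          have hz2 : g * z * g⁻¹ ∈ ((g • P : Sylow p G) : Subgroup G) := by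
            rw [Sylow.smul_def]; exact ⟨z, hz, rfl⟩
          have h4 : s * ⟨g * z * g⁻¹, h2 hz2⟩ * s⁻¹ ∈ ((P.subtype h1 : Sylow p (stabilizer G a)) :
              Subgroup (stabilizer G a)) := by
            rw [← hs, Sylow.smul_def]
            exact ⟨⟨g * z * g⁻¹, h2 hz2⟩, hz2, rfl⟩
          have h5 : (s : G) * (g * z * g⁻¹) * (s : G)⁻¹ ∈ (P : Subgroup G) := h4
          have h6 : (s : G) * g * z * ((s : G) * g)⁻¹ = (s : G) * (g * z * g⁻¹) * (s : G)⁻¹ := by group
          rw [h6]; exact h5
        rw [show N = normalizer ((P : Subgroup G) : Set G) from rfl, mem_normalizer_iff_map_conj_eq]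
        apply eq_of_le_of_card_ge
        · rintro _ ⟨z, hz, rfl⟩
          exact h3 z hz
        · rw [card_map_of_injective (MulAut.conj _).injective]
      refine ⟨⟨(s : G) * g, hmem⟩, ?_⟩
      change ((s : G) * g) • ω = a
      rw [mul_smul, hg]
      exact s.2
  have h1 : Nat.card (fixedBy Ω y) = (stabilizer N ω).index := by
    rw [index_stabilizer, horb, Nat.card_coe_set_eq]
  have h2 : (P : Subgroup G).subgroupOf N ≤ stabilizer N ω := by
    rintro ⟨z, hz⟩ hyz
    exact hpow hω' hyz
  have h3 : Nat.card ((P : Subgroup G).subgroupOf N) = Nat.card P :=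
    Nat.card_congr (subgroupOfEquivOfLe (H := (P : Subgroup G)) (K := N) hPN).toEquiv
  have h4 := (stabilizer N ω).card_mul_index
  rw [h1]
  change _ ∣ Nat.card N
  rw [← h4]
  exact Nat.mul_dvd_mul_right (h3 ▸ card_dvd_of_le h2) _

/-- **Cyclic Sylow subgroups**, arithmetic form. -/
theorem FprRow.of_cyc {S : Type*} [Group S] [Finite S] {p : ℕ} [hp : Fact p.Prime] (P : Sylow p S) {y : S}
    (hy : zpowers y = (P : Subgroup S))
    (h : ∀ H : Subgroup S, H ≠ ⊤ → ∀ f : ℕ, f ≠ 0 → Nat.card P * f ∣ Nat.card (normalizer (P : Set S)) →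
      H.index ≡ f [MOD p] → (p + 1) * f ≤ H.index) : FprRow (p + 1) 1 p S := by
  intro H hH
  have hyP : y ∈ (P : Subgroup S) := by rw [← hy]; exact mem_zpowers y
  refine ⟨y, ?_, ?_⟩
  · obtain ⟨k, hk⟩ := (IsPGroup.iff_orderOf).1 P.isPGroup' ⟨y, hyP⟩
    exact ⟨k, by rw [← hk, Subgroup.orderOf_mk]⟩
  · rw [one_mul]
    by_cases h0 : Nat.card (fixedBy (S ⧸ H) y) = 0
    · rw [h0, mul_zero]; exact Nat.zero_le _
    · refine h H hH _ h0 (fix_dvd_cyc P hy h0) ?_
      have h2 := P.isPGroup'.card_modEq_card_fixedPoints (S ⧸ H)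
      have h3 : fixedPoints P (S ⧸ H) = fixedBy (S ⧸ H) y := by
        ext ω
        constructor
        · intro h
          exact h ⟨y, hyP⟩
        · rintro h ⟨z, hz⟩
          have h4 : zpowers y ≤ stabilizer S ω := by
            rw [zpowers_le]; exact h
          exact h4 (by rw [hy]; exact hz)
      rwa [h3] at h2

/-- **Cyclic Sylow subgroups**: a bound for the normaliser against the minimal index. -/
theorem FprRow.of_cyc_le {S : Type*} [Group S] [Finite S] {p : ℕ} [hp : Fact p.Prime] (P : Sylow p S) {y : S}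
    (hy : zpowers y = (P : Subgroup S)) {L : ℕ} (hL : ∀ H : Subgroup S, H ≠ ⊤ → L ≤ H.index)
    (h : (p + 1) * Nat.card (normalizer (P : Set S)) ≤ Nat.card P * L) : FprRow (p + 1) 1 p S := by
  apply FprRow.of_cyc P hy
  intro H hH f hf hdvd _
  have h1 := Nat.le_of_dvd Nat.card_pos hdvd
  have h2 : 0 < Nat.card P := Nat.card_pos
  apply Nat.le_of_mul_le_mul_left _ h2
  calc Nat.card P * ((p + 1) * f) = (p + 1) * (Nat.card P * f) := by ring
    _ ≤ (p + 1) * Nat.card (normalizer (P : Set S)) := Nat.mul_le_mul_left _ h1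
    _ ≤ Nat.card P * L := h
    _ ≤ Nat.card P * H.index := Nat.mul_le_mul_left _ (hL H hH)

namespace Cyc

open Module

section

variable {F : Type*} [Field F] [Fintype F] {V : Type*} [AddCommGroup V] [Module F V] [Finite V]
  {G : Type*} [Group G] [Finite G] {ρ : G →* Module.End F V} {p e : ℕ}

/-- elements of order `p` commuting with each other -/
theorem Sit.trivial_of_comm {x y : G} (h : Sit ρ p e x) (hy : orderOf y = p) (hxy : y * x = x * y)
    (hres : res ρ x y = 1) : False := by
  have hfd : Module.Finite F V := Module.Finite.of_finite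
  have h' : Sit ρ p e y := { h with ord := hy }
  have hyN : y ∈ normalizer (zpowers x : Set G) := cent_le_norm (mem_centralizer_singleton_iff.2 hxy)
  have hfix : ∀ u ∈ UU ρ x, ρ y u = u := by
    intro u hu
    have h2 := congrArg (fun f : Module.End F (UU ρ x) => ((f ⟨u, hu⟩ : UU ρ x) : V)) hres
    simp only [res_apply hyN] at h2
    exact h2
  have hdisj : UU ρ x ⊓ UU ρ y = ⊥ := by
    rw [eq_bot_iff]
    rintro u ⟨hu1, hu2⟩
    rw [Submodule.mem_bot]
    exact h'.disj hu2 (hfix u hu1)
  have h1 := Submodule.finrank_sup_add_finrank_inf_eq (UU ρ x) (UU ρ y)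
  rw [hdisj, finrank_bot, add_zero, h.finrank_UU, h'.finrank_UU] at h1
  have h2 : finrank F (UU ρ x ⊔ UU ρ y : Submodule F V) ≤ finrank F V := Submodule.finrank_le _
  have h3 := h.dim
  omega

/-- The Sylow `p`-subgroup is cyclic. -/
theorem Sit.cyclic [hp : Fact p.Prime] {x : G} (h : Sit ρ p e x) (P : Sylow p G)
    (hxP : ∀ y ∈ (P : Subgroup G), y * x = x * y) : IsCyclic (P : Subgroup G) := by
  classical
  have hnt : Nontrivial (UU ρ x) := (Submodule.nontrivial_iff_ne_bot).2 h.UU_ne
  obtain ⟨u0, hu0⟩ := exists_ne (0 : UU ρ x)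
  have hfinE : Finite (Module.End F (UU ρ x)) := Finite.of_injective
    (fun f : Module.End F (UU ρ x) => (f : UU ρ x → UU ρ x)) DFunLike.coe_injective
  have hfinK : Finite (KT (res ρ x x)) := inferInstance
  obtain ⟨K, iK, iA, φ, hφ, hφs⟩ := exists_field (res ρ x x) h.irr
  have hC : ∀ y ∈ (P : Subgroup G), y ∈ centralizer ({x} : Set G) := fun y hy =>
    mem_centralizer_singleton_iff.2 (hxP y hy)
  have hex : ∀ y : (P : Subgroup G), ∃ k : K, φ k = res ρ x y := fun y =>
    hφs _ (mem_adjoin_of_comm _ h.irr hu0 (res_comm (hC y y.2)))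
  choose ψ hψ using hex
  let Ψ : (P : Subgroup G) →* K :=
    { toFun := ψ
      map_one' := by
        apply hφ
        rw [hψ, map_one, coe_one, res_one]
      map_mul' := by
        intro a b
        apply hφ
        rw [hψ, map_mul, hψ, hψ, coe_mul, res_mul (cent_le_norm (hC a a.2)) (cent_le_norm (hC b b.2))] }
  refine isCyclic_of_injective_ringHom Ψ ?_
  rw [injective_iff_map_eq_one]
  intro y hy
  have hy' : res ρ x (y : G) = 1 := by
    rw [← hψ, show ψ y = 1 from hy, map_one]
  by_contra hne
  -- an element of order `p` in `⟨y⟩`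
  have h1 : p ∣ Nat.card (zpowers y) := by
    have h2 : IsPGroup p (zpowers y) := P.isPGroup'.to_subgroup _
    obtain ⟨k, hk⟩ := (IsPGroup.iff_card).1 h2
    have hk0 : k ≠ 0 := by
      rintro rfl
      rw [pow_zero] at hk
      apply hne
      have h3 := (Subgroup.card_eq_one).1 hk
      exact (zpowers_eq_bot).1 h3
    rw [hk]; exact dvd_pow_self p hk0
  obtain ⟨⟨z, hz⟩, hzo⟩ := exists_prime_orderOf_dvd_card' p h1
  have hzo' : orderOf (z : G) = p := by
    rw [orderOf_coe, ← Subgroup.orderOf_mk z hz]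
    exact hzo
  refine h.trivial_of_comm hzo' (hxP z z.2) ?_
  rw [← mem_powers_iff_mem_zpowers] at hz
  obtain ⟨j, hj⟩ := hz
  have hj' : y ^ j = z := hj
  rw [← hj', coe_pow, res_pow (cent_le_norm (hC y y.2)), hy', one_pow]

/-- **The row of a linear group with cyclic Sylow subgroup**: the normaliser. -/
theorem exists_sylow {S : Type*} [Group S] [Finite S] [hp : Fact p.Prime] (hodd : p ≠ 2)
    (hinj : Function.Injective ρ) (hch : (p : F) ≠ 0) (he : ∀ k, p ∣ Fintype.card F ^ k - 1 → e ∣ k)
    (hdim : finrank F V < 2 * e) (hpG : p ∣ Nat.card G) (f : G →* S) (hf : Function.Surjective f)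
    (hker : f.ker ≤ center G) (hkp : ¬ p ∣ Nat.card f.ker) {c : ℕ}
    (hC : ∀ x : G, orderOf x = p → Nat.card (centralizer ({x} : Set G)) ≤ c) :
    ∃ (P : Sylow p S) (y : S), zpowers y = (P : Subgroup S) ∧
      Nat.card f.ker * Nat.card (normalizer (P : Set S)) ≤ e * c := by
  classical
  obtain ⟨P⟩ : Nonempty (Sylow p G) := inferInstance
  -- a central element of order `p` of `P`
  have hPnt : Nontrivial P := by
    rw [← Finite.one_lt_card_iff_nontrivial]
    exact lt_of_lt_of_le hp.out.one_lt (Nat.le_of_dvd Nat.card_pos (P.dvd_card_of_dvd_card hpG))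
  have hZnt : Nontrivial (center P) := P.isPGroup'.center_nontrivial
  obtain ⟨⟨⟨x, hxP⟩, hxZ⟩, hx⟩ : ∃ z : center P, orderOf z = p := by
    apply exists_prime_orderOf_dvd_card'
    obtain ⟨k, hk⟩ := (IsPGroup.iff_card).1 (P.isPGroup'.to_subgroup (center P))
    have hk0 : k ≠ 0 := by
      rintro rfl
      rw [pow_zero] at hk
      have := Finite.one_lt_card_iff_nontrivial.2 hZnt
      omega
    rw [hk]; exact dvd_pow_self p hk0
  have hxo : orderOf x = p := by
    rw [← hx, ← orderOf_coe, ← orderOf_coe]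
  have hsit : Sit ρ p e x := ⟨hinj, hxo, hp.out, hodd, hch, he, hdim⟩
  have hcomm : ∀ y ∈ (P : Subgroup G), y * x = x * y := by
    intro y hy
    have h1 := mem_center_iff.1 hxZ ⟨y, hy⟩
    exact congrArg Subtype.val h1
  have hcyc := hsit.cyclic P hcomm
  obtain ⟨⟨y, hyP⟩, hy⟩ := hcyc.exists_generator
  have hyz : zpowers y = (P : Subgroup G) := by
    apply le_antisymm
    · rw [zpowers_le]; exact hyP
    · intro z hz
      obtain ⟨k, hk⟩ := hy ⟨z, hz⟩
      exact ⟨k, by simpa using congrArg Subtype.val hk⟩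
  refine ⟨P.mapSurjective hf, f y, ?_, ?_⟩
  · rw [Sylow.coe_mapSurjective, ← hyz, MonoidHom.map_zpowers]
  · -- the preimage of the normaliser
    have h1 : ((normalizer ((P.mapSurjective hf : Sylow p S) : Set S)).comap f) ≤
        normalizer (zpowers x : Set G) := by
      intro g hg
      have hg' : f g ∈ normalizer ((P.mapSurjective hf : Sylow p S) : Set S) := hg
      have h2 : f g * f x * (f g)⁻¹ ∈ ((P.mapSurjective hf : Sylow p S) : Subgroup S) := by
        refine (mem_normalizer_iff.1 hg' (f x)).1 ?_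
        rw [Sylow.coe_mapSurjective]
        exact ⟨x, hxP, rfl⟩
      rw [Sylow.coe_mapSurjective] at h2
      obtain ⟨w, hw, hwe⟩ := h2
      -- `g x g⁻¹ = w z`
      obtain ⟨z, hz⟩ : ∃ z, z = w⁻¹ * (g * x * g⁻¹) := ⟨_, rfl⟩
      have hzk : z ∈ f.ker := by
        rw [MonoidHom.mem_ker, hz, map_mul, map_mul, map_mul, map_inv, map_inv, hwe]
        group
      have hgx : g * x * g⁻¹ = w * z := by rw [hz]; group
      have hzc : Commute w z := (mem_center_iff.1 (hker hzk) w)
      have h3 : w ^ p * z ^ p = 1 := by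
        rw [← hzc.mul_pow, ← hgx, conj_pow, ← hxo, pow_orderOf_eq_one]; group
      have hwo : ∃ k, orderOf w = p ^ k := by
        obtain ⟨k, hk⟩ := (IsPGroup.iff_orderOf).1 P.isPGroup' ⟨w, hw⟩
        exact ⟨k, by rw [← hk, Subgroup.orderOf_mk]⟩
      obtain ⟨k, hk⟩ := hwo
      have hzo : orderOf z ∣ Nat.card f.ker := by
        rw [← Subgroup.orderOf_mk z hzk]; exact orderOf_dvd_natCard _
      have hcop : Nat.Coprime (p ^ k) (orderOf z) := by
        apply Nat.Coprime.pow_left
        rw [Nat.Prime.coprime_iff_not_dvd hp.out]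
        exact fun h => hkp (h.trans hzo)
      have h4 : z ^ p = 1 := by
        have h5 : (z ^ p) ^ (p ^ k) = 1 := by
          have h6 : (w ^ p) ^ (p ^ k) * (z ^ p) ^ (p ^ k) = 1 := by
            rw [← (hzc.pow_pow p p).mul_pow, h3, one_pow]
          have h7 : (w ^ p) ^ (p ^ k) = 1 := by
            rw [← pow_mul, mul_comm, pow_mul, ← hk, pow_orderOf_eq_one, one_pow]
          rwa [h7, one_mul] at h6
        have h8 : orderOf (z ^ p) ∣ p ^ k := orderOf_dvd_of_pow_eq_one h5
        have h9 : orderOf (z ^ p) ∣ orderOf z := orderOf_pow_dvd p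
        have h10 := Nat.dvd_gcd h8 h9
        rw [hcop.gcd_eq_one, Nat.dvd_one] at h10
        exact orderOf_eq_one_iff.1 h10
      have h5 : z = 1 := by
        have h8 : orderOf z ∣ p := orderOf_dvd_of_pow_eq_one h4
        rcases (Nat.dvd_prime hp.out).1 h8 with h9 | h9
        · exact orderOf_eq_one_iff.1 h9
        · exact absurd (h9 ▸ hzo) hkp
      rw [h5, mul_one] at hgx
      have hwp : w ^ p = 1 := by rwa [h4, mul_one] at h3
      -- `w` lies in `⟨x⟩`
      have hwx : w ∈ zpowers x := by
        by_cases hw1 : w = 1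
        · rw [hw1]; exact one_mem _
        have how : orderOf w = p := by
          rcases (Nat.dvd_prime hp.out).1 (orderOf_dvd_of_pow_eq_one hwp) with h9 | h9
          · exact absurd (orderOf_eq_one_iff.1 h9) hw1
          · exact h9
        have : Fintype (P : Subgroup G) := Fintype.ofFinite _
        have h6 := IsCyclic.card_pow_eq_one_le (α := (P : Subgroup G)) hp.out.pos
        have h7 : (Finset.univ.filter (fun a : (P : Subgroup G) =>
            a ∈ zpowers (⟨x, hxP⟩ : (P : Subgroup G)))) =
            Finset.univ.filter (fun a : (P : Subgroup G) => a ^ p = 1) := by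
          apply Finset.eq_of_subset_of_card_le
          · intro a ha
            simp only [Finset.mem_filter, Finset.mem_univ, true_and] at ha ⊢
            obtain ⟨j, hj⟩ := ha
            have hj' : (⟨x, hxP⟩ : (P : Subgroup G)) ^ j = a := hj
            have hxp : (⟨x, hxP⟩ : (P : Subgroup G)) ^ p = 1 := by
              apply Subtype.ext
              change x ^ p = 1
              rw [← hxo, pow_orderOf_eq_one]
            rw [← hj', ← zpow_natCast, ← zpow_mul, mul_comm, zpow_mul, zpow_natCast, hxp, one_zpow]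
          · refine h6.trans ?_
            rw [← Fintype.card_subtype, ← Nat.card_eq_fintype_card]
            change p ≤ Nat.card (zpowers (⟨x, hxP⟩ : (P : Subgroup G)))
            rw [Nat.card_zpowers, Subgroup.orderOf_mk, hxo]
        have h8 : (⟨w, hw⟩ : (P : Subgroup G)) ∈ Finset.univ.filter (fun a : (P : Subgroup G) => a ^ p = 1) := by
          simp only [Finset.mem_filter, Finset.mem_univ, true_and]
          exact Subtype.ext hwp
        rw [← h7] at h8
        simp only [Finset.mem_filter, Finset.mem_univ, true_and] at h8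
        obtain ⟨j, hj⟩ := h8
        exact ⟨j, by simpa using congrArg Subtype.val hj⟩
      rw [mem_normalizer_iff_map_conj_eq]
      apply eq_of_le_of_card_ge
      · rw [map_le_iff_le_comap, zpowers_le]
        change g * x * g⁻¹ ∈ zpowers x
        rw [hgx]; exact hwx
      · rw [card_map_of_injective (MulAut.conj g).injective]
    have h2 : Nat.card f.ker * Nat.card (normalizer ((P.mapSurjective hf : Sylow p S) : Set S)) =
        Nat.card ((normalizer ((P.mapSurjective hf : Sylow p S) : Set S)).comap f) := by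
      have h3 := (f.ker).card_mul_index
      have h4 := ((normalizer ((P.mapSurjective hf : Sylow p S) : Set S)).comap f).card_mul_index
      have h5 := (normalizer ((P.mapSurjective hf : Sylow p S) : Set S)).card_mul_index
      have h6 : (f.ker).index = Nat.card S := by
        rw [index_ker, MonoidHom.range_eq_top.2 hf, card_top]
      rw [index_comap_of_surjective _ hf] at h4
      have h7 : (normalizer ((P.mapSurjective hf : Sylow p S) : Set S)).index ≠ 0 :=
        index_ne_zero_of_finite
      apply Nat.eq_of_mul_eq_mul_right (Nat.pos_of_ne_zero h7)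
      rw [h4, mul_assoc, h5, ← h6, h3]
    rw [h2]
    refine (Nat.le_of_dvd Nat.card_pos (card_dvd_of_le h1)).trans ?_
    exact hsit.card_normalizer_le.trans (Nat.mul_le_mul_left _ (hC x hxo))

/-- **The row of a linear group with cyclic Sylow subgroup.** -/
theorem row_of_lin {S : Type*} [Group S] [Finite S] [hp : Fact p.Prime] (hodd : p ≠ 2)
    (hinj : Function.Injective ρ) (hch : (p : F) ≠ 0) (he : ∀ k, p ∣ Fintype.card F ^ k - 1 → e ∣ k)
    (hdim : finrank F V < 2 * e) (hpG : p ∣ Nat.card G) (f : G →* S) (hf : Function.Surjective f)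
    (hker : f.ker ≤ center G) (hkp : ¬ p ∣ Nat.card f.ker) {c : ℕ}
    (hC : ∀ x : G, orderOf x = p → Nat.card (centralizer ({x} : Set G)) ≤ c)
    {L : ℕ} (hL : ∀ H : Subgroup S, H ≠ ⊤ → L ≤ H.index)
    (hnum : (p + 1) * (e * c) ≤ p * (Nat.card f.ker * L)) : FprRow (p + 1) 1 p S := by
  obtain ⟨P, y, hy, hN⟩ := exists_sylow hodd hinj hch he hdim hpG f hf hker hkp hC
  refine FprRow.of_cyc_le P hy hL ?_
  have hk0 : 0 < Nat.card f.ker := Nat.card_pos
  have hpS : p ∣ Nat.card S := by
    have h3 := (f.ker).card_mul_index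
    rw [index_ker, MonoidHom.range_eq_top.2 hf, card_top] at h3
    rw [← h3] at hpG
    exact (hp.out.dvd_mul.1 hpG).resolve_left hkp
  have hPp : p ≤ Nat.card P := by
    have h1 := P.dvd_card_of_dvd_card hpS
    exact Nat.le_of_dvd Nat.card_pos h1
  apply Nat.le_of_mul_le_mul_left _ hk0
  calc Nat.card f.ker * ((p + 1) * Nat.card (normalizer (P : Set S))) =
      (p + 1) * (Nat.card f.ker * Nat.card (normalizer (P : Set S))) := by ring
    _ ≤ (p + 1) * (e * c) := Nat.mul_le_mul_left _ hN
    _ ≤ p * (Nat.card f.ker * L) := hnum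
    _ ≤ Nat.card P * (Nat.card f.ker * L) := Nat.mul_le_mul_right _ hPp
    _ = Nat.card f.ker * (Nat.card P * L) := by ring

end

end Cyc

end Cfsg.Agent.H409
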