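import Cfsg.Agent.H409.CycleCount

/-!
Derangements of prime order from actions with few orbits of a Sylow subgroup.
-/

set_option autoImplicit false

namespace Cfsg.Agent.H409

section

variable {G X : Type*} [Group G] [MulAction G X]

theorem card_orbit_sylow [Finite G] [Finite X] (htrans : MulAction.IsPretransitive G X)
    {s : ℕ} [Fact s.Prime] (hs : s ∣ Nat.card X) (hb : Nat.card X < s ^ 2) (S : Sylow s G)
    (B : X) : Nat.card (MulAction.orbit S B) = s := by
  have hp : s.Prime := Fact.out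
  obtain ⟨k, hk⟩ := S.isPGroup'.card_orbit B
  have h1 : Nat.card (MulAction.orbit S B) ≤ Nat.card X :=
    Nat.card_le_card_of_injective _ Subtype.val_injective
  have h2 : s ^ k < s ^ 2 := by rw [← hk]; exact h1.trans_lt hb
  have h3 : k < 2 := (Nat.pow_lt_pow_iff_right hp.one_lt).1 h2
  interval_cases k
  · exfalso
    rw [pow_zero, Nat.card_eq_one_iff_unique] at hk
    obtain ⟨hk1, -⟩ := hk
    have h4 : (S : Subgroup G) ≤ MulAction.stabilizer G B := by
      intro x hx
      rw [MulAction.mem_stabilizer_iff]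
      exact congrArg Subtype.val (hk1.elim ⟨x • B, ⟨⟨x, hx⟩, rfl⟩⟩ ⟨B, MulAction.mem_orbit_self B⟩)
    have h5 := Subgroup.relIndex_mul_index h4
    have h6 : s ∣ (S : Subgroup G).index := by
      rw [← h5, MulAction.index_stabilizer_of_transitive]
      exact dvd_mul_of_dvd_right hs _
    exact S.not_dvd_index h6
  · rw [hk, pow_one]

theorem exists_derangement_pow [Finite G] [Finite X] [Nonempty X]
    (htrans : MulAction.IsPretransitive G X) {s : ℕ} [Fact s.Prime]
    (hs : s ∣ Nat.card X) (hb : Nat.card X < s ^ 2) (S : Sylow s G) :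
    ∃ x ∈ S, (∀ B : X, x • B ≠ B) ∧ ∀ B : X, x ^ s • B = B := by
  classical
  have := Fintype.ofFinite X
  have := Fintype.ofFinite S
  have hp : s.Prime := Fact.out
  have horb : ∀ B : X, Nat.card (MulAction.orbit S B) = s := card_orbit_sylow htrans hs hb S
  have hidx : ∀ B : X, (MulAction.stabilizer S B).index = s := by
    intro B
    rw [MulAction.index_stabilizer, ← Nat.card_coe_set_eq, horb B]
  obtain ⟨B₀⟩ := ‹Nonempty X›
  have hmin : (Nat.card S).minFac = s := by
    obtain ⟨k, hk⟩ := S.isPGroup'.exists_card_eq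
    have hk0 : k ≠ 0 := by
      rintro rfl
      have h1 := Subgroup.index_dvd_card (MulAction.stabilizer S B₀)
      rw [hidx B₀, hk, pow_zero] at h1
      exact hp.one_lt.ne' (Nat.dvd_one.1 h1)
    rw [hk, hp.pow_minFac hk0]
  have hnorm : ∀ B : X, (MulAction.stabilizer S B).Normal := fun B =>
    Subgroup.normal_of_index_eq_minFac_card (by rw [hidx B, hmin])
  have hpow : ∀ x : S, ∀ B : X, x ^ s • B = B := by
    intro x B
    have := hnorm B
    have h1 := Subgroup.pow_index_mem (MulAction.stabilizer S B) x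
    rw [hidx B] at h1
    exact h1
  suffices h : ∃ x : S, ∀ B : X, x • B ≠ B by
    obtain ⟨x, hx⟩ := h
    exact ⟨x.1, x.2, hx, hpow x⟩
  by_contra hcon
  push Not at hcon
  have h1 : ∀ x : S, s ≤ (Finset.univ.filter (fun B : X => x • B = B)).card := by
    intro x
    obtain ⟨B, hB⟩ := hcon x
    have h2 : ∀ C ∈ MulAction.orbit S B, x • C = C := by
      rintro _ ⟨y, rfl⟩
      have h3 : y⁻¹ * x * y ∈ MulAction.stabilizer S B := by
        have := (hnorm B).conj_mem x hB y⁻¹
        rwa [inv_inv] at this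
      have h4 : (y⁻¹ * x * y) • B = B := h3
      calc x • (y • B) = y • ((y⁻¹ * x * y) • B) := by
            rw [smul_smul, smul_smul]; congr 1; group
        _ = y • B := by rw [h4]
    refine (horb B).symm.le.trans ?_
    have h5 := Nat.card_le_card_of_injective
      (fun C : MulAction.orbit S B => (⟨C.1, Finset.mem_filter.2 ⟨Finset.mem_univ _, h2 C.1 C.2⟩⟩ :
        (Finset.univ.filter (fun B : X => x • B = B) : Finset X)))
      (fun C D h => Subtype.ext (congrArg (fun z : (Finset.univ.filter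
        (fun B : X => x • B = B) : Finset X) => (z : X)) h))
    rwa [Nat.card_eq_fintype_card (α := (Finset.univ.filter (fun B : X => x • B = B) : Finset X)),
      Fintype.card_coe] at h5
  have h2 : ∀ B : X, s * (Finset.univ.filter (fun x : S => x • B = B)).card = Fintype.card S := by
    intro B
    have h3 := Subgroup.card_mul_index (MulAction.stabilizer S B)
    rw [hidx B, Nat.card_eq_fintype_card (α := S)] at h3
    rw [← h3, mul_comm]
    congr 1
    rw [Nat.card_eq_fintype_card, Fintype.card_subtype]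
    rfl
  have h3 := Finset.sum_card_bipartiteAbove_eq_sum_card_bipartiteBelow
    (s := (Finset.univ : Finset S)) (t := (Finset.univ : Finset X)) (fun x B => x • B = B)
  have h4 : Fintype.card S * s ≤ ∑ x : S, (Finset.univ.filter (fun B : X => x • B = B)).card := by
    have := Finset.sum_le_sum (s := (Finset.univ : Finset S)) (fun x _ => h1 x)
    rwa [Finset.sum_const, Finset.card_univ, smul_eq_mul] at this
  have h5 : s * ∑ B : X, (Finset.univ.filter (fun x : S => x • B = B)).card =
      Fintype.card X * Fintype.card S := by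
    rw [Finset.mul_sum, Finset.sum_congr rfl (fun B _ => h2 B), Finset.sum_const,
      Finset.card_univ, smul_eq_mul]
  have h6 : ∑ x : S, (Finset.univ.filter (fun B : X => x • B = B)).card =
      ∑ B : X, (Finset.univ.filter (fun x : S => x • B = B)).card := h3
  rw [h6] at h4
  have h7 : (s * s) * Fintype.card S ≤ Fintype.card X * Fintype.card S := by
    calc (s * s) * Fintype.card S = s * (Fintype.card S * s) := by ring
      _ ≤ s * ∑ B : X, (Finset.univ.filter (fun x : S => x • B = B)).card :=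
        Nat.mul_le_mul_left _ h4
      _ = _ := h5
  have h8 : s * s ≤ Fintype.card X := Nat.le_of_mul_le_mul_right h7 Fintype.card_pos
  rw [Nat.card_eq_fintype_card] at hb
  rw [pow_two] at hb
  omega

end

section

variable {G Ω : Type*} [Group G] [MulAction G Ω]

/-- An `s`-element fixing every orbit of a normal elementary abelian `r`-subgroup all of whose
orbits have length `r` is trivial, unless `s ∣ r (r - 1)`. -/
theorem eq_one_of_fix_orbits [FaithfulSMul G Ω] [Finite Ω] {N : Subgroup G} (hnorm : N.Normal)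
    (hcomm : ∀ a ∈ N, ∀ b ∈ N, a * b = b * a) {r s : ℕ} (hr : r.Prime) (hs : s.Prime)
    (hexp : ∀ a ∈ N, a ^ r = 1) (horb : ∀ ω : Ω, Nat.card (MulAction.orbit N ω) = r)
    (hsr : s ≠ r) (hs1 : ¬ s ∣ r - 1) {g : G} {k : ℕ} (hg : g ^ s ^ k = 1)
    (hfix : ∀ ω : Ω, g • ω ∈ MulAction.orbit N ω) : g = 1 := by
  classical
  have := Fintype.ofFinite Ω
  have : Fact s.Prime := ⟨hs⟩
  apply FaithfulSMul.eq_of_smul_eq_smul (α := Ω)
  intro ω
  rw [one_smul]
  have hO : ∀ x, g • x ∈ MulAction.orbit N ω ↔ x ∈ MulAction.orbit N ω := by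
    intro x
    have h1 : MulAction.orbit N (g • x) = MulAction.orbit N x :=
      MulAction.orbit_eq_iff.2 (hfix x)
    constructor
    · intro h
      have h2 := MulAction.orbit_eq_iff.2 h
      rw [← h2, h1]
      exact MulAction.mem_orbit_self x
    · intro h
      have h2 := MulAction.orbit_eq_iff.2 h
      rw [← h2]
      exact hfix x
  let σ : Equiv.Perm {x // x ∈ MulAction.orbit N ω} :=
    (MulAction.toPerm g : Equiv.Perm Ω).subtypePerm hO
  have hσp : ∀ (j : ℕ) (x : {x // x ∈ MulAction.orbit N ω}), ((σ ^ j) x).1 = g ^ j • x.1 := by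
    intro j
    induction j with
    | zero => intro x; rw [pow_zero, pow_zero, one_smul]; rfl
    | succ j ih =>
      intro x
      rw [pow_succ', pow_succ', mul_smul, ← ih x]
      rfl
  have hσ : σ ^ s ^ k = 1 := by
    ext x
    rw [hσp, hg, one_smul]
    rfl
  have hcard : Fintype.card {x // x ∈ MulAction.orbit N ω} = r := by
    rw [← horb ω, Nat.card_eq_fintype_card]
  have hmod := Equiv.Perm.card_compl_support_modEq hσ
  rw [hcard] at hmod
  have hr1 := hr.one_lt
  have h2 : 1 < (σ.supportᶜ).card := by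
    by_contra h
    have h3 : (σ.supportᶜ).card = 0 ∨ (σ.supportᶜ).card = 1 := by omega
    rcases h3 with h3 | h3
    · rw [h3] at hmod
      have h4 : s ∣ r := (Nat.modEq_zero_iff_dvd).1 hmod.symm
      exact hsr ((Nat.prime_dvd_prime_iff_eq hs hr).1 h4)
    · rw [h3] at hmod
      exact hs1 ((Nat.modEq_iff_dvd' hr1.le).1 hmod)
  obtain ⟨a, ha, b, hb, hab⟩ := Finset.one_lt_card.1 h2
  rw [Finset.mem_compl, Equiv.Perm.notMem_support] at ha hb
  have ha' : g • a.1 = a.1 := congrArg Subtype.val ha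
  have hb' : g • b.1 = b.1 := congrArg Subtype.val hb
  have hab' : a.1 ≠ b.1 := fun h => hab (Subtype.ext h)
  obtain ⟨n, hn⟩ : b.1 ∈ MulAction.orbit N a.1 := by
    rw [MulAction.orbit_eq_iff.2 a.2]; exact b.2
  have hn' : n.1 • a.1 = b.1 := hn
  -- all points `n ^ i • a` are fixed
  have hall : ∀ i : ℕ, g • ((n.1 ^ i) • a.1) = (n.1 ^ i) • a.1 := by
    intro i
    induction i with
    | zero => rw [pow_zero, one_smul, ha']
    | succ i ih =>
      have h3 : g * n.1 * g⁻¹ ∈ N := hnorm.conj_mem _ n.2 g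
      have h4 := hcomm _ h3 _ (N.pow_mem n.2 i)
      have h5 : g * n.1 ^ (i + 1) = (g * n.1 * g⁻¹) * (g * n.1 ^ i) := by
        rw [pow_succ']; group
      have h6 : (g * n.1 * g⁻¹) • a.1 = n.1 • a.1 := by
        have h7 : g⁻¹ • a.1 = a.1 := by rw [inv_smul_eq_iff, ha']
        rw [mul_smul, mul_smul, h7, hn', hb']
      calc g • (n.1 ^ (i + 1) • a.1) = (g * n.1 ^ (i + 1)) • a.1 := (mul_smul _ _ _).symm
        _ = (g * n.1 * g⁻¹) • (g • (n.1 ^ i • a.1)) := by
          rw [h5, mul_smul (g * n.1 * g⁻¹), mul_smul g]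
        _ = (g * n.1 * g⁻¹) • (n.1 ^ i • a.1) := by rw [ih]
        _ = (n.1 ^ i * (g * n.1 * g⁻¹)) • a.1 := by rw [← mul_smul, h4]
        _ = n.1 ^ i • (n.1 • a.1) := by rw [mul_smul, h6]
        _ = n.1 ^ (i + 1) • a.1 := by rw [← mul_smul, ← pow_succ]
  -- and they exhaust the orbit
  let x : Equiv.Perm Ω := MulAction.toPerm n.1
  have hxa : x a.1 ≠ a.1 := by
    change n.1 • a.1 ≠ a.1
    rw [hn']; exact hab'.symm
  have hxr : x ^ r = 1 := by
    have h2 : (MulAction.toPermHom G Ω n.1) ^ r = 1 := by rw [← map_pow, hexp _ n.2, map_one]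
    exact h2
  have : Fact r.Prime := ⟨hr⟩
  have hxo : orderOf x = r := orderOf_eq_prime hxr (fun h => hxa (by rw [h]; rfl))
  have hxpow : ∀ i : ℕ, (x ^ i) a.1 = n.1 ^ i • a.1 := by
    intro i
    have h2 : (MulAction.toPermHom G Ω n.1) ^ i = MulAction.toPermHom G Ω (n.1 ^ i) :=
      (map_pow _ _ _).symm
    exact congrArg (fun y : Equiv.Perm Ω => y a.1) h2
  let f : Fin r → {x // x ∈ MulAction.orbit N ω} := fun i => ⟨n.1 ^ (i : ℕ) • a.1, by
    have h : n.1 ^ (i : ℕ) • a.1 ∈ MulAction.orbit N a.1 := ⟨n ^ (i : ℕ), rfl⟩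
    rwa [MulAction.orbit_eq_iff.2 a.2] at h⟩
  have hf : Function.Injective f := by
    intro i j hij
    have h3 : n.1 ^ (i : ℕ) • a.1 = n.1 ^ (j : ℕ) • a.1 := congrArg Subtype.val hij
    rw [← hxpow, ← hxpow] at h3
    exact Fin.ext (pow_inj_of_ne hr hxo hxa i.2 j.2 h3)
  have hfb : Function.Bijective f := by
    rw [Fintype.bijective_iff_injective_and_card]
    exact ⟨hf, by rw [Fintype.card_fin, hcard]⟩
  obtain ⟨i, hi⟩ := hfb.2 ⟨ω, MulAction.mem_orbit_self ω⟩
  have hi' : n.1 ^ (i : ℕ) • a.1 = ω := congrArg Subtype.val hi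
  rw [← hi']
  exact hall i

end

end Cfsg.Agent.H409
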