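import Cfsg.Agent.H409.CycleCount
import Cfsg.Agent.S0711
import Cfsg.Agent.S0713

/-!
A five-transitive group of even permutations of degree `2 r + 3` or `3 r + 4`, `r ≥ 5` prime,
contains the alternating group.
-/

set_option autoImplicit false

namespace Cfsg.Agent.H409

open Equiv Equiv.Perm

section

variable {Ω : Type*} [Fintype Ω] [DecidableEq Ω]

/-- `x` is an element of order `r` in `K` with the fewest moved points. -/
structure MinElt (K : Subgroup (Perm Ω)) (r : ℕ) (x : Perm Ω) : Prop where
  mem : x ∈ K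
  ord : orderOf x = r
  min : ∀ z ∈ K, orderOf z = r → x.support.card ≤ z.support.card

theorem eq_zpowers_of_le {K : Subgroup (Perm Ω)} {r : ℕ} [Fact r.Prime] {x : Perm Ω}
    (hx : MinElt K r x) (hn : Fintype.card Ω < r ^ 2) {T : Finset Ω}
    (hTc : (x.supportᶜ \ T).card < r) {R : Subgroup (Perm Ω)} (hRK : R ≤ K)
    (hR : IsPGroup r R) (hRT : ∀ g ∈ R, ∀ t ∈ T, g t = t) (hxR : Subgroup.zpowers x ≤ R) :
    R = Subgroup.zpowers x := by
  have hr : r.Prime := Fact.out
  have hxm : x ∈ R := hxR (Subgroup.mem_zpowers x)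
  have orb : ∀ a : Ω, Nat.card (MulAction.orbit R a) = 1 ∨ Nat.card (MulAction.orbit R a) = r := by
    intro a
    obtain ⟨k, hk⟩ := hR.card_orbit a
    have h1 : Nat.card (MulAction.orbit R a) ≤ Nat.card Ω :=
      Nat.card_le_card_of_injective _ Subtype.val_injective
    rw [Nat.card_eq_fintype_card (α := Ω)] at h1
    have h2 : r ^ k < r ^ 2 := by rw [← hk]; exact h1.trans_lt hn
    have h3 : k < 2 := (Nat.pow_lt_pow_iff_right hr.one_lt).1 h2
    interval_cases k
    · left; rw [hk, pow_zero]
    · right; rw [hk, pow_one]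
  have hmemO : ∀ (a : Ω) (g : Perm Ω), g ∈ R → g a ∈ MulAction.orbit R a := fun a g hg =>
    ⟨⟨g, hg⟩, rfl⟩
  have hpowO : ∀ (a b : Ω) (i : ℕ), b ∈ MulAction.orbit R a → (x ^ i) b ∈ MulAction.orbit R a := by
    rintro a b i ⟨g, rfl⟩
    exact ⟨⟨x ^ i, R.pow_mem hxm i⟩ * g, rfl⟩
  -- `R` fixes all fixed points of `x`
  have hfix : ∀ a, x a = a → ∀ g ∈ R, g a = a := by
    intro a ha g hg
    by_cases haT : a ∈ T
    · exact hRT g hg a haT
    rcases orb a with h | h
    · rw [Nat.card_eq_one_iff_unique] at h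
      obtain ⟨h1, -⟩ := h
      exact congrArg Subtype.val (h1.elim ⟨g a, hmemO a g hg⟩ ⟨a, MulAction.mem_orbit_self a⟩)
    · exfalso
      have h1 : ∀ b ∈ MulAction.orbit R a, b ∈ x.supportᶜ \ T := by
        intro b hb
        rw [Finset.mem_sdiff, Finset.mem_compl, Equiv.Perm.notMem_support]
        refine ⟨?_, ?_⟩
        · by_contra hne
          let f : Fin r → MulAction.orbit R a := fun i => ⟨(x ^ (i : ℕ)) b, hpowO a b i hb⟩
          have hf : Function.Injective f := by
            intro i j hij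
            exact Fin.ext (pow_inj_of_ne hr hx.ord hne i.2 j.2 (congrArg Subtype.val hij))
          have hf2 : Function.Bijective f := by
            rw [Nat.bijective_iff_injective_and_card]
            exact ⟨hf, by rw [Nat.card_eq_fintype_card, Fintype.card_fin, h]⟩
          obtain ⟨i, hi⟩ := hf2.2 ⟨a, MulAction.mem_orbit_self a⟩
          have hi' : (x ^ (i : ℕ)) b = a := congrArg Subtype.val hi
          apply hne
          apply (x ^ (i : ℕ)).injective
          rw [← Equiv.Perm.mul_apply, ← pow_succ, pow_succ', Equiv.Perm.mul_apply, hi', ha]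
        · intro hbT
          obtain ⟨g, rfl⟩ := hb
          have h2 := hRT (g⁻¹ : R).1 (g⁻¹ : R).2 _ hbT
          have h3 : (g⁻¹ : R).1 (g • a) = a := by
            change g⁻¹ • (g • a) = a
            rw [inv_smul_smul]
          rw [h3] at h2
          apply haT
          rw [h2]; exact hbT
      have h2 : Nat.card (MulAction.orbit R a) ≤ (x.supportᶜ \ T).card := by
        have := Nat.card_le_card_of_injective
          (fun b : MulAction.orbit R a => (⟨b.1, h1 b.1 b.2⟩ : (x.supportᶜ \ T : Finset Ω)))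
          (fun b c h => Subtype.ext (congrArg (fun z : (x.supportᶜ \ T : Finset Ω) => (z : Ω)) h))
        rwa [Nat.card_eq_fintype_card (α := (x.supportᶜ \ T : Finset Ω)), Fintype.card_coe] at this
      omega
  -- a moved point
  have hx1 : x ≠ 1 := by
    intro h
    have := hx.ord
    rw [h, orderOf_one] at this
    exact hr.one_lt.ne this
  obtain ⟨a, ha⟩ : ∃ a, x a ≠ a := by
    by_contra h
    push Not at h
    exact hx1 (Equiv.ext h)
  have horb : Nat.card (MulAction.orbit R a) = r := by
    rcases orb a with h | h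
    · exfalso
      rw [Nat.card_eq_one_iff_unique] at h
      obtain ⟨h1, -⟩ := h
      exact ha (congrArg Subtype.val (h1.elim ⟨x a, hmemO a x hxm⟩ ⟨a, MulAction.mem_orbit_self a⟩))
    · exact h
  have hstab : Nat.card (MulAction.stabilizer R a) = 1 := by
    by_contra hne
    have hsp : IsPGroup r (MulAction.stabilizer R a) := hR.to_subgroup _
    obtain ⟨k, hk⟩ := hsp.exists_card_eq
    have hk0 : k ≠ 0 := by
      rintro rfl
      exact hne hk
    have hdvd : r ∣ Nat.card (MulAction.stabilizer R a) := by rw [hk]; exact dvd_pow_self r hk0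
    obtain ⟨z, hz⟩ := exists_prime_orderOf_dvd_card' r hdvd
    let z' : Perm Ω := z.1.1
    have hz' : orderOf z' = r := by
      rw [← hz]
      change orderOf (z.1.1) = _
      rw [Subgroup.orderOf_coe, Subgroup.orderOf_coe]
    have hzR : z' ∈ R := z.1.2
    have h1 := hx.min z' (hRK hzR) hz'
    have h2 : z'.support ⊂ x.support := by
      rw [Finset.ssubset_iff_of_subset]
      · refine ⟨a, Equiv.Perm.mem_support.2 ha, ?_⟩
        rw [Equiv.Perm.notMem_support]
        exact z.2
      · intro b hb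
        rw [Equiv.Perm.mem_support] at hb ⊢
        intro h
        exact hb (hfix b h z' hzR)
    exact absurd (Finset.card_lt_card h2) (not_lt.2 h1)
  have hcard : Nat.card R = r := by
    classical
    have h1 := Subgroup.card_mul_index (MulAction.stabilizer R a)
    rw [hstab, one_mul, MulAction.index_stabilizer] at h1
    rw [← h1, ← horb, Nat.card_coe_set_eq]
  symm
  apply Subgroup.eq_of_le_of_card_ge hxR
  rw [hcard, Nat.card_zpowers, hx.ord]

/-- Normalising elements with prescribed action on fixed points. -/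
theorem exists_normalizing {K : Subgroup (Perm Ω)} {r k : ℕ} [Fact r.Prime] {x : Perm Ω}
    (hK : MulAction.IsMultiplyPretransitive K Ω k)
    (hx : MinElt K r x) (hn : Fintype.card Ω < r ^ 2)
    (hc : Fintype.card Ω < x.support.card + k + r) (a b : Fin k ↪ Ω)
    (ha : ∀ i, x (a i) = a i) (hb : ∀ i, x (b i) = b i) :
    ∃ n ∈ K, (∀ i, n (a i) = b i) ∧ ∃ j : ℤ, n * x * n⁻¹ = x ^ j := by
  obtain ⟨g, hg⟩ := hK.exists_smul_eq a b
  have hg' : ∀ i, g.1 (a i) = b i := fun i => DFunLike.congr_fun hg i
  let S : Subgroup (Perm Ω) :=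
    { carrier := {g | g ∈ K ∧ ∀ i, g (b i) = b i}
      mul_mem' := by
        rintro u v ⟨hu1, hu2⟩ ⟨hv1, hv2⟩
        exact ⟨K.mul_mem hu1 hv1, fun i => by rw [Equiv.Perm.mul_apply, hv2, hu2]⟩
      one_mem' := ⟨K.one_mem, fun i => rfl⟩
      inv_mem' := by
        rintro u ⟨hu1, hu2⟩
        exact ⟨K.inv_mem hu1, fun i => by rw [Equiv.Perm.inv_eq_iff_eq, hu2]⟩ }
  have hXr : IsPGroup r (Subgroup.zpowers x) :=
    IsPGroup.of_card (n := 1) (by rw [Nat.card_zpowers, hx.ord, pow_one])
  have hXS : Subgroup.zpowers x ≤ S := by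
    rw [Subgroup.zpowers_le]
    exact ⟨hx.mem, hb⟩
  have hYS : Subgroup.zpowers (g.1 * x * g.1⁻¹) ≤ S := by
    rw [Subgroup.zpowers_le]
    refine ⟨K.mul_mem (K.mul_mem g.2 hx.mem) (K.inv_mem g.2), fun i => ?_⟩
    have h1 : g.1⁻¹ (b i) = a i := by rw [Equiv.Perm.inv_eq_iff_eq, hg']
    rw [Equiv.Perm.mul_apply, Equiv.Perm.mul_apply, h1, ha, hg']
  have hYr : IsPGroup r (Subgroup.zpowers (g.1 * x * g.1⁻¹)) :=
    IsPGroup.of_card (n := 1) (by
      rw [Nat.card_zpowers, pow_one]
      have : g.1 * x * g.1⁻¹ = MulAut.conj g.1 x := rfl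
      rw [this, MulEquiv.orderOf_eq, hx.ord])
  obtain ⟨s, hs, hs2⟩ := exists_conj_mem hXS hYS hXr hYr (by
    intro R hRS hR hXR
    refine eq_zpowers_of_le hx hn (T := Finset.univ.map b) ?_ (fun g hg => (hRS hg).1) hR ?_ hXR
    · rw [Finset.card_sdiff_of_subset]
      · rw [Finset.card_compl, Finset.card_map, Finset.card_univ, Fintype.card_fin]
        have h1 : x.support.card ≤ Fintype.card Ω := Finset.card_le_univ _
        have h2 : 0 < r := (Fact.out : r.Prime).pos
        omega
      · intro t ht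
        obtain ⟨i, -, rfl⟩ := Finset.mem_map.1 ht
        rw [Finset.mem_compl, Equiv.Perm.notMem_support]
        exact hb i
    · intro g hg t ht
      obtain ⟨i, -, rfl⟩ := Finset.mem_map.1 ht
      exact (hRS hg).2 i)
  refine ⟨s * g.1, K.mul_mem hs.1 g.2, fun i => ?_, ?_⟩
  · rw [Equiv.Perm.mul_apply, hg', hs.2]
  · obtain ⟨j, hj⟩ := Subgroup.mem_zpowers_iff.1 (hs2 _ (Subgroup.mem_zpowers _))
    refine ⟨j, ?_⟩
    rw [hj]; group

/-- The case of a three-cycle on fixed points. -/
theorem alt_of_comm {K : Subgroup (Perm Ω)} (h5 : MulAction.IsMultiplyPretransitive K Ω 5)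
    (hn5 : 5 ≤ Fintype.card Ω) {r : ℕ} (hr : r.Prime) (hr5 : 5 ≤ r) {x : Perm Ω}
    (hx : orderOf x = r) (hxs : x.support.card < 3 * r) {y : Perm Ω} (hy : y ∈ K)
    (hyx : Commute y x) {a b c : Ω} (hab : y a = b) (hbc : y b = c) (hca : y c = a) (hne : a ≠ b)
    (hfix : ∀ d, x d = d → d ≠ a → d ≠ b → d ≠ c → y d = d) : alternatingGroup Ω ≤ K := by
  have hw1 : y ^ (2 * r) ≠ 1 := by
    intro h
    have h1 : Function.IsPeriodicPt y (2 * r) a := by
      change y^[2 * r] a = a
      rw [Equiv.Perm.iterate_eq_pow, h]; rfl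
    have h3 : Function.IsPeriodicPt y 3 a := by
      change y (y (y a)) = a
      rw [hab, hbc, hca]
    have h4 := h1.gcd h3
    have h5 : Nat.gcd (2 * r) 3 = 1 := by
      have h6 : Nat.Coprime (2 * r) 3 := by
        apply Nat.Coprime.mul_left (by norm_num)
        rw [Nat.coprime_primes hr (by norm_num)]
        omega
      exact h6
    rw [h5] at h4
    have h6 : y a = a := h4
    exact hne (h6.symm.trans hab)
  refine (Cfsg.Agent.S0711.result K (by norm_num : 3 ≤ 5) hn5 h5 (y ^ (2 * r)) (K.pow_mem hy _) hw1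
    ?_).2
  have hsub : (y ^ (2 * r)).support ⊆ {a, b, c} := by
    intro d hd
    rw [Equiv.Perm.mem_support] at hd
    by_contra hd2
    rw [Finset.mem_insert, Finset.mem_insert, Finset.mem_singleton] at hd2
    push Not at hd2
    apply hd
    by_cases hxd : x d = d
    · exact Function.IsFixedPt.perm_pow (hfix d hxd hd2.1 hd2.2.1 hd2.2.2) _
    · exact pow_two_mul_fix hr hx hyx hxs hxd
  have h1 := Finset.card_le_card hsub
  have h2 : ({a, b, c} : Finset Ω).card ≤ 3 := Finset.card_le_three
  omega

/-- The case of a double transposition on fixed points. -/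
theorem alt_of_comm' {K : Subgroup (Perm Ω)} (h5 : MulAction.IsMultiplyPretransitive K Ω 5)
    (hn5 : 5 ≤ Fintype.card Ω) (hev : ∀ g ∈ K, sign g = 1) {r : ℕ} (hr : r.Prime) (hr5 : 5 ≤ r)
    {x : Perm Ω} (hx : orderOf x = r) (hxs : x.support.card = 3 * r)
    (hcard : Fintype.card Ω = 3 * r + 4) {y : Perm Ω} (hy : y ∈ K)
    (hyx : Commute y x) (hfix : ∀ d, x d = d → y (y d) = d ∧ y d ≠ d) :
    alternatingGroup Ω ≤ K := by
  have : Fact r.Prime := ⟨hr⟩
  have hodd : r % 2 = 1 := hr.eq_two_or_odd.resolve_left (by omega)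
  set w := y ^ (3 * r) with hw
  have hwK : w ∈ K := K.pow_mem hy _
  have hwF : ∀ d, x d = d → w d = y d := by
    intro d hd
    obtain ⟨j, hj⟩ : ∃ j, 3 * r = j * 2 + 1 := ⟨3 * r / 2, by omega⟩
    rw [hw, hj, pow_succ', mul_comm, pow_mul, Equiv.Perm.mul_apply]
    congr 1
    apply Function.IsFixedPt.perm_pow
    change (y ^ 2) d = d
    rw [pow_two, Equiv.Perm.mul_apply]
    exact (hfix d hd).1
  have hw2 : w ^ 2 = 1 := by
    ext d
    by_cases hd : x d = d
    · rw [hw, ← pow_mul, mul_comm, pow_mul]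
      apply Function.IsFixedPt.perm_pow
      change (y ^ 2) d = d
      rw [pow_two, Equiv.Perm.mul_apply]
      exact (hfix d hd).1
    · rw [hw, ← pow_mul, show 3 * r * 2 = 6 * r by ring]
      exact pow_six_mul_fix hr hx hyx (by omega) hd
  have hwx : Commute w x := hyx.pow_left _
  -- the fixed points of `w`
  have hmod : r ∣ (w.supportᶜ).card := by
    let x' : Perm {d // w d = d} := x.subtypePerm (p := fun d => w d = d) (by
      intro d
      have h1 : w (x d) = x (w d) := by
        calc w (x d) = (w * x) d := rfl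
          _ = (x * w) d := by rw [hwx.eq]
          _ = _ := rfl
      rw [h1]
      exact x.injective.eq_iff)
    have h1 : x' ^ r ^ 1 = 1 := by
      ext d
      rw [pow_one, Equiv.Perm.subtypePerm_pow]
      change (x ^ r) d.1 = d.1
      rw [← hx, pow_orderOf_eq_one]; rfl
    have h2 := Equiv.Perm.card_compl_support_modEq h1
    have h3 : x'.supportᶜ = ∅ := by
      rw [Finset.eq_empty_iff_forall_notMem]
      intro d hd
      rw [Finset.mem_compl, Equiv.Perm.notMem_support] at hd
      have h4 : x d.1 = d.1 := congrArg Subtype.val hd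
      have h5 := d.2
      rw [hwF d.1 h4] at h5
      exact (hfix d.1 h4).2 h5
    rw [h3, Finset.card_empty] at h2
    have h4 : Fintype.card {d // w d = d} = (w.supportᶜ).card := by
      rw [Fintype.card_subtype]
      congr 1
      ext d
      rw [Finset.mem_filter, Finset.mem_compl, Equiv.Perm.notMem_support]
      exact ⟨fun h => h.2, fun h => ⟨Finset.mem_univ _, h⟩⟩
    rw [h4] at h2
    exact (Nat.modEq_zero_iff_dvd).1 h2.symm
  have h4dvd : 4 ∣ w.support.card := by
    have h1 := (Equiv.Perm.pow_prime_eq_one_iff (p := 2)).1 hw2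
    have h2 : w.cycleType = Multiset.replicate (Multiset.card w.cycleType) 2 :=
      Multiset.eq_replicate_card.2 h1
    have h3 : w.cycleType.sum = 2 * Multiset.card w.cycleType := by
      conv_lhs => rw [h2]
      rw [Multiset.sum_replicate, smul_eq_mul, mul_comm]
    have h4 := Equiv.Perm.sign_of_cycleType w
    rw [hev w hwK, h3] at h4
    have h5 : Even (2 * Multiset.card w.cycleType + Multiset.card w.cycleType) := by
      by_contra hne
      rw [Nat.not_even_iff_odd] at hne
      rw [hne.neg_one_pow] at h4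
      exact absurd h4 (by decide)
    rw [← Equiv.Perm.sum_cycleType, h3]
    obtain ⟨c, hc⟩ := h5
    omega
  have hsub4 : (w.support).card = 4 := by
    obtain ⟨c, hc⟩ := hmod
    have h1 : (w.supportᶜ).card + w.support.card = 3 * r + 4 := by
      rw [Finset.card_compl, ← hcard]
      exact Nat.sub_add_cancel (Finset.card_le_univ _)
    obtain ⟨e, he⟩ := h4dvd
    have h2 : c ≤ 3 := by
      by_contra h
      push Not at h
      have : r * 4 ≤ r * c := Nat.mul_le_mul_left _ h
      have h3 : x.supportᶜ ⊆ w.support := by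
        intro d hd
        rw [Finset.mem_compl, Equiv.Perm.notMem_support] at hd
        rw [Equiv.Perm.mem_support, hwF d hd]
        exact (hfix d hd).2
      have h4 := Finset.card_le_card h3
      rw [Finset.card_compl, hcard, hxs] at h4
      omega
    interval_cases c
    · exfalso; omega
    · exfalso; omega
    · exfalso; omega
    · omega
  have hw1 : w ≠ 1 := by
    intro h
    rw [h, Equiv.Perm.support_one, Finset.card_empty] at hsub4
    exact absurd hsub4 (by norm_num)
  exact (Cfsg.Agent.S0711.result K (by norm_num : 3 ≤ 5) hn5 h5 w hwK hw1 (by omega)).2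

end

end Cfsg.Agent.H409
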