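import Cfsg.Agent.H409.PairStab

/-!
5-transitivity of transitive insoluble groups of prime degree `p = q + 2` (`q > 5` prime) whose
Sylow `p`-normaliser has order `p (p - 1) / 2`.
-/

set_option autoImplicit false

namespace Cfsg.Agent.H409

section

variable {G Ω : Type*} [Group G] [MulAction G Ω]

/-- The group order in terms of the stabiliser of two points. -/
theorem card_eq_of_two [Finite G] [Finite Ω] {α β : Ω} (hαβ : α ≠ β)
    (htwo : ∀ a b c d : Ω, a ≠ b → c ≠ d → ∃ g : G, g • a = c ∧ g • b = d) :
    Nat.card G = Nat.card Ω * (Nat.card Ω - 1) * Nat.card (pointStab G α β) := by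
  classical
  have := Fintype.ofFinite Ω
  have h1 := MulAction.index_stabilizer G ((α, β) : Ω × Ω)
  have h2 : MulAction.orbit G ((α, β) : Ω × Ω) =
      ((Finset.univ : Finset Ω).offDiag : Set (Ω × Ω)) := by
    ext ⟨x, y⟩
    rw [Finset.mem_coe, Finset.mem_offDiag]
    constructor
    · rintro ⟨g, hg⟩
      have hx : g • α = x := congrArg Prod.fst hg
      have hy : g • β = y := congrArg Prod.snd hg
      refine ⟨Finset.mem_univ _, Finset.mem_univ _, ?_⟩
      rw [← hx, ← hy]
      exact inj' hαβ
    · rintro ⟨-, -, hxy⟩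
      obtain ⟨g, hg1, hg2⟩ := htwo α β x y hαβ hxy
      exact ⟨g, Prod.ext hg1 hg2⟩
  rw [h2, Set.ncard_coe_finset, Finset.offDiag_card, Finset.card_univ,
    ← Nat.card_eq_fintype_card] at h1
  have h3 := Subgroup.card_mul_index (MulAction.stabilizer G ((α, β) : Ω × Ω))
  have h4 : Nat.card (MulAction.stabilizer G ((α, β) : Ω × Ω)) =
      Nat.card (pointStab G α β) := by
    refine Nat.card_congr
      { toFun := fun g => ⟨⟨g.1, mem_pairStab_of_fix (congrArg Prod.fst g.2)
            (congrArg Prod.snd g.2)⟩, ⟨congrArg Prod.fst g.2, congrArg Prod.snd g.2⟩⟩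
        invFun := fun g => ⟨g.1.1, Prod.ext g.2.1 g.2.2⟩
        left_inv := fun g => rfl
        right_inv := fun g => rfl }
  rw [← h3, h1, h4]
  have h5 : Nat.card Ω * Nat.card Ω - Nat.card Ω = Nat.card Ω * (Nat.card Ω - 1) := by
    rw [Nat.mul_sub, mul_one]
  rw [h5]; ring

/-- The arithmetic used to show that the two-point stabiliser is not solvable. -/
theorem arith_contra {p q m : ℕ} (hp : p.Prime) (hq : q.Prime) (hq5 : 5 < q) (hpq : p = q + 2) (hm : 0 < m)
    (hmd : m ∣ q - 1) (hmod : 2 * (q * m) ≡ 1 [MOD p]) : False := by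
  have h1 : p ∣ 4 * m + 1 := by
    have h2 : 2 * (q * m) + 4 * m ≡ 1 + 4 * m [MOD p] := Nat.ModEq.add_right _ hmod
    have h3 : 2 * (q * m) + 4 * m = p * (2 * m) := by rw [hpq]; ring
    rw [h3] at h2
    have h4 : p * (2 * m) ≡ 0 [MOD p] := by
      rw [Nat.modEq_zero_iff_dvd]; exact dvd_mul_right _ _
    have h5 := h4.symm.trans h2
    rw [add_comm] at h5
    exact (Nat.modEq_zero_iff_dvd).1 h5.symm
  obtain ⟨c, hc⟩ := h1
  obtain ⟨d, hd⟩ := hmd
  have hodd : q % 2 = 1 := hq.eq_two_or_odd.resolve_left (by omega)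
  have hd0 : 0 < d := by
    rcases Nat.eq_zero_or_pos d with h | h
    · subst h; omega
    · exact h
  have hmq : m ≤ q - 1 := by rw [hd]; exact Nat.le_mul_of_pos_right _ hd0
  have hc4 : c < 4 := by
    by_contra h
    push Not at h
    have : p * 4 ≤ p * c := Nat.mul_le_mul_left _ h
    omega
  have hd5 : c * d < 5 := by
    -- `c p d = 4 (q - 1) + d`
    by_contra h
    push Not at h
    have h2 : p * (c * d) = 4 * (m * d) + d := by
      rw [← mul_assoc, ← hc]; ring
    have h3 : p * 5 ≤ p * (c * d) := Nat.mul_le_mul_left _ h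
    have h4 : d ≤ q - 1 := by rw [hd]; exact Nat.le_mul_of_pos_left _ hm
    omega
  -- `c * d` is at most four
  have hc0 : 0 < c := by
    rcases Nat.eq_zero_or_pos c with h | h
    · subst h; omega
    · exact h
  have hd4 : d ≤ 4 := by
    by_contra h
    push Not at h
    have : 1 * 5 ≤ c * d := Nat.mul_le_mul hc0 h
    omega
  have e1 : m * d = q - 1 := hd.symm
  interval_cases c <;> interval_cases d <;> first
    | omega
    | (exfalso
       have : q = 9 := by omega
       subst this
       exact absurd hq (by norm_num))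
    | (exfalso
       have : p = 9 := by omega
       subst this
       exact absurd hp (by norm_num))

variable [FaithfulSMul G Ω]

/-- The main step: the pointwise stabiliser of two points is three-transitive on the others. -/
theorem off_same [Finite G] [Finite Ω] {p q : ℕ} [Fact p.Prime] (hΩ : Nat.card Ω = p)
    (htrans : MulAction.IsPretransitive G Ω) (hins : ¬ Group.IsSolvable G) (P : Sylow p G)
    (hN : 2 * Nat.card ↥(Subgroup.normalizer ((P : Subgroup G) : Set G)) = p * (p - 1))
    (hq : q.Prime) (hq5 : 5 < q) (hpq : p = q + 2) {α β : Ω} (hαβ : α ≠ β)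
    {x y z x' y' z' : Off α β} (hxy : x ≠ y) (hxz : x ≠ z) (hyz : y ≠ z) (hxy' : x' ≠ y')
    (hxz' : x' ≠ z') (hyz' : y' ≠ z') :
    ∃ n ∈ pointStab G α β, n • x = x' ∧ n • y = y' ∧ n • z = z' := by
  classical
  have := Fintype.ofFinite Ω
  have hp : p.Prime := Fact.out
  have : Fact q.Prime := ⟨hq⟩
  have htwo := two_transitive (G := G) (Ω := Ω) (by rw [hΩ]; exact hp) htrans hins
  have hp2 : p ≠ 2 := by omega
  have hoddp : p % 2 = 1 := hp.eq_two_or_odd.resolve_left hp2
  -- three-transitivity
  have h3 : ∀ a b c a' b' c' : Ω, a ≠ b → a ≠ c → b ≠ c → a' ≠ b' → a' ≠ c' → b' ≠ c' →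
      Same G a b c a' b' c' := by
    intro a b c a' b' c' h1 h2 h3 h4 h5 h6
    have h13 : p % 4 = 1 ∨ p % 4 = 3 := by omega
    rcases h13 with h | h
    · exact same_of_one_mod_four hΩ htrans hins P hN h h1 h2 h3 h4 h5 h6
    · obtain ⟨e, he⟩ := exists_half_label hΩ htrans P hN
      exact same_of_three_mod_four hΩ htrans hins h (by omega)
        (by rwa [show p - 2 = q by omega]) he h1 h2 h3 h4 h5 h6
  -- faithfulness on the remaining points
  have hfaith : FaithfulSMul (pairStab G α β) (Off α β) := by
    constructor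
    suffices h : ∀ g : pairStab G α β, (∀ x : Off α β, g • x = x) → g = 1 by
      intro g h' hgh
      have := h (h'⁻¹ * g) (fun x => by rw [mul_smul, hgh x, inv_smul_smul])
      exact (inv_mul_eq_one.1 this).symm
    intro g hg
    have hg' : ∀ x : Ω, x ≠ α → x ≠ β → g.1 • x = x := fun x hx1 hx2 =>
      congrArg Subtype.val (hg ⟨x, fun h => h.elim hx1 hx2⟩)
    rcases fix_or_swap g with ⟨h1, h2⟩ | ⟨h1, h2⟩
    · apply Subtype.ext
      apply FaithfulSMul.eq_of_smul_eq_smul (α := Ω)
      intro x
      rw [Subgroup.coe_one, one_smul]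
      by_cases hx1 : x = α
      · rw [hx1, h1]
      by_cases hx2 : x = β
      · rw [hx2, h2]
      exact hg' x hx1 hx2
    · exfalso
      have h4 : (MulAction.toPerm g.1 : Equiv.Perm Ω) = Equiv.swap α β := by
        ext x
        change g.1 • x = _
        by_cases hx1 : x = α
        · rw [hx1, h1, Equiv.swap_apply_left]
        by_cases hx2 : x = β
        · rw [hx2, h2, Equiv.swap_apply_right]
        rw [hg' x hx1 hx2, Equiv.swap_apply_of_ne_of_ne hx1 hx2]
      have h5 := sign_eq_one hp2 hΩ htrans P hN g.1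
      rw [h4, Equiv.Perm.sign_swap hαβ] at h5
      exact absurd h5 (by decide)
  have hoff : Nat.card (Off α β) = q := by rw [card_off hαβ, hΩ]; omega
  have hαx : ∀ x : Off α β, α ≠ x.1 := fun x h => x.2 (Or.inl h.symm)
  have hβx : ∀ x : Off α β, β ≠ x.1 := fun x h => x.2 (Or.inr h.symm)
  -- transitivity of the pointwise stabiliser
  have htr0 : ∀ x y : Off α β, ∃ n ∈ pointStab G α β, n • x = y := by
    intro x y
    obtain ⟨g, h1, h2, h3'⟩ := h3 α β x.1 α β y.1 hαβ (hαx x) (hβx x) hαβ (hαx y) (hβx y)
    exact ⟨⟨g, mem_pairStab_of_fix h1 h2⟩, ⟨h1, h2⟩, Subtype.ext h3'⟩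
  have htrN : MulAction.IsPretransitive (pointStab G α β) (Off α β) := by
    constructor
    intro x y
    obtain ⟨n, hn, h⟩ := htr0 x y
    exact ⟨⟨n, hn⟩, h⟩
  have htrD : MulAction.IsPretransitive (pairStab G α β) (Off α β) := by
    constructor
    intro x y
    obtain ⟨n, hn, h⟩ := htr0 x y
    exact ⟨n, h⟩
  have hfaithN : FaithfulSMul (pointStab G α β) (Off α β) := by
    constructor
    intro g h hgh
    apply Subtype.ext
    apply FaithfulSMul.eq_of_smul_eq_smul (α := Off α β)
    exact hgh
  -- the pointwise stabiliser is not solvable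
  have hqdvd : q ∣ Nat.card (pointStab G α β) := by
    have h1 := MulAction.index_stabilizer_of_transitive (pointStab G α β) x
    rw [hoff] at h1
    rw [← h1]
    exact Subgroup.index_dvd_card _
  have hnsN : ¬ Group.IsSolvable (pointStab G α β) := by
    intro hs
    have h1 := card_dvd_of_solvable hq hoff htrN hs
    obtain ⟨m, hm⟩ := hqdvd
    rw [hm] at h1
    have hmd : m ∣ q - 1 := Nat.dvd_of_mul_dvd_mul_left hq.pos h1
    have hm0 : 0 < m := by
      rcases Nat.eq_zero_or_pos m with h | h
      · exfalso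
        rw [h, mul_zero] at hm
        exact Nat.card_pos.ne' hm
      · exact h
    have hG := card_eq_of_two (G := G) hαβ htwo
    rw [hΩ] at hG
    have hsyl : Nat.card (Sylow p G) = 2 * (q * m) := by
      have h2 : Nat.card (Sylow p G) =
        (Subgroup.normalizer ((P : Subgroup G) : Set G)).index := P.card_eq_index_normalizer
      have h4 := Subgroup.card_mul_index (Subgroup.normalizer ((P : Subgroup G) : Set G))
      rw [← h2, hG, hm] at h4
      have h5 : (p * (p - 1)) * Nat.card (Sylow p G) = (p * (p - 1)) * (2 * (q * m)) := by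
        rw [← hN]
        calc 2 * Nat.card ↥(Subgroup.normalizer ((P : Subgroup G) : Set G)) * Nat.card (Sylow p G)
            = 2 * (Nat.card ↥(Subgroup.normalizer ((P : Subgroup G) : Set G)) *
              Nat.card (Sylow p G)) := by ring
          _ = 2 * (p * (p - 1) * (q * m)) := by rw [h4]
          _ = (p * (p - 1)) * (2 * (q * m)) := by ring
          _ = _ := by rw [hN]
      exact Nat.eq_of_mul_eq_mul_left (Nat.mul_pos hp.pos (by omega)) h5
    have hmod := card_sylow_modEq_one p G
    rw [hsyl] at hmod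
    exact arith_contra hp hq hq5 hpq hm0 hmd hmod
  have hnsD : ¬ Group.IsSolvable (pairStab G α β) := by
    intro hs
    exact hnsN inferInstance
  -- the Sylow `q`-normaliser of the setwise stabiliser has even order
  let Q : Sylow q (pairStab G α β) := default
  have hQN : (Q : Subgroup (pairStab G α β)) ≤ pointStab G α β := by
    intro g hg
    rcases fix_or_swap g with h | ⟨h1, h2⟩
    · exact h
    · exfalso
      obtain ⟨k, hk⟩ := Q.isPGroup'.exists_card_eq
      have hodd : Odd (q ^ k) := by
        apply Odd.pow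
        rw [Nat.odd_iff]
        exact hq.eq_two_or_odd.resolve_left (by omega)
      obtain ⟨j, hj⟩ := hodd
      have h3 : g ^ (q ^ k) = 1 := by
        rw [← hk]
        have := pow_card_eq_one' (x := (⟨g, hg⟩ : Q))
        exact congrArg Subtype.val this
      have h4 : (g * g).1 • α = α := by rw [Subgroup.coe_mul, mul_smul, h1, h2]
      have h5 : ∀ j : ℕ, ((g * g) ^ j).1 • α = α := by
        intro j
        induction j with
        | zero => simp
        | succ j ih => rw [pow_succ, Subgroup.coe_mul, mul_smul, h4, ih]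
      have h6 : (g ^ (q ^ k)).1 • α = β := by
        rw [hj, pow_succ', pow_mul, pow_two, Subgroup.coe_mul, mul_smul, h5, h1]
      rw [h3, Subgroup.coe_one, one_smul] at h6
      exact hαβ h6
  have hfr : Subgroup.normalizer ((Q : Subgroup (pairStab G α β)) : Set (pairStab G α β)) ⊔
      pointStab G α β = ⊤ := Sylow.normalizer_sup_eq_top' Q hQN
  have heven : Even (Nat.card ↥(Subgroup.normalizer
      ((Q : Subgroup (pairStab G α β)) : Set (pairStab G α β)))) := by
    obtain ⟨g, hg1, hg2⟩ := htwo α β β α hαβ hαβ.symm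
    have hgD : g ∈ pairStab G α β := mem_pairStab_of_swap hg1 hg2
    have hg : (⟨g, hgD⟩ : pairStab G α β) ∈ ((Subgroup.normalizer
        ((Q : Subgroup (pairStab G α β)) : Set (pairStab G α β)) ⊔ pointStab G α β :
          Subgroup (pairStab G α β)) : Set (pairStab G α β)) := by
      rw [hfr]; trivial
    rw [Subgroup.mul_normal, Set.mem_mul] at hg
    obtain ⟨n, hn, k, hk, hnk⟩ := hg
    have hnk' : n.1 * k.1 = g := by
      have h4 := congrArg Subtype.val hnk
      rwa [Subgroup.coe_mul] at h4
    have hnα : n.1 • α = β :=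
      calc n.1 • α = n.1 • (k.1 • α) := congrArg (n.1 • ·) (mem_pointStab.1 hk).1.symm
        _ = (n.1 * k.1) • α := (mul_smul _ _ _).symm
        _ = g • α := by rw [hnk']
        _ = β := hg1
    have hnβ : n.1 • β = α :=
      calc n.1 • β = n.1 • (k.1 • β) := congrArg (n.1 • ·) (mem_pointStab.1 hk).2.symm
        _ = (n.1 * k.1) • β := (mul_smul _ _ _).symm
        _ = g • β := by rw [hnk']
        _ = α := hg2
    by_contra hodd
    rw [Nat.not_even_iff_odd] at hodd
    obtain ⟨j, hj⟩ := hodd
    have h3 : n ^ (Nat.card ↥(Subgroup.normalizer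
      ((Q : Subgroup (pairStab G α β)) : Set (pairStab G α β)))) = 1 := by
      have := pow_card_eq_one' (x := (⟨n, hn⟩ : Subgroup.normalizer
      ((Q : Subgroup (pairStab G α β)) : Set (pairStab G α β))))
      exact congrArg Subtype.val this
    have h4 : (n * n).1 • α = α := by rw [Subgroup.coe_mul, mul_smul, hnα, hnβ]
    have h5 : ∀ j : ℕ, ((n * n) ^ j).1 • α = α := by
      intro j
      induction j with
      | zero => simp
      | succ j ih => rw [pow_succ, Subgroup.coe_mul, mul_smul, h4, ih]
    have h6 : (n ^ (Nat.card ↥(Subgroup.normalizer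
      ((Q : Subgroup (pairStab G α β)) : Set (pairStab G α β))))).1 • α = β := by
      rw [hj, pow_succ', pow_mul, pow_two, Subgroup.coe_mul, mul_smul, h5, hnα]
    rw [h3, Subgroup.coe_one, one_smul] at h6
    exact hαβ h6
  have h3D : ∀ x y z x' y' z' : Off α β, x ≠ y → x ≠ z → y ≠ z → x' ≠ y' → x' ≠ z' → y' ≠ z' →
      Same (pairStab G α β) x y z x' y' z' := fun x y z x' y' z' h1 h2 h3 h4 h5 h6 =>
    same_of_even hoff htrD hnsD Q heven h1 h2 h3 h4 h5 h6
  have hN0 : pointStab G α β ≠ ⊥ := by
    intro h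
    rw [h, Subgroup.card_bot] at hqdvd
    exact absurd (Nat.le_of_dvd one_pos hqdvd) (by omega)
  exact same_of_normal (by rw [hoff, Nat.odd_iff]; exact hq.eq_two_or_odd.resolve_left (by omega))
    (by rw [hoff]; omega) h3D (pointStab G α β) hN0 hxy hxz hyz hxy' hxz' hyz'

end

end Cfsg.Agent.H409
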