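import Cfsg.Agent.H409.FprAvg
import Cfsg.Agent.H597.L2Aut

/-!
# Cyclic Sylow subgroups of linear groups: counting elements of norm one
-/

set_option autoImplicit false

namespace Cfsg.Agent.H409.Cyc

/-- `r ^ f - 1` divides `r ^ k - 1` only if `f ∣ k`; small case. -/
theorem pow_sub_one_small {r f i : ℕ} (hr : 2 ≤ r) (hi : i < f) (hi0 : i ≠ 0)
    (h : r ^ f - 1 ∣ r ^ (2 * i) - 1) : 2 * i = f := by
  have h1 : ∀ k : ℕ, 0 < k → 1 < r ^ k := fun k hk => Nat.one_lt_pow hk.ne' (by omega)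
  rcases Nat.lt_trichotomy (2 * i) f with h2 | h2 | h2
  · exfalso
    have h3 := Nat.le_of_dvd (by have := h1 (2 * i) (by omega); omega) h
    have h4 : r ^ (2 * i) < r ^ f := Nat.pow_lt_pow_right (by omega) h2
    have := h1 (2 * i) (by omega)
    omega
  · exact h2
  · exfalso
    obtain ⟨j, hj⟩ : ∃ j, 2 * i = j + f := ⟨2 * i - f, by omega⟩
    have hj0 : 0 < j := by omega
    have hjf : j < f := by omega
    have h3 : r ^ (2 * i) - 1 = r ^ j * (r ^ f - 1) + (r ^ j - 1) := by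
      rw [hj, pow_add]
      obtain ⟨a, ha⟩ : ∃ a, r ^ j = a + 1 := ⟨r ^ j - 1, by have := h1 j hj0; omega⟩
      obtain ⟨b, hb⟩ : ∃ b, r ^ f = b + 1 := ⟨r ^ f - 1, by have := h1 f (by omega); omega⟩
      rw [ha, hb]
      simp only [Nat.add_sub_cancel]
      have : (a + 1) * (b + 1) = (a + 1) * b + a + 1 := by ring
      omega
    rw [h3] at h
    have h4 : r ^ f - 1 ∣ r ^ j - 1 := (Nat.dvd_add_right (dvd_mul_left _ _)).1 h
    have h5 := Nat.le_of_dvd (by have := h1 j hj0; omega) h4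
    have h6 : r ^ j < r ^ f := Nat.pow_lt_pow_right (by omega) hjf
    have := h1 j hj0
    omega

/-- The number of elements of norm one. -/
theorem norm_one_card {K : Type*} [Field K] [Finite K] (τ : K →+* K) (h2 : ∀ a, τ (τ a) = a)
    (h1 : ∃ a, τ a ≠ a) {s : ℕ} (hs : s ^ 2 = Nat.card K) : {c : K | c * τ c = 1}.ncard ≤ s + 1 := by
  classical
  have : Fintype K := Fintype.ofFinite K
  obtain ⟨p, hp⟩ := CharP.exists K
  have hpf : Fact p.Prime := ⟨CharP.char_is_prime K p⟩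
  obtain ⟨f, hp', hf⟩ := FiniteField.card K p
  have hbij : Function.Bijective τ := ⟨τ.injective, fun a => ⟨τ a, h2 a⟩⟩
  obtain ⟨i, hi, hτ⟩ := Cfsg.Agent.H597.L2Aut.exists_frob hf (RingEquiv.ofBijective τ hbij)
  have hτ' : ∀ a, τ a = a ^ p ^ i := hτ
  have hi0 : i ≠ 0 := by
    rintro rfl
    obtain ⟨a, ha⟩ := h1
    apply ha
    rw [hτ', pow_zero, pow_one]
  have hdvd : p ^ (f : ℕ) - 1 ∣ p ^ (2 * i) - 1 := by
    obtain ⟨g, hg⟩ := IsCyclic.exists_generator (α := Kˣ)
    have ho : orderOf g = p ^ (f : ℕ) - 1 := by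
      rw [orderOf_eq_card_of_forall_mem_zpowers hg, Nat.card_eq_fintype_card, Fintype.card_units, hf]
    rw [← ho]
    apply orderOf_dvd_of_pow_eq_one
    have h3 : (g : K) ^ p ^ (2 * i) = g := by
      have h4 := h2 g
      rw [hτ', hτ', ← pow_mul, ← pow_add] at h4
      rw [two_mul]
      exact h4
    apply Units.ext
    have h5 : (g : K) ^ (p ^ (2 * i) - 1) * g = 1 * g := by
      rw [← pow_succ, Nat.sub_add_cancel (Nat.one_le_pow _ _ hpf.out.pos), h3, one_mul]
    rw [Units.val_pow_eq_pow_val, Units.val_one]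
    exact mul_right_cancel₀ g.ne_zero h5
  have h2i := pow_sub_one_small hpf.out.two_le hi hi0 hdvd
  have hsi : s = p ^ i := by
    have h3 : s ^ 2 = (p ^ i) ^ 2 := by
      rw [hs, Nat.card_eq_fintype_card, hf, ← h2i, ← pow_mul, mul_comm]
    exact Nat.pow_left_injective (by norm_num) h3
  have hsub : {c : K | c * τ c = 1} ⊆ (Polynomial.nthRoots (s + 1) (1 : K)).toFinset := by
    intro c hc
    have hc' : c * τ c = 1 := hc
    rw [Finset.mem_coe, Multiset.mem_toFinset, Polynomial.mem_nthRoots (by omega), hsi, pow_succ', ← hτ']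
    exact hc'
  calc {c : K | c * τ c = 1}.ncard ≤ ((Polynomial.nthRoots (s + 1) (1 : K)).toFinset : Set K).ncard :=
        Set.ncard_le_ncard hsub (Finset.finite_toSet _)
    _ = (Polynomial.nthRoots (s + 1) (1 : K)).toFinset.card := Set.ncard_coe_finset _
    _ ≤ Multiset.card (Polynomial.nthRoots (s + 1) (1 : K)) := Multiset.toFinset_card_le _
    _ ≤ s + 1 := Polynomial.card_nthRoots _ _

end Cfsg.Agent.H409.Cyc
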