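import Cfsg.Agent.H409.FprCycA

/-!
# Cyclic Sylow subgroups of linear groups: the commutant of an irreducible isometry
-/

set_option autoImplicit false

namespace Cfsg.Agent.H409.Cyc

open Module

section irr

variable {F : Type*} [Field F] {U : Type*} [AddCommGroup U] [Module F U]

/-- no proper invariant subspaces -/
def IrrEnd (T : Module.End F U) : Prop :=
  ∀ N : Submodule F U, (∀ u ∈ N, T u ∈ N) → N = ⊥ ∨ N = ⊤

theorem adjoin_inv {T : Module.End F U} {N : Submodule F U} (hN : ∀ u ∈ N, T u ∈ N) {a : Module.End F U}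
    (ha : a ∈ Algebra.adjoin F {T}) : ∀ u ∈ N, a u ∈ N := by
  induction ha using Algebra.adjoin_induction with
  | mem y hy => rw [Set.mem_singleton_iff.1 hy]; exact hN
  | algebraMap c => intro u hu; exact N.smul_mem c hu
  | add a b _ _ ha hb => intro u hu; exact N.add_mem (ha u hu) (hb u hu)
  | mul a b _ _ ha hb => intro u hu; exact ha _ (hb u hu)

theorem adjoin_comm {T : Module.End F U} {c : Module.End F U} (hc : Commute c T) {a : Module.End F U}
    (ha : a ∈ Algebra.adjoin F {T}) : Commute c a := by
  induction ha using Algebra.adjoin_induction with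
  | mem y hy => rw [Set.mem_singleton_iff.1 hy]; exact hc
  | algebraMap r => exact (Algebra.commutes r c).symm
  | add a b _ _ ha hb => exact ha.add_right hb
  | mul a b _ _ ha hb => exact ha.mul_right hb

theorem adjoin_comm' {T : Module.End F U} {a b : Module.End F U} (ha : a ∈ Algebra.adjoin F {T})
    (hb : b ∈ Algebra.adjoin F {T}) : a * b = b * a := by
  have h1 : Commute a T := (adjoin_comm (Commute.refl T) ha).symm
  exact adjoin_comm h1 hb

theorem ker_eq_bot {T : Module.End F U} (hT : IrrEnd T) {c : Module.End F U} (hc : Commute c T) (h0 : c ≠ 0) :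
    LinearMap.ker c = ⊥ := by
  rcases hT (LinearMap.ker c) (by
    intro u hu
    rw [LinearMap.mem_ker] at hu ⊢
    have h1 : (c * T) u = (T * c) u := by rw [hc.eq]
    change c (T u) = T (c u) at h1
    rw [h1, hu, map_zero]) with h | h
  · exact h
  · exfalso
    apply h0
    rwa [LinearMap.ker_eq_top] at h

/-- the commutative ring `F[T]` -/
abbrev KT (T : Module.End F U) : Type _ := Algebra.adjoin F {T}

theorem KT.isField (T : Module.End F U) [Nontrivial U] [Finite (KT T)] (hT : IrrEnd T) :
    IsField (KT T) := by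
  classical
  refine ⟨⟨0, 1, ?_⟩, fun a b => Subtype.ext (adjoin_comm' a.2 b.2), ?_⟩
  · intro h
    have h1 : (0 : Module.End F U) = 1 := congrArg Subtype.val h
    obtain ⟨u, hu⟩ := exists_ne (0 : U)
    apply hu
    have h2 := congrArg (fun f : Module.End F U => f u) h1
    exact h2.symm
  · intro a ha
    have ha' : (a : Module.End F U) ≠ 0 := fun h => ha (Subtype.ext h)
    have hc : Commute (a : Module.End F U) T := (adjoin_comm (Commute.refl T) a.2).symm
    have hk := ker_eq_bot hT hc ha'
    have hinj : Function.Injective (fun b : KT T => a * b) := by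
      intro b c hbc
      apply Subtype.ext
      apply LinearMap.ext
      intro u
      have h1 : (a : Module.End F U) ((b : Module.End F U) u) = (a : Module.End F U) ((c : Module.End F U) u) := by
        have h2 := congrArg (fun f : KT T => (f : Module.End F U) u) hbc
        exact h2
      exact LinearMap.ker_eq_bot.1 hk h1
    obtain ⟨b, hb⟩ := Finite.surjective_of_injective hinj 1
    exact ⟨b, hb⟩

@[reducible] noncomputable def KT.field (T : Module.End F U) [Nontrivial U] [Finite (KT T)] (hT : IrrEnd T) : Field (KT T) :=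
  (KT.isField T hT).toField

/-- evaluation at a nonzero vector -/
theorem eval_bij (T : Module.End F U) (hT : IrrEnd T) {u : U} (hu : u ≠ 0) :
    Function.Bijective (fun a : KT T => (a : Module.End F U) u) := by
  constructor
  · intro a b hab
    by_contra hne
    have h1 : ((a : Module.End F U) - (b : Module.End F U)) ≠ 0 := by
      intro h
      exact hne (Subtype.ext (sub_eq_zero.1 h))
    have hc : Commute ((a : Module.End F U) - (b : Module.End F U)) T :=
      ((adjoin_comm (Commute.refl T) a.2).symm).sub_left ((adjoin_comm (Commute.refl T) b.2).symm)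
    have hk := ker_eq_bot hT hc h1
    apply hu
    have h2 : u ∈ LinearMap.ker ((a : Module.End F U) - (b : Module.End F U)) := by
      rw [LinearMap.mem_ker, LinearMap.sub_apply, sub_eq_zero]
      exact hab
    rw [hk] at h2
    exact h2
  · let N : Submodule F U :=
      { carrier := {v | ∃ a : KT T, (a : Module.End F U) u = v}
        add_mem' := by
          rintro _ _ ⟨a, rfl⟩ ⟨b, rfl⟩
          exact ⟨a + b, rfl⟩
        zero_mem' := ⟨0, rfl⟩
        smul_mem' := by
          rintro c _ ⟨a, rfl⟩
          exact ⟨c • a, rfl⟩ }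
    have h1 := hT N (by
      rintro _ ⟨a, rfl⟩
      exact ⟨⟨T, Algebra.subset_adjoin rfl⟩ * a, rfl⟩)
    rcases h1 with h1 | h1
    · exfalso
      have h2 : u ∈ N := ⟨1, rfl⟩
      rw [h1, Submodule.mem_bot] at h2
      exact hu h2
    · intro v
      have h2 : v ∈ N := by rw [h1]; trivial
      exact h2

theorem mem_adjoin_of_comm (T : Module.End F U) (hT : IrrEnd T) {u : U} (hu : u ≠ 0) {c : Module.End F U}
    (hc : Commute c T) : c ∈ Algebra.adjoin F {T} := by
  obtain ⟨a, ha⟩ := (eval_bij T hT hu).2 (c u)
  have h1 : (a : Module.End F U) = c := by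
    apply LinearMap.ext
    intro v
    obtain ⟨b, rfl⟩ := (eval_bij T hT hu).2 v
    have h2 : (a : Module.End F U) * b = b * a := adjoin_comm' a.2 b.2
    have h3 : c * (b : Module.End F U) = b * c := adjoin_comm hc b.2
    calc (a : Module.End F U) ((b : Module.End F U) u) = ((a : Module.End F U) * b) u := rfl
      _ = (b : Module.End F U) ((a : Module.End F U) u) := by rw [h2]; rfl
      _ = (b : Module.End F U) (c u) := by rw [show (a : Module.End F U) u = c u from ha]
      _ = (c * (b : Module.End F U)) u := by rw [h3]; rfl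
      _ = c ((b : Module.End F U) u) := rfl
  rw [← h1]
  exact a.2

theorem card_KT (T : Module.End F U) (hT : IrrEnd T) {u : U} (hu : u ≠ 0) :
    Nat.card (KT T) = Nat.card U :=
  Nat.card_congr (Equiv.ofBijective _ (eval_bij T hT hu))

end irr

section form

variable {F : Type*} [Field F] {U : Type*} [AddCommGroup U] [Module F U]

/-- a sesquilinear form, right nondegenerate -/
structure Form (B : U → U → F) (σ : F → F) : Prop where
  add_l : ∀ u v w, B (u + v) w = B u w + B v w
  add_r : ∀ u v w, B u (v + w) = B u v + B u w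
  smul_l : ∀ a u v, B (a • u) v = a * B u v
  smul_r : ∀ a u v, B u (σ a • v) = a * B u v
  inv : ∀ a, σ (σ a) = a
  nd : ∀ v, (∀ u, B u v = 0) → v = 0

variable {B : U → U → F} {σ : F → F}

theorem Form.zero_r (h : Form B σ) (u : U) : B u 0 = 0 := by
  have h1 := h.add_r u 0 0
  rw [add_zero] at h1
  exact left_eq_add.1 h1

theorem Form.neg_r (h : Form B σ) (u v : U) : B u (-v) = - B u v := by
  have h1 := h.add_r u v (-v)
  rw [add_neg_cancel, h.zero_r] at h1
  exact (neg_eq_of_add_eq_zero_right h1.symm).symm

theorem Form.ext_r (h : Form B σ) {v w : U} (hvw : ∀ u, B u v = B u w) : v = w := by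
  rw [← sub_eq_zero]
  apply h.nd
  intro u
  rw [sub_eq_add_neg, h.add_r, h.neg_r, hvw, add_neg_cancel]

/-- every element of `F[T]` has an adjoint in `F[T]` -/
theorem Form.exists_adj (h : Form B σ) {T T' : Module.End F U} (hTT : T * T' = 1)
    (hT' : T' ∈ Algebra.adjoin F {T})
    (hiso : ∀ u v, B (T u) (T v) = B u v) {a : Module.End F U} (ha : a ∈ Algebra.adjoin F {T}) :
    ∃ a' ∈ Algebra.adjoin F {T}, ∀ u v, B (a u) v = B u (a' v) := by
  induction ha using Algebra.adjoin_induction with
  | mem y hy =>
    rw [Set.mem_singleton_iff.1 hy]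
    refine ⟨T', hT', ?_⟩
    intro u v
    rw [← hiso u (T' v)]
    congr 1
    have h1 := congrArg (fun f : Module.End F U => f v) hTT
    exact h1.symm
  | algebraMap r =>
    refine ⟨algebraMap F _ (σ r), Subalgebra.algebraMap_mem _ _, ?_⟩
    intro u v
    rw [Module.algebraMap_end_apply, Module.algebraMap_end_apply, h.smul_l, h.smul_r]
  | add a b _ _ ha hb =>
    obtain ⟨a', ha', h1⟩ := ha
    obtain ⟨b', hb', h2⟩ := hb
    refine ⟨a' + b', add_mem ha' hb', ?_⟩
    intro u v
    rw [LinearMap.add_apply, LinearMap.add_apply, h.add_l, h.add_r, h1, h2]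
  | mul a b _ _ ha hb =>
    obtain ⟨a', ha', h1⟩ := ha
    obtain ⟨b', hb', h2⟩ := hb
    refine ⟨b' * a', mul_mem hb' ha', ?_⟩
    intro u v
    change B (a (b u)) v = B u (b' (a' v))
    rw [h1, h2]

/-- **Isometries commuting with an irreducible isometry `T`, `T² ≠ 1`.** -/
theorem Form.card_iso (h : Form B σ) {T : Module.End F U} [Finite U] (hT : IrrEnd T) {n : ℕ}
    (hn : 0 < n) (hTn : T ^ n = 1) (hiso : ∀ u v, B (T u) (T v) = B u v) (hT2 : T ^ 2 ≠ 1) {s : ℕ}
    (hs : s ^ 2 = Nat.card U) :
    {c : Module.End F U | Commute c T ∧ ∀ u v, B (c u) (c v) = B u v}.ncard ≤ s + 1 := by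
  classical
  have hnt : Nontrivial U := by
    by_contra hcon
    rw [not_nontrivial_iff_subsingleton] at hcon
    apply hT2
    apply LinearMap.ext
    intro u
    exact Subsingleton.elim _ _
  obtain ⟨u0, hu0⟩ := exists_ne (0 : U)
  have hfinE : Finite (Module.End F U) := Finite.of_injective (fun f : Module.End F U => (f : U → U))
    DFunLike.coe_injective
  have hfinK : Finite (KT T) := inferInstance
  let _ : Field (KT T) := KT.field T hT
  obtain ⟨m, rfl⟩ : ∃ m, n = m + 1 := ⟨n - 1, by omega⟩
  have hTT : T * T ^ m = 1 := by rw [← pow_succ', hTn]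
  have hTmem : T ∈ Algebra.adjoin F {T} := Algebra.subset_adjoin rfl
  have hex : ∀ a : KT T, ∃ a' : KT T, ∀ u v, B ((a : Module.End F U) u) v = B u ((a' : Module.End F U) v) := by
    intro a
    obtain ⟨a', ha', h1⟩ := h.exists_adj hTT (pow_mem hTmem m) hiso a.2
    exact ⟨⟨a', ha'⟩, h1⟩
  choose τ hτ using hex
  have huniq : ∀ a b : KT T, (∀ u v, B ((a : Module.End F U) u) v = B u ((b : Module.End F U) v)) → τ a = b := by
    intro a b hab
    apply Subtype.ext
    apply LinearMap.ext
    intro v
    apply h.ext_r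
    intro u
    rw [← hτ, hab]
  let τ' : KT T →+* KT T :=
    { toFun := τ
      map_one' := huniq 1 1 (fun u v => rfl)
      map_mul' := by
        intro a b
        apply huniq
        intro u v
        have h1 : (τ a * τ b : KT T) = τ b * τ a := Subtype.ext (adjoin_comm' (τ a).2 (τ b).2)
        rw [h1]
        change B ((a : Module.End F U) ((b : Module.End F U) u)) v =
          B u ((τ b : Module.End F U) ((τ a : Module.End F U) v))
        rw [hτ, hτ]
      map_zero' := by
        apply huniq
        intro u v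
        change B ((0 : Module.End F U) u) v = B u ((0 : Module.End F U) v)
        rw [LinearMap.zero_apply, LinearMap.zero_apply, h.zero_r]
        have h1 := h.add_l 0 0 v
        rw [add_zero] at h1
        exact left_eq_add.1 h1
      map_add' := by
        intro a b
        apply huniq
        intro u v
        change B ((a : Module.End F U) u + (b : Module.End F U) u) v =
          B u ((τ a : Module.End F U) v + (τ b : Module.End F U) v)
        rw [h.add_l, h.add_r, hτ, hτ] }
  have hτT : ((τ' ⟨T, hTmem⟩ : KT T) : Module.End F U) = T ^ m := by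
    have h1 : τ ⟨T, hTmem⟩ = ⟨T ^ m, pow_mem hTmem m⟩ := by
      apply huniq
      intro u v
      rw [← hiso u]
      congr 1
      have h1 := congrArg (fun f : Module.End F U => f v) hTT
      exact h1.symm
    exact congrArg Subtype.val h1
  -- `τ² = 1`
  have hττ : ∀ a : KT T, τ' (τ' a) = a := by
    have h1 : ∀ a (ha : a ∈ Algebra.adjoin F {T}), τ' (τ' ⟨a, ha⟩) = ⟨a, ha⟩ := by
      intro a ha
      induction ha using Algebra.adjoin_induction with
      | mem y hy =>
        have hy' : y = T := hy
        subst hy'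
        have h2 : (τ' ⟨y, hTmem⟩ : KT y) = ⟨y, hTmem⟩ ^ m := by
          apply Subtype.ext
          rw [hτT]; rfl
        rw [h2, map_pow, h2, ← pow_mul]
        apply Subtype.ext
        change y ^ (m * m) = y
        have h3 : y ^ (m * m) * y ^ m = y * y ^ m := by
          rw [hTT, ← pow_add]
          have h4 : m * m + m = (m + 1) * m := by ring
          rw [h4, pow_mul, hTn, one_pow]
        have h4 : y ^ (m * m) * (y ^ m * y) = y * (y ^ m * y) := by
          rw [← mul_assoc, h3, mul_assoc]
        have h5 : y ^ m * y = 1 := by rw [← pow_succ, hTn]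
        rwa [h5, mul_one, mul_one] at h4
      | algebraMap r =>
        have h2 : ∀ r : F, τ' ⟨algebraMap F _ r, Subalgebra.algebraMap_mem _ _⟩ =
            ⟨algebraMap F _ (σ r), Subalgebra.algebraMap_mem _ _⟩ := by
          intro r
          apply huniq
          intro u v
          change B (algebraMap F (Module.End F U) r u) v = B u (algebraMap F (Module.End F U) (σ r) v)
          rw [Module.algebraMap_end_apply, Module.algebraMap_end_apply, h.smul_l, h.smul_r]
        rw [h2, h2]
        apply Subtype.ext
        change algebraMap F (Module.End F U) (σ (σ r)) = _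
        rw [h.inv]
      | add a b ha hb h2 h3 =>
        have h4 : (⟨a + b, add_mem ha hb⟩ : KT T) = ⟨a, ha⟩ + ⟨b, hb⟩ := rfl
        rw [h4, map_add, map_add, h2, h3]
      | mul a b ha hb h2 h3 =>
        have h4 : (⟨a * b, mul_mem ha hb⟩ : KT T) = ⟨a, ha⟩ * ⟨b, hb⟩ := rfl
        rw [h4, map_mul, map_mul, h2, h3]
    intro a
    exact h1 a.1 a.2
  have hτ1 : ∃ a : KT T, τ' a ≠ a := by
    refine ⟨⟨T, hTmem⟩, ?_⟩
    intro h1
    have h2 : T ^ m = T := by rw [← hτT, h1]
    apply hT2
    rw [pow_two]
    conv_lhs => rw [← h2]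
    rw [h2, hTT.symm, h2]
  have hcard := norm_one_card τ' hττ hτ1 (s := s) (by rw [hs, card_KT T hT hu0])
  refine le_trans ?_ hcard
  apply Set.ncard_le_ncard_of_injOn (fun c => if hc : c ∈ Algebra.adjoin F {T} then (⟨c, hc⟩ : KT T) else 0)
    _ _ (Set.toFinite _)
  · rintro c ⟨hc, hci⟩
    have hcK := mem_adjoin_of_comm T hT hu0 hc
    rw [dif_pos hcK]
    change (⟨c, hcK⟩ : KT T) * τ' ⟨c, hcK⟩ = 1
    have h1 : (⟨c, hcK⟩ : KT T) * τ' ⟨c, hcK⟩ = τ' ⟨c, hcK⟩ * ⟨c, hcK⟩ :=
      Subtype.ext (adjoin_comm' hcK (τ' ⟨c, hcK⟩).2)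
    rw [h1]
    apply Subtype.ext
    apply LinearMap.ext
    intro v
    apply h.ext_r
    intro u
    change B u ((τ ⟨c, hcK⟩ : Module.End F U) (c v)) = B u v
    rw [← hτ]
    exact hci u v
  · rintro c ⟨hc, hci⟩ d ⟨hd, hdi⟩ hcd
    have hcK := mem_adjoin_of_comm T hT hu0 hc
    have hdK := mem_adjoin_of_comm T hT hu0 hd
    simp only [dif_pos hcK, dif_pos hdK] at hcd
    exact congrArg Subtype.val hcd

end form

end Cfsg.Agent.H409.Cyc
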