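import Cfsg.Agent.H409.FprCycB

/-!
# Cyclic Sylow subgroups of linear groups: centraliser and normaliser of an element of order `p`
with an irreducible commutator space
-/

set_option autoImplicit false
set_option linter.unusedSectionVars false

universe v w

namespace Cfsg.Agent.H409.Cyc

open Module Subgroup

section

variable {F : Type*} [Field F] [Fintype F] {V : Type*} [AddCommGroup V] [Module F V] [Finite V]
  {G : Type*} [Group G] [Finite G]

/-- `x` of prime order `p` in a linear group whose dimension is less than twice the order `e` of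
`|F|` modulo `p` -/
structure Sit (ρ : G →* Module.End F V) (p e : ℕ) (x : G) : Prop where
  inj : Function.Injective ρ
  ord : orderOf x = p
  pr : p.Prime
  odd : p ≠ 2
  ch : (p : F) ≠ 0
  he : ∀ k, p ∣ Fintype.card F ^ k - 1 → e ∣ k
  dim : finrank F V < 2 * e

variable {ρ : G →* Module.End F V} {p e : ℕ} {x : G}

/-- the commutator space -/
def UU (ρ : G →* Module.End F V) (x : G) : Submodule F V := LinearMap.range (ρ x - 1)

theorem rho_mul_apply (g h : G) (v : V) : ρ (g * h) v = ρ g (ρ h v) := by rw [map_mul]; rfl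

theorem rho_inv_apply (g : G) (v : V) : ρ g⁻¹ (ρ g v) = v := by
  rw [← rho_mul_apply, inv_mul_cancel, map_one]; rfl

theorem rho_inv_apply' (g : G) (v : V) : ρ g (ρ g⁻¹ v) = v := by
  rw [← rho_mul_apply, mul_inv_cancel, map_one]; rfl

theorem Sit.pow_p (h : Sit ρ p e x) : (ρ x) ^ p = 1 := by
  rw [← map_pow, ← h.ord, pow_orderOf_eq_one, map_one]

theorem pow_apply_add {v w : V} (hw : ρ x w = w) (hv : ρ x v = v + w) (k : ℕ) :
    (ρ x ^ k) v = v + (k : F) • w := by
  induction k with
  | zero => simp
  | succ k ih =>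
    rw [pow_succ']
    change ρ x ((ρ x ^ k) v) = _
    rw [ih, map_add, map_smul, hv, hw, Nat.cast_succ, add_smul, one_smul]
    abel

theorem Sit.disj (h : Sit ρ p e x) {u : V} (hu : u ∈ UU ρ x) (hxu : ρ x u = u) : u = 0 := by
  obtain ⟨v, rfl⟩ := hu
  have h1 : ρ x v = v + (ρ x - 1) v := by
    rw [LinearMap.sub_apply, Module.End.one_apply]; abel
  have h2 := pow_apply_add hxu h1 p
  rw [h.pow_p, Module.End.one_apply] at h2
  have h3 : (p : F) • (ρ x - 1) v = 0 := (left_eq_add.1 h2)
  exact (smul_eq_zero.1 h3).resolve_left h.ch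

theorem mem_UU_pow (k : ℕ) (v : V) : (ρ (x ^ k)) v - v ∈ UU ρ x := by
  induction k with
  | zero => simp
  | succ k ih =>
    have h1 : ρ (x ^ (k + 1)) v - v = (ρ x - 1) (ρ (x ^ k) v) + (ρ (x ^ k) v - v) := by
      rw [pow_succ', rho_mul_apply, LinearMap.sub_apply, Module.End.one_apply]; abel
    rw [h1]
    exact add_mem ⟨_, rfl⟩ ih

/-- an element normalising `⟨x⟩` preserves the commutator space -/
theorem norm_UU {g : G} (hg : g ∈ normalizer (zpowers x : Set G)) {u : V} (hu : u ∈ UU ρ x) :
    ρ g u ∈ UU ρ x := by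
  obtain ⟨v, rfl⟩ := hu
  have h1 : g * x * g⁻¹ ∈ zpowers x := (mem_normalizer_iff.1 hg x).1 (mem_zpowers x)
  rw [← mem_powers_iff_mem_zpowers] at h1
  obtain ⟨k, hk⟩ := h1
  have hk' : x ^ k = g * x * g⁻¹ := hk
  have h2 : ρ g ((ρ x - 1) v) = ρ (x ^ k) (ρ g v) - ρ g v := by
    rw [hk', rho_mul_apply, rho_mul_apply, rho_inv_apply, LinearMap.sub_apply, map_sub]
    rfl
  rw [h2]
  exact mem_UU_pow k _

/-- the restriction to the commutator space -/
noncomputable def res (ρ : G →* Module.End F V) (x : G) (g : G) : Module.End F (UU ρ x) :=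
  open Classical in
  if hg : g ∈ normalizer (zpowers x : Set G) then (ρ g).restrict (fun _ hu => norm_UU hg hu) else 0

theorem res_apply {g : G} (hg : g ∈ normalizer (zpowers x : Set G)) (u : UU ρ x) :
    ((res ρ x g u : UU ρ x) : V) = ρ g u := by
  rw [res, dif_pos hg]; rfl

theorem x_mem : x ∈ normalizer (zpowers x : Set G) := le_normalizer (mem_zpowers x)

theorem res_mul {g k : G} (hg : g ∈ normalizer (zpowers x : Set G))
    (hk : k ∈ normalizer (zpowers x : Set G)) : res ρ x (g * k) = res ρ x g * res ρ x k := by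
  apply LinearMap.ext
  intro u
  apply Subtype.ext
  rw [res_apply (mul_mem hg hk), rho_mul_apply]
  change _ = ((res ρ x g (res ρ x k u) : UU ρ x) : V)
  rw [res_apply hg, res_apply hk]

theorem res_one : res ρ x 1 = 1 := by
  apply LinearMap.ext
  intro u
  apply Subtype.ext
  rw [res_apply (one_mem _), map_one]; rfl

theorem res_pow {g : G} (hg : g ∈ normalizer (zpowers x : Set G)) (k : ℕ) :
    res ρ x (g ^ k) = res ρ x g ^ k := by
  induction k with
  | zero => rw [pow_zero, pow_zero, res_one]
  | succ k ih => rw [pow_succ, pow_succ, res_mul (pow_mem hg k) hg, ih]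

/-- an element of `⟨x⟩` trivial on the commutator space is trivial -/
theorem Sit.faithful (h : Sit ρ p e x) {y : G} (hy : y ∈ zpowers x) (hr : res ρ x y = 1) : y = 1 := by
  rw [← mem_powers_iff_mem_zpowers] at hy
  obtain ⟨k, hk⟩ := hy
  have hk' : x ^ k = y := hk
  have hyN : y ∈ normalizer (zpowers x : Set G) := hk' ▸ pow_mem x_mem k
  apply h.inj
  rw [map_one]
  apply LinearMap.ext
  intro v
  have h1 : ρ y v - v ∈ UU ρ x := hk' ▸ mem_UU_pow k v
  have h2 : ρ y (ρ y v - v) = ρ y v - v := by
    have h3 := congrArg (fun f : Module.End F (UU ρ x) => ((f ⟨_, h1⟩ : UU ρ x) : V)) hr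
    simp only [res_apply hyN] at h3
    exact h3
  -- `w = ρ y v - v` is fixed by `y`; `y ^ p = 1`
  have h4 : ∀ j : ℕ, ρ (y ^ j) v = v + (j : F) • (ρ y v - v) := by
    intro j
    induction j with
    | zero => simp
    | succ j ih =>
      rw [pow_succ', rho_mul_apply, ih, map_add, map_smul, h2, Nat.cast_succ, add_smul, one_smul]
      abel
  have h5 := h4 p
  have h6 : y ^ p = 1 := by
    rw [← hk', ← pow_mul, mul_comm, pow_mul, ← h.ord, pow_orderOf_eq_one, one_pow]
  rw [h6, map_one, Module.End.one_apply] at h5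
  have h7 : (p : F) • (ρ y v - v) = 0 := left_eq_add.1 h5
  have h8 := (smul_eq_zero.1 h7).resolve_left h.ch
  rw [sub_eq_zero] at h8
  exact h8

theorem Sit.x_ne (h : Sit ρ p e x) : x ≠ 1 := by
  rintro rfl
  have := h.ord
  rw [orderOf_one] at this
  exact h.pr.one_lt.ne this

/-- the cardinality of an invariant subspace of the commutator space -/
theorem Sit.dvd (h : Sit ρ p e x) (N : Submodule F (UU ρ x)) (hN : ∀ u ∈ N, res ρ x x u ∈ N) :
    e ∣ finrank F N := by
  classical
  apply h.he
  have hp : Fact p.Prime := ⟨h.pr⟩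
  have : Fintype N := Fintype.ofFinite N
  let f : Function.End N := fun u => ⟨res ρ x x u, hN u u.2⟩
  have hf : ∀ (k : ℕ) (u : N), (((f ^ k) u : N) : UU ρ x) = (res ρ x x ^ k) u := by
    intro k
    induction k with
    | zero => intro u; rfl
    | succ k ih =>
      intro u
      have h1 : (f ^ (k + 1)) u = f ((f ^ k) u) := by
        rw [pow_succ']; rfl
      have h2 : (res ρ x x ^ (k + 1)) (u : UU ρ x) = res ρ x x ((res ρ x x ^ k) (u : UU ρ x)) := by
        rw [pow_succ']; rfl
      rw [h1, h2, ← ih]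
  have hf1 : f ^ p ^ 1 = 1 := by
    funext u
    apply Subtype.ext
    rw [hf, pow_one, ← res_pow x_mem, ← h.ord, pow_orderOf_eq_one, res_one]
    rfl
  have h1 := Equiv.Perm.card_fixedPoints_modEq hf1
  have h2 : Fintype.card f.fixedPoints = 1 := by
    rw [Fintype.card_eq_one_iff]
    refine ⟨⟨0, ?_⟩, ?_⟩
    · change f 0 = 0
      apply Subtype.ext
      change res ρ x x ((0 : N) : UU ρ x) = _
      rw [Submodule.coe_zero, map_zero]
    · rintro ⟨u, hu⟩
      apply Subtype.ext
      apply Subtype.ext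
      apply Subtype.ext
      have hu' : f u = u := hu
      have h3 : res ρ x x (u : UU ρ x) = u := congrArg Subtype.val hu'
      have h4 : ρ x ((u : UU ρ x) : V) = ((u : UU ρ x) : V) := by
        rw [← res_apply x_mem, h3]
      exact h.disj (u : UU ρ x).2 h4
  rw [h2, Module.card_eq_pow_finrank (K := F)] at h1
  have h3 : 1 ≤ Fintype.card F ^ finrank F N := Nat.one_le_pow _ _ Fintype.card_pos
  exact (Nat.modEq_iff_dvd' h3).1 h1.symm

theorem Sit.UU_ne (h : Sit ρ p e x) : UU ρ x ≠ ⊥ := by
  intro hU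
  apply h.x_ne
  apply h.inj
  rw [map_one]
  have h1 : ρ x - 1 = 0 := by
    rw [← LinearMap.range_eq_bot]; exact hU
  exact sub_eq_zero.1 h1

theorem Sit.finrank_UU (h : Sit ρ p e x) : finrank F (UU ρ x) = e := by
  have hfd : Module.Finite F V := Module.Finite.of_finite
  have h1 := h.dvd ⊤ (fun _ _ => Submodule.mem_top)
  rw [finrank_top] at h1
  have h2 : finrank F (UU ρ x) ≤ finrank F V := Submodule.finrank_le _
  have h3 : 0 < finrank F (UU ρ x) := by
    rw [Module.finrank_pos_iff, Submodule.nontrivial_iff_ne_bot]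
    exact h.UU_ne
  have h4 := h.dim
  obtain ⟨c, hc⟩ := h1
  have hc0 : c ≠ 0 := by rintro rfl; omega
  have hc1 : c < 2 := by
    by_contra hcon
    push Not at hcon
    have : e * 2 ≤ e * c := Nat.mul_le_mul_left _ hcon
    omega
  have hc2 : c = 1 := by omega
  rw [hc, hc2, mul_one]

theorem Sit.irr (h : Sit ρ p e x) : IrrEnd (res ρ x x) := by
  have hfd : Module.Finite F V := Module.Finite.of_finite
  intro N hN
  obtain ⟨c, hc⟩ := h.dvd N hN
  have h2 : finrank F N ≤ finrank F (UU ρ x) := Submodule.finrank_le _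
  rw [h.finrank_UU] at h2
  have he : 0 < e := by
    have := h.dim
    omega
  rcases Nat.eq_zero_or_pos c with h0 | h0
  · left
    rw [h0, mul_zero] at hc
    exact Submodule.finrank_eq_zero.1 hc
  · right
    apply Submodule.eq_top_of_finrank_eq
    rw [h.finrank_UU]
    have : e * 1 ≤ e * c := Nat.mul_le_mul_left _ h0
    omega

theorem Sit.card_UU (h : Sit ρ p e x) : Nat.card (UU ρ x) = Fintype.card F ^ e := by
  have hfd : Module.Finite F V := Module.Finite.of_finite
  have : Fintype (UU ρ x) := Fintype.ofFinite _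
  rw [Nat.card_eq_fintype_card, Module.card_eq_pow_finrank (K := F), h.finrank_UU]

theorem cent_le_norm : centralizer ({x} : Set G) ≤ normalizer (zpowers x : Set G) := by
  intro g hg
  rw [mem_normalizer_iff_map_conj_eq]
  have hg' : g * x = x * g := mem_centralizer_singleton_iff.1 hg
  apply eq_of_le_of_card_ge
  · rw [map_le_iff_le_comap, zpowers_le]
    change g * x * g⁻¹ ∈ zpowers x
    rw [hg']
    have h3 : x * g * g⁻¹ = x := by group
    rw [h3]
    exact mem_zpowers x
  · rw [card_map_of_injective (MulAut.conj g).injective]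

theorem res_comm {g : G} (hg : g ∈ centralizer ({x} : Set G)) : Commute (res ρ x g) (res ρ x x) := by
  have h1 : g * x = x * g := mem_centralizer_singleton_iff.1 hg
  change res ρ x g * res ρ x x = res ρ x x * res ρ x g
  rw [← res_mul (cent_le_norm hg) x_mem, h1, res_mul x_mem (cent_le_norm hg)]

/-- a form on `V` restricts to the commutator space -/
theorem Sit.form (h : Sit ρ p e x) {B : V → V → F} {σ : F → F} (hB : Form B σ)
    (hinv : ∀ g u v, B (ρ g u) (ρ g v) = B u v) :
    Form (fun u v : UU ρ x => B u v) σ where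
  add_l u v w := hB.add_l u v w
  add_r u v w := hB.add_r u v w
  smul_l a u v := hB.smul_l a u v
  smul_r a u v := hB.smul_r a u v
  inv := hB.inv
  nd := by
    intro v hv
    apply Subtype.ext
    apply hB.nd
    intro u
    -- `u = u₁ + w` with `w` fixed by `x`
    have hfd : Module.Finite F V := Module.Finite.of_finite
    have hdisj : UU ρ x ⊓ LinearMap.ker (ρ x - 1) = ⊥ := by
      rw [eq_bot_iff]
      rintro w ⟨hw1, hw2⟩
      rw [SetLike.mem_coe, LinearMap.mem_ker, LinearMap.sub_apply, Module.End.one_apply, sub_eq_zero] at hw2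
      rw [Submodule.mem_bot]
      exact h.disj hw1 hw2
    have hsup : UU ρ x ⊔ LinearMap.ker (ρ x - 1) = ⊤ := by
      apply Submodule.eq_top_of_finrank_eq
      have h1 := Submodule.finrank_sup_add_finrank_inf_eq (UU ρ x) (LinearMap.ker (ρ x - 1))
      rw [hdisj, finrank_bot, add_zero] at h1
      rw [h1]
      exact LinearMap.finrank_range_add_finrank_ker (ρ x - 1)
    have hu : u ∈ UU ρ x ⊔ LinearMap.ker (ρ x - 1) := by rw [hsup]; trivial
    obtain ⟨u1, hu1, w, hw, rfl⟩ := Submodule.mem_sup.1 hu
    rw [hB.add_l]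
    have h2 : B u1 v = 0 := hv ⟨u1, hu1⟩
    have hw' : ρ x w = w := by
      rwa [LinearMap.mem_ker, LinearMap.sub_apply, Module.End.one_apply, sub_eq_zero] at hw
    have h3 : B w v = 0 := by
      obtain ⟨t, ht⟩ := v.2
      rw [← ht, LinearMap.sub_apply, Module.End.one_apply, sub_eq_add_neg, hB.add_r, hB.neg_r]
      conv_lhs => enter [1, 1]; rw [← hw']
      rw [hinv, add_neg_cancel]
    rw [h2, h3, add_zero]

/-- **The centraliser of `x` in an isometry group.** -/
theorem Sit.card_centralizer_le (h : Sit ρ p e x) {B : V → V → F} {σ : F → F} (hB : Form B σ)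
    (hinv : ∀ g u v, B (ρ g u) (ρ g v) = B u v) {s k : ℕ} (hs : s ^ 2 = Fintype.card F ^ e)
    (hk : {c : G | c ∈ centralizer ({x} : Set G) ∧ ∀ u ∈ UU ρ x, ρ c u = u}.ncard ≤ k) :
    Nat.card (centralizer ({x} : Set G)) ≤ (s + 1) * k := by
  classical
  have hfinE : Finite (Module.End F (UU ρ x)) := Finite.of_injective
    (fun f : Module.End F (UU ρ x) => (f : UU ρ x → UU ρ x)) DFunLike.coe_injective
  have h1 := (h.form hB hinv).card_iso h.irr (n := p) h.pr.pos
    (by rw [← res_pow x_mem, ← h.ord, pow_orderOf_eq_one, res_one])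
    (by
      intro u v
      simp only [res_apply x_mem]
      exact hinv x u v)
    (by
      intro h2
      rw [← res_pow x_mem] at h2
      have h3 := h.faithful (pow_mem (mem_zpowers x) 2) h2
      have h4 := orderOf_dvd_of_pow_eq_one h3
      rw [h.ord] at h4
      exact h.odd ((Nat.prime_dvd_prime_iff_eq h.pr Nat.prime_two).1 h4))
    (s := s) (by rw [hs, h.card_UU])
  have : Fintype G := Fintype.ofFinite G
  let C : Finset G := Finset.univ.filter (fun g => g ∈ centralizer ({x} : Set G))
  have hC : Nat.card (centralizer ({x} : Set G)) = C.card := by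
    rw [Nat.card_eq_fintype_card, Fintype.card_subtype]
  rw [hC]
  have hfib : ∀ b ∈ C.image (res ρ x), (C.filter (fun g => res ρ x g = b)).card ≤ k := by
    intro b hb
    obtain ⟨g0, hg0, rfl⟩ := Finset.mem_image.1 hb
    have hg0' : g0 ∈ centralizer ({x} : Set G) := by simpa [C] using hg0
    refine le_trans ?_ hk
    rw [← Set.ncard_coe_finset]
    apply Set.ncard_le_ncard_of_injOn (fun g => g0⁻¹ * g) _ _ (Set.toFinite _)
    · intro g hg
      simp only [C, Finset.coe_filter, Finset.mem_filter, Finset.mem_univ, true_and,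
        Set.mem_ofPred_eq] at hg
      refine ⟨mul_mem (inv_mem hg0') hg.1, ?_⟩
      intro u hu
      have h2 := congrArg (fun f : Module.End F (UU ρ x) => ((f ⟨u, hu⟩ : UU ρ x) : V)) hg.2
      simp only [res_apply (cent_le_norm hg.1), res_apply (cent_le_norm hg0')] at h2
      rw [rho_mul_apply, h2, rho_inv_apply]
    · intro a _ b _ hab
      exact mul_left_cancel hab
  have h2 := Finset.card_le_mul_card_image C k hfib
  refine h2.trans ?_
  rw [mul_comm]
  apply Nat.mul_le_mul_right
  refine le_trans ?_ h1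
  rw [← Set.ncard_coe_finset]
  apply Set.ncard_le_ncard _ (Set.toFinite _)
  intro b hb
  rw [Finset.mem_coe, Finset.mem_image] at hb
  obtain ⟨g, hg, rfl⟩ := hb
  have hg' : g ∈ centralizer ({x} : Set G) := by simpa [C] using hg
  refine ⟨res_comm hg', ?_⟩
  intro u v
  simp only [res_apply (cent_le_norm hg')]
  exact hinv g u v

theorem exists_field {F : Type v} [Field F] {U : Type w} [AddCommGroup U] [Module F U] [Nontrivial U] (T : Module.End F U)
    [Finite (KT T)] (hT : IrrEnd T) : ∃ (K : Type w) (_ : Field K) (_ : Algebra F K)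
      (φ : K →ₐ[F] Module.End F U), Function.Injective φ ∧ ∀ a ∈ Algebra.adjoin F {T}, ∃ k, φ k = a := by
  let _ : Field (KT T) := KT.field T hT
  refine ⟨KT T, KT.field T hT, (inferInstance : Algebra F (KT T)), (Algebra.adjoin F {T}).val,
    fun a b h => Subtype.ext h, ?_⟩
  intro a ha
  exact ⟨⟨a, ha⟩, rfl⟩

theorem card_roots_le {K : Type*} [Field K] [Algebra F K] {χ : Polynomial F} (hχ : χ.Monic) (S : Finset K)
    (hS : ∀ b ∈ S, Polynomial.aeval b χ = 0) : S.card ≤ χ.natDegree := by
  classical
  have h0 : χ.map (algebraMap F K) ≠ 0 := (hχ.map _).ne_zero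
  have h1 : S ⊆ (χ.map (algebraMap F K)).roots.toFinset := by
    intro b hb
    rw [Multiset.mem_toFinset, Polynomial.mem_roots h0, Polynomial.IsRoot.def,
      Polynomial.eval_map_algebraMap]
    exact hS b hb
  refine (Finset.card_le_card h1).trans ((Multiset.toFinset_card_le _).trans
    ((Polynomial.card_roots' _).trans ?_))
  rw [Polynomial.natDegree_map]

/-- the conjugates of `x` in `⟨x⟩` -/
theorem Sit.card_normalizer_le (h : Sit ρ p e x) :
    Nat.card (normalizer (zpowers x : Set G)) ≤ e * Nat.card (centralizer ({x} : Set G)) := by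
  classical
  have hfd : Module.Finite F V := Module.Finite.of_finite
  have hnt : Nontrivial (UU ρ x) := (Submodule.nontrivial_iff_ne_bot).2 h.UU_ne
  obtain ⟨u0, hu0⟩ := exists_ne (0 : UU ρ x)
  have hfinE : Finite (Module.End F (UU ρ x)) := Finite.of_injective
    (fun f : Module.End F (UU ρ x) => (f : UU ρ x → UU ρ x)) DFunLike.coe_injective
  have hfinK : Finite (KT (res ρ x x)) := inferInstance
  obtain ⟨K, iK, iA, φ, hφ, hφs⟩ := exists_field (res ρ x x) h.irr
  -- the normaliser acts on the conjugates of `x`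
  let N := normalizer (zpowers x : Set G)
  have : Fintype G := Fintype.ofFinite G
  let NN : Finset G := Finset.univ.filter (fun g => g ∈ N)
  have hNN : Nat.card N = NN.card := by
    rw [Nat.card_eq_fintype_card, Fintype.card_subtype]
  change Nat.card N ≤ _
  rw [hNN]
  have hfib : ∀ b ∈ NN.image (fun g => g * x * g⁻¹), (NN.filter (fun g => g * x * g⁻¹ = b)).card ≤
      Nat.card (centralizer ({x} : Set G)) := by
    intro b hb
    obtain ⟨g0, hg0, rfl⟩ := Finset.mem_image.1 hb
    rw [Nat.card_eq_fintype_card, Fintype.card_subtype]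
    apply Finset.card_le_card_of_injOn (fun g => g0⁻¹ * g)
    · intro g hg
      simp only [NN, Finset.coe_filter, Finset.mem_filter, Finset.mem_univ, true_and,
        Set.mem_ofPred_eq] at hg ⊢
      rw [mem_centralizer_singleton_iff]
      have h2 : g * x * g⁻¹ = g0 * x * g0⁻¹ := hg.2
      have h3 : g * x = g0 * x * g0⁻¹ * g := by rw [← h2]; group
      calc g0⁻¹ * g * x = g0⁻¹ * (g * x) := by group
        _ = x * (g0⁻¹ * g) := by rw [h3]; group
    · intro a _ b _ hab
      exact mul_left_cancel hab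
  have h2 := Finset.card_le_mul_card_image NN _ hfib
  refine h2.trans ?_
  rw [mul_comm]
  apply Nat.mul_le_mul_right
  -- the conjugates are roots of the characteristic polynomial
  let χ := (res ρ x x).charpoly
  have hmem : ∀ b ∈ NN.image (fun g => g * x * g⁻¹), b ∈ zpowers x ∧
      Polynomial.aeval (res ρ x b) χ = 0 := by
    intro b hb
    obtain ⟨g, hg, rfl⟩ := Finset.mem_image.1 hb
    have hg' : g ∈ N := by simpa [NN] using hg
    refine ⟨(mem_normalizer_iff.1 hg' x).1 (mem_zpowers x), ?_⟩
    have hginv : g⁻¹ ∈ N := inv_mem hg'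
    have e1 : res ρ x g * res ρ x g⁻¹ = 1 := by rw [← res_mul hg' hginv, mul_inv_cancel, res_one]
    have e2 : res ρ x g⁻¹ * res ρ x g = 1 := by rw [← res_mul hginv hg', inv_mul_cancel, res_one]
    have h4 : res ρ x (g * x * g⁻¹) = res ρ x g * res ρ x x * res ρ x g⁻¹ := by
      rw [res_mul (mul_mem hg' x_mem) hginv, res_mul hg' x_mem]
    have h5 : ∀ f : Polynomial F, Polynomial.aeval (res ρ x g * res ρ x x * res ρ x g⁻¹) f =
        res ρ x g * Polynomial.aeval (res ρ x x) f * res ρ x g⁻¹ := by
      intro f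
      induction f using Polynomial.induction_on' with
      | add a b ha hb => rw [map_add, map_add, ha, hb, mul_add, add_mul]
      | monomial n a =>
        rw [Polynomial.aeval_monomial, Polynomial.aeval_monomial]
        have h6 : (res ρ x g * res ρ x x * res ρ x g⁻¹) ^ n = res ρ x g * res ρ x x ^ n * res ρ x g⁻¹ := by
          induction n with
          | zero => rw [pow_zero, pow_zero, mul_one, e1]
          | succ n ih =>
            rw [pow_succ, ih, pow_succ]
            calc res ρ x g * res ρ x x ^ n * res ρ x g⁻¹ * (res ρ x g * res ρ x x * res ρ x g⁻¹) =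
                res ρ x g * res ρ x x ^ n * (res ρ x g⁻¹ * res ρ x g) * res ρ x x * res ρ x g⁻¹ := by
                  noncomm_ring
              _ = _ := by rw [e2]; noncomm_ring
        rw [h6]
        have h7 : algebraMap F (Module.End F (UU ρ x)) a * (res ρ x g * res ρ x x ^ n * res ρ x g⁻¹) =
            res ρ x g * (algebraMap F (Module.End F (UU ρ x)) a * res ρ x x ^ n) * res ρ x g⁻¹ := by
          rw [← mul_assoc, ← mul_assoc, ← mul_assoc, Algebra.commutes a (res ρ x g)]
        exact h7
    rw [h4, h5, LinearMap.aeval_self_charpoly, mul_zero, zero_mul]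
  have hK : ∀ b ∈ zpowers x, res ρ x b ∈ Algebra.adjoin F {res ρ x x} := by
    intro b hb
    rw [← mem_powers_iff_mem_zpowers] at hb
    obtain ⟨j, hj⟩ := hb
    have hj' : x ^ j = b := hj
    rw [← hj', res_pow x_mem]
    exact pow_mem (Algebra.self_mem_adjoin_singleton F _) j
  have hψ : ∀ b : G, ∃ k : K, b ∈ zpowers x → φ k = res ρ x b := by
    intro b
    by_cases hb : b ∈ zpowers x
    · obtain ⟨k, hk⟩ := hφs _ (hK b hb)
      exact ⟨k, fun _ => hk⟩
    · exact ⟨0, fun h => absurd h hb⟩
  choose ψ hψ using hψ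
  have hinj : Set.InjOn ψ (NN.image (fun g => g * x * g⁻¹) : Finset G) := by
    intro a ha b hb hab
    obtain ⟨ha1, -⟩ := hmem a ha
    obtain ⟨hb1, -⟩ := hmem b hb
    have h4 : res ρ x a = res ρ x b := by rw [← hψ a ha1, ← hψ b hb1, hab]
    have haN : a ∈ N := (zpowers_le.2 x_mem : zpowers x ≤ N) ha1
    have hbN : b ∈ N := (zpowers_le.2 x_mem : zpowers x ≤ N) hb1
    have h5 : res ρ x (a⁻¹ * b) = 1 := by
      rw [res_mul (inv_mem haN) hbN, ← h4, ← res_mul (inv_mem haN) haN, inv_mul_cancel, res_one]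
    have h6 := h.faithful (mul_mem (inv_mem ha1) hb1) h5
    exact (inv_mul_eq_one.1 h6)
  rw [← Finset.card_image_of_injOn hinj]
  have h3 := card_roots_le (K := K) (χ := χ) (LinearMap.charpoly_monic _)
    ((NN.image (fun g => g * x * g⁻¹)).image ψ) (by
      intro k hk
      obtain ⟨b, hb, rfl⟩ := Finset.mem_image.1 hk
      obtain ⟨hb1, hb2⟩ := hmem b hb
      apply hφ
      rw [map_zero, ← hb2, ← hψ b hb1, Polynomial.aeval_algHom_apply])
  rwa [LinearMap.charpoly_natDegree, h.finrank_UU] at h3

end

end Cfsg.Agent.H409.Cyc
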