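import Cfsg.Agent.H409.FprCycO3
import Cfsg.Agent.H934.HeisD4
import Cfsg.Agent.S0280
import Cfsg.Agent.S0282
import Cfsg.Agent.S0293
import Cfsg.Agent.S0294
import Cfsg.Agent.S2142
import Cfsg.Agent.S2150

/-!
# Cyclic Sylow subgroups: small cases, by arithmetic
-/

set_option autoImplicit false
set_option linter.unusedSectionVars false

namespace Cfsg.Agent.H409.Cyc

open Module Subgroup

section chk

variable {G : Type*} [Group G] [Finite G] {F V : Type*} [Field F] [Fintype F] [AddCommGroup V] [Module F V]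
  [Finite V] {ρ : G →* Module.End F V} {p e : ℕ}

/-- **Arithmetic check.** -/
theorem row_of_chk {S : Type*} [Group S] [Finite S] [hp : Fact p.Prime] (hodd : p ≠ 2)
    (hinj : Function.Injective ρ) (hch : (p : F) ≠ 0) (he : ∀ k, p ∣ Fintype.card F ^ k - 1 → e ∣ k)
    (hdim : finrank F V < 2 * e) (hpG : p ∣ Nat.card G) (f : G →* S) (hf : Function.Surjective f)
    (hker : f.ker ≤ center G) (hkp : ¬ p ∣ Nat.card f.ker) {c : ℕ}
    (hC : ∀ x : G, orderOf x = p → Nat.card (centralizer ({x} : Set G)) ≤ c)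
    {L N M : ℕ} (hL : ∀ H : Subgroup S, H ≠ ⊤ → L ≤ H.index) (hN : Nat.card S ∣ N)
    (hM : e * c < Nat.card f.ker * (p * (M + 1))) (hML : M ≤ L)
    (hchk : ∀ g ≤ M, ∀ j < g, L ≤ g + p * j → ¬ (g + p * j ∣ N)) : FprRow (p + 1) 1 p S := by
  obtain ⟨P, y, hy, hNP⟩ := exists_sylow hodd hinj hch he hdim hpG f hf hker hkp hC
  have hk0 : 0 < Nat.card f.ker := Nat.card_pos
  have hpS : p ∣ Nat.card S := by
    have h3 := (f.ker).card_mul_index
    rw [index_ker, MonoidHom.range_eq_top.2 hf, card_top] at h3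
    rw [← h3] at hpG
    exact (hp.out.dvd_mul.1 hpG).resolve_left hkp
  have hPp : p ≤ Nat.card P := Nat.le_of_dvd Nat.card_pos (P.dvd_card_of_dvd_card hpS)
  refine FprRow.of_cyc P hy ?_
  intro H hH g hg hdvd hmod
  have hgM : g ≤ M := by
    by_contra hcon
    push Not at hcon
    have h1 := Nat.le_of_dvd Nat.card_pos hdvd
    have h2 : Nat.card f.ker * (p * (M + 1)) ≤ e * c := by
      calc Nat.card f.ker * (p * (M + 1)) ≤ Nat.card f.ker * (Nat.card P * g) :=
            Nat.mul_le_mul_left _ (Nat.mul_le_mul hPp hcon)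
        _ ≤ Nat.card f.ker * Nat.card (normalizer (P : Set S)) := Nat.mul_le_mul_left _ h1
        _ ≤ e * c := hNP
    omega
  have hLH := hL H hH
  have hgH : g ≤ H.index := by omega
  obtain ⟨j, hj⟩ : ∃ j, H.index = g + p * j := by
    have h1 : p ∣ H.index - g := (Nat.modEq_iff_dvd' hgH).1 hmod.symm
    obtain ⟨j, hj⟩ := h1
    exact ⟨j, by omega⟩
  rcases Nat.lt_or_ge j g with h | h
  · exfalso
    apply hchk g hgM j h (by rw [← hj]; exact hLH)
    rw [← hj]
    exact H.index_dvd_card.trans hN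
  · rw [hj]
    have : p * g ≤ p * j := Nat.mul_le_mul_left _ h
    have h2 : (p + 1) * g = g + p * g := by ring
    omega

/-- the order of `q` modulo `p` -/
theorem Sit.p_dvd {x : G} (h : Sit ρ p e x) : p ∣ Fintype.card F ^ e - 1 := by
  classical
  have hp : Fact p.Prime := ⟨h.pr⟩
  let N := UU ρ x
  have : Fintype N := Fintype.ofFinite N
  have h0 : ∀ u ∈ N, ρ x u ∈ N := fun u hu => norm_UU x_mem hu
  let f : Function.End N := fun u => ⟨ρ x u, h0 u u.2⟩
  have hf : ∀ (k : ℕ) (u : N), (((f ^ k) u : N) : V) = (ρ x ^ k) u := by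
    intro k
    induction k with
    | zero => intro u; rfl
    | succ k ih =>
      intro u
      rw [pow_succ', pow_succ']
      change ρ x (((f ^ k) u : N) : V) = _
      rw [ih]; rfl
  have hfp : f ^ p ^ 1 = 1 := by
    rw [pow_one]
    funext u
    apply Subtype.ext
    rw [hf, h.pow_p]; rfl
  have h1 := Equiv.Perm.card_fixedPoints_modEq (f := f) (p := p) (n := 1) hfp
  have h2 : Fintype.card f.fixedPoints = 1 := by
    rw [Fintype.card_eq_one_iff]
    refine ⟨⟨0, ?_⟩, ?_⟩
    · apply Subtype.ext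
      exact map_zero _
    · rintro ⟨u, hu⟩
      apply Subtype.ext
      apply Subtype.ext
      have h3 : ρ x (u : V) = u := congrArg Subtype.val hu
      exact h.disj u.2 h3
  rw [h2, Module.card_eq_pow_finrank (K := F), h.finrank_UU] at h1
  have h3 : 1 ≤ Fintype.card F ^ e := Nat.one_le_pow _ _ Fintype.card_pos
  exact (Nat.modEq_iff_dvd' h3).1 h1.symm

end chk

end Cfsg.Agent.H409.Cyc
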