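import Cfsg.Agent.H409.FprCycD
import Cfsg.Agent.H973.ZPSp
import Cfsg.Agent.S2141
import Cfsg.Agent.S2142

/-!
# Cyclic Sylow subgroups: symplectic groups, `p ∣ q ^ m + 1`
-/

set_option autoImplicit false
set_option linter.unusedSectionVars false

namespace Cfsg.Agent.H409.Cyc

open Module Subgroup Matrix

theorem not_dvd_of_sq {G : Type*} [Group G] [Finite G] {p : ℕ} [hp : Fact p.Prime] (hodd : p ≠ 2) (Z : Subgroup G)
    (hZ : ∀ z ∈ Z, z ^ 2 = 1) : ¬ p ∣ Nat.card Z := by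
  intro h
  obtain ⟨z, hz⟩ := exists_prime_orderOf_dvd_card' p h
  have h1 : z ^ 2 = 1 := Subtype.ext (hZ z z.2)
  have h2 := orderOf_dvd_of_pow_eq_one h1
  rw [hz] at h2
  exact hodd ((Nat.prime_dvd_prime_iff_eq hp.out Nat.prime_two).1 h2)

/-- the order of `|F|` modulo `p` divides `p - 1` -/
theorem lt_of_he {q p e : ℕ} (hp : p.Prime) (hq : ¬ p ∣ q) (he : ∀ k, p ∣ q ^ k - 1 → e ∣ k) : e + 1 ≤ p := by
  have hp2 := hp.two_le
  have h1 : q ^ (p - 1) ≡ 1 [MOD p] := by
    have h2 := Nat.ModEq.pow_totient (((Nat.Prime.coprime_iff_not_dvd hp).2 hq).symm)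
    rwa [Nat.totient_prime hp] at h2
  have hq0 : 0 < q := Nat.pos_of_ne_zero (fun h => hq (h ▸ dvd_zero p))
  have h2 : p ∣ q ^ (p - 1) - 1 := (Nat.modEq_iff_dvd' (Nat.one_le_pow _ _ hq0)).1 h1.symm
  have h3 := Nat.le_of_dvd (by omega) (he _ h2)
  omega

section sp

variable {F : Type*} [Field F] [Fintype F] {m : ℕ}

/-- the natural representation -/
noncomputable def rhoSp (m : ℕ) (F : Type*) [Field F] :
    Matrix.symplecticGroup (Fin m) F →* Module.End F (Fin m ⊕ Fin m → F) where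
  toFun g := Matrix.toLin' (g : Matrix (Fin m ⊕ Fin m) (Fin m ⊕ Fin m) F)
  map_one' := by
    rw [OneMemClass.coe_one, Matrix.toLin'_one]; rfl
  map_mul' a b := by
    rw [MulMemClass.coe_mul, Matrix.toLin'_mul]; rfl

theorem rhoSp_apply (g : Matrix.symplecticGroup (Fin m) F) (v : Fin m ⊕ Fin m → F) :
    rhoSp m F g v = (g : Matrix (Fin m ⊕ Fin m) (Fin m ⊕ Fin m) F) *ᵥ v := Matrix.toLin'_apply _ _

theorem rhoSp_inj : Function.Injective (rhoSp m F) := by
  intro a b hab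
  apply Subtype.ext
  exact (Matrix.toLin').injective hab

/-- the form -/
def formSp (m : ℕ) (F : Type*) [Field F] (u v : Fin m ⊕ Fin m → F) : F := u ⬝ᵥ (Matrix.J (Fin m) F *ᵥ v)

theorem isForm_sp : Form (formSp m F) (fun a => a) where
  add_l u v w := by simp [formSp]
  add_r u v w := by simp [formSp, Matrix.mulVec_add]
  smul_l a u v := by simp [formSp]
  smul_r a u v := by simp [formSp, Matrix.mulVec_smul]
  inv a := rfl
  nd v hv := by
    have h1 : Matrix.J (Fin m) F *ᵥ v = 0 := by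
      funext i
      have h2 := hv (Pi.single i 1)
      simp only [formSp, single_dotProduct, one_mul] at h2
      exact h2
    have h2 := congrArg (fun w => Matrix.J (Fin m) F *ᵥ w) h1
    simp only [Matrix.mulVec_mulVec, Matrix.J_squared, Matrix.mulVec_zero, Matrix.neg_mulVec,
      Matrix.one_mulVec] at h2
    exact neg_eq_zero.1 h2

theorem formSp_inv (g : Matrix.symplecticGroup (Fin m) F) (u v : Fin m ⊕ Fin m → F) :
    formSp m F (rhoSp m F g u) (rhoSp m F g v) = formSp m F u v := by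
  rw [rhoSp_apply, rhoSp_apply, formSp, formSp, Matrix.mulVec_mulVec]
  have h1 : (g : Matrix (Fin m ⊕ Fin m) (Fin m ⊕ Fin m) F)ᵀ * (Matrix.J (Fin m) F * g) = Matrix.J (Fin m) F := by
    rw [← Matrix.mul_assoc]
    exact SymplecticGroup.mem_iff'.1 g.2
  rw [← Matrix.vecMul_transpose, ← Matrix.dotProduct_mulVec, Matrix.mulVec_mulVec, h1]

/-- the centraliser of an element of order `p` -/
theorem sp_cent {p : ℕ} [hp : Fact p.Prime] (hodd : p ≠ 2) (hch : (p : F) ≠ 0)
    (he : ∀ k, p ∣ Fintype.card F ^ k - 1 → 2 * m ∣ k) (hm : 1 ≤ m) (x : Matrix.symplecticGroup (Fin m) F)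
    (hx : orderOf x = p) :
    Nat.card (centralizer ({x} : Set (Matrix.symplecticGroup (Fin m) F))) ≤ Fintype.card F ^ m + 1 := by
  have hfr : finrank F (Fin m ⊕ Fin m → F) = 2 * m := by
    rw [Module.finrank_fintype_fun_eq_card, Fintype.card_sum, Fintype.card_fin]; ring
  have h : Sit (rhoSp m F) p (2 * m) x := ⟨rhoSp_inj, hx, hp.out, hodd, hch, he, by rw [hfr]; omega⟩
  have h1 := h.card_centralizer_le isForm_sp formSp_inv (s := Fintype.card F ^ m) (k := 1)
    (by rw [← pow_mul, mul_comm]) (by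
      rw [Set.ncard_le_one_iff]
      have htop : UU (rhoSp m F) x = ⊤ := by
        apply Submodule.eq_top_of_finrank_eq
        rw [h.finrank_UU, hfr]
      have key : ∀ c : Matrix.symplecticGroup (Fin m) F, (∀ u ∈ UU (rhoSp m F) x, rhoSp m F c u = u) → c = 1 := by
        intro c hc
        apply rhoSp_inj
        rw [map_one]
        apply LinearMap.ext
        intro v
        exact hc v (by rw [htop]; trivial)
      rintro a b ⟨-, ha⟩ ⟨-, hb⟩
      rw [key a ha, key b hb])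
  rwa [mul_one] at h1

/-- **Symplectic groups, `p ∣ q^m + 1`.** -/
theorem row_sp {p : ℕ} [hp : Fact p.Prime] (hodd : p ≠ 2) (hch : (p : F) ≠ 0)
    (he : ∀ k, p ∣ Fintype.card F ^ k - 1 → 2 * m ∣ k) (hm : 2 ≤ m) (hpS : p ∣ Nat.card (PSp m F))
    (hq : 4 ≤ Fintype.card F ∨ (3 ≤ m ∧ 3 ≤ Fintype.card F) ∨ 5 ≤ m) : FprRow (p + 1) 1 p (PSp m F) := by
  classical
  obtain ⟨q, hq0⟩ : ∃ q, Fintype.card F = q := ⟨_, rfl⟩
  have hker : (QuotientGroup.mk' (center (Matrix.symplecticGroup (Fin m) F))).ker =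
      center (Matrix.symplecticGroup (Fin m) F) := QuotientGroup.ker_mk' _
  have hpq : ¬ p ∣ q := by
    intro h
    apply hch
    obtain ⟨r, hr⟩ := CharP.exists F
    have hrp : r.Prime := CharP.char_is_prime F r
    obtain ⟨n, -, hn⟩ := FiniteField.card F r
    rw [hq0] at hn
    rw [hn] at h
    have h1 := (Nat.prime_dvd_prime_iff_eq hp.out hrp).1 (hp.out.dvd_of_dvd_pow h)
    rw [h1]
    exact CharP.cast_eq_zero F r
  have hpe : 2 * m + 1 ≤ p := lt_of_he hp.out (by rw [hq0]; exact hpq) he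
  have hq2 : 2 ≤ q := hq0 ▸ Fintype.one_lt_card
  have hpG : p ∣ Nat.card (Matrix.symplecticGroup (Fin m) F) := by
    refine hpS.trans ?_
    exact Subgroup.card_quotient_dvd_card _
  have hmain := fun (L : ℕ) (hL : ∀ H : Subgroup (PSp m F), H ≠ ⊤ → L ≤ H.index)
    (hnum : (2 * m + 1) * (q ^ m + 1) ≤ L) =>
    row_of_lin (S := PSp m F) (F := F) (ρ := rhoSp m F) (p := p) (e := 2 * m) hodd rhoSp_inj hch he
    (by
      rw [Module.finrank_fintype_fun_eq_card, Fintype.card_sum, Fintype.card_fin]; omega) hpG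
    (QuotientGroup.mk' (center (Matrix.symplecticGroup (Fin m) F))) (QuotientGroup.mk'_surjective _)
    (by rw [hker]) (by
      rw [hker]
      exact not_dvd_of_sq hodd _ (fun z hz => Cfsg.Agent.H973.ZPSp.center_sq hz))
    (c := q ^ m + 1) (fun x hx => hq0 ▸ sp_cent hodd hch he (by omega) x hx) (L := L) hL (by
      have h1 : 1 ≤ Nat.card (QuotientGroup.mk' (center (Matrix.symplecticGroup (Fin m) F))).ker := Nat.card_pos
      have h2 : (p + 1) * (2 * m) ≤ p * (2 * m + 1) := by nlinarith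
      calc (p + 1) * (2 * m * (q ^ m + 1)) = (p + 1) * (2 * m) * (q ^ m + 1) := by ring
        _ ≤ p * (2 * m + 1) * (q ^ m + 1) := Nat.mul_le_mul_right _ h2
        _ = p * (1 * ((2 * m + 1) * (q ^ m + 1))) := by ring
        _ ≤ _ := Nat.mul_le_mul_left _ (Nat.mul_le_mul h1 hnum))
  rcases Nat.lt_or_ge 2 q with hq3 | hq3
  · refine hmain _ (Cfsg.Agent.S2141.result hq0 m hm (by omega) (by rintro ⟨h1, h2⟩; omega)).1 ?_
    rw [Nat.le_div_iff_mul_le (by omega)]
    have h2 : q ^ (2 * m) - 1 = (q ^ m + 1) * (q ^ m - 1) := by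
      have := Nat.sq_sub_sq (q ^ m) 1
      rw [one_pow, ← pow_mul, mul_comm m 2] at this
      exact this
    rw [h2, mul_comm (2 * m + 1), mul_assoc]
    apply Nat.mul_le_mul_left
    -- `(2 m + 1) (q - 1) ≤ q ^ m - 1`
    have key : ∀ k : ℕ, (2 * (k + 3) + 1) * (q - 1) ≤ q ^ (k + 3) - 1 := by
      intro k
      obtain ⟨r, hr⟩ : ∃ r, q = r + 1 := ⟨q - 1, by omega⟩
      have hr2 : 2 ≤ r := by omega
      subst hr
      rw [Nat.add_sub_cancel]
      induction k with
      | zero =>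
        have : (r + 1) ^ 3 = r ^ 3 + 3 * r ^ 2 + 3 * r + 1 := by ring
        norm_num
        rw [this]
        have h5 : 7 * r ≤ r ^ 3 + 3 * r ^ 2 + 3 * r := by nlinarith [Nat.mul_le_mul hr2 hr2]
        omega
      | succ k ih =>
        have h5 : 1 ≤ (r + 1) ^ (k + 3) := Nat.one_le_pow _ _ (by omega)
        have h6 : (r + 1) ^ (k + 1 + 3) = (r + 1) * (r + 1) ^ (k + 3) := by ring
        rw [h6]
        obtain ⟨a, ha⟩ : ∃ a, (r + 1) ^ (k + 3) = a + 1 := ⟨(r + 1) ^ (k + 3) - 1, by omega⟩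
        rw [ha] at ih ⊢
        rw [Nat.add_sub_cancel] at ih
        have h7 : (r + 1) * (a + 1) = r * a + a + r + 1 := by ring
        rw [h7, Nat.add_sub_cancel]
        nlinarith
    rcases Nat.lt_or_ge 2 m with h3 | h3
    · obtain ⟨k, rfl⟩ : ∃ k, m = k + 3 := ⟨m - 3, by omega⟩
      exact key k
    · have hm2 : m = 2 := by omega
      subst hm2
      have hq4 : 4 ≤ q := by omega
      obtain ⟨r, hr⟩ : ∃ r, q = r + 1 := ⟨q - 1, by omega⟩
      subst hr
      rw [Nat.add_sub_cancel]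
      have : (r + 1) ^ 2 = r ^ 2 + 2 * r + 1 := by ring
      rw [this, Nat.add_sub_cancel]
      nlinarith
  · have hq2' : q = 2 := by omega
    subst hq2'
    have hm5 : 5 ≤ m := by omega
    refine hmain _ (Cfsg.Agent.S2142.result hq0 m (by omega)).1 ?_
    obtain ⟨k, rfl⟩ : ∃ k, m = k + 5 := ⟨m - 5, by omega⟩
    have h1 : ∀ k : ℕ, 2 * (2 * (k + 5) + 2) ≤ 2 ^ (k + 5) := by
      intro k
      induction k with
      | zero => norm_num
      | succ k ih =>
        have : 2 ^ (k + 1 + 5) = 2 * 2 ^ (k + 5) := by ring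
        rw [this]; omega
    have h2 := h1 k
    have h3 : 2 ^ (k + 5) = 2 * 2 ^ (k + 5 - 1) := by
      rw [show k + 5 - 1 = k + 4 by omega]; ring
    have h4 : 2 * (k + 5) + 2 ≤ 2 ^ (k + 5 - 1) := by omega
    have h5 : 32 ≤ 2 ^ (k + 5) := by
      calc 32 = 2 ^ 5 := by norm_num
        _ ≤ 2 ^ (k + 5) := Nat.pow_le_pow_right (by norm_num) (by omega)
    obtain ⟨a, ha⟩ : ∃ a, 2 ^ (k + 5) = a + 1 := ⟨2 ^ (k + 5) - 1, by omega⟩
    have h6 : (2 * (k + 5) + 2) * a ≤ 2 ^ (k + 5 - 1) * (2 ^ (k + 5) - 1) := by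
      rw [ha, Nat.add_sub_cancel]
      exact Nat.mul_le_mul_right _ h4
    refine le_trans ?_ h6
    rw [ha]
    have h7 : 2 * (2 * (k + 5) + 1) ≤ a := by omega
    nlinarith

end sp

end Cfsg.Agent.H409.Cyc
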