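import Cfsg.Agent.H409.FprCycSU
import Cfsg.Agent.H409.FprCycSp
import Cfsg.Agent.H141.SpinTwo
import Cfsg.Agent.H75.Transfer

/-!
# Cyclic Sylow subgroups: orthogonal groups
-/

set_option autoImplicit false
set_option linter.unusedSectionVars false

namespace Cfsg.Agent.H409.Cyc

open Module Subgroup QuadraticMap
open Cfsg.Agent.LieClassical.OrthCore Cfsg.Agent.LieClassical.OrthTrans

section conic

variable {F : Type*} [Field F] [Fintype F]

theorem conic_card (c β γ : F) (hc : c ≠ 0) (hd : β ^ 2 - 4 * c * γ ≠ 0)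
    (S : Finset (F × F)) (hS : ∀ p ∈ S, c * p.1 ^ 2 + β * p.1 * p.2 + γ * p.2 ^ 2 = c) :
    S.card ≤ Fintype.card F + 1 := by
  classical
  let f : F × F → Option F := fun p => if p.1 = 1 ∧ p.2 = 0 then none else
    if p.2 = 0 then some (-β / (2 * c)) else some ((p.1 - 1) / p.2)
  have key : ∀ s : F, s ^ 2 * c + s * β + γ = 0 → 2 * s * c + β ≠ 0 := by
    intro s h1 h2
    apply hd
    linear_combination (2 * s * c + β) * h2 - 4 * c * h1
  -- the equation of a point off the axis
  have eqn : ∀ p ∈ S, p.2 ≠ 0 → ∀ s : F, (p.1 - 1) / p.2 = s →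
      2 * s * c + β + p.2 * (s ^ 2 * c + s * β + γ) = 0 := by
    intro p hp h2 s hs
    have h1 := hS p hp
    have h3 : p.1 = 1 + s * p.2 := by
      rw [← hs, div_mul_cancel₀ _ h2]; ring
    rw [h3] at h1
    apply mul_left_cancel₀ h2
    linear_combination h1
  have axis : ∀ p ∈ S, p.2 = 0 → ¬ (p.1 = 1 ∧ p.2 = 0) → p.1 = -1 ∧ (2 : F) ≠ 0 := by
    intro p hp h2 h3
    have h1 := hS p hp
    rw [h2] at h1
    have h4 : c * ((p.1 - 1) * (p.1 + 1)) = 0 := by linear_combination h1
    rcases mul_eq_zero.1 ((mul_eq_zero.1 h4).resolve_left hc) with h5 | h5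
    · exact absurd ⟨sub_eq_zero.1 h5, h2⟩ h3
    · have h6 : p.1 = -1 := eq_neg_of_add_eq_zero_left h5
      refine ⟨h6, ?_⟩
      intro h7
      apply h3
      refine ⟨?_, h2⟩
      rw [h6]
      linear_combination -h7
  have h0 : S.card ≤ (Finset.univ : Finset (Option F)).card := by
    apply Finset.card_le_card_of_injOn f (fun _ _ => Finset.mem_univ _)
    intro p hp p' hp' hpp
    have hpS : p ∈ S := hp
    have hpS' : p' ∈ S := hp'
    have f1 : ∀ p : F × F, (p.1 = 1 ∧ p.2 = 0) → f p = none := fun p h => if_pos h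
    have f2 : ∀ p : F × F, ¬ (p.1 = 1 ∧ p.2 = 0) → p.2 = 0 → f p = some (-β / (2 * c)) := fun p h h' => by
      simp only [f]; rw [if_neg h, if_pos h']
    have f3 : ∀ p : F × F, p.2 ≠ 0 → f p = some ((p.1 - 1) / p.2) := fun p h => by
      simp only [f]; rw [if_neg (fun h' => h h'.2), if_neg h]
    have mix : ∀ p ∈ S, ∀ p' ∈ S, ¬ (p.1 = 1 ∧ p.2 = 0) → p.2 = 0 → p'.2 ≠ 0 →
        (-β / (2 * c)) = (p'.1 - 1) / p'.2 → False := by
      intro p hp p' hp' h1 h2 h3 h4
      obtain ⟨-, h5⟩ := axis p hp h2 h1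
      have h6 := eqn p' hp' h3 _ h4.symm
      have h7 : 2 * (-β / (2 * c)) * c + β = 0 := by field_simp; ring
      rw [h7, zero_add] at h6
      exact key _ ((mul_eq_zero.1 h6).resolve_left h3) h7
    by_cases hA : p.1 = 1 ∧ p.2 = 0
    · by_cases hA' : p'.1 = 1 ∧ p'.2 = 0
      · exact Prod.ext (hA.1.trans hA'.1.symm) (hA.2.trans hA'.2.symm)
      · exfalso
        rw [f1 p hA] at hpp
        by_cases hB' : p'.2 = 0
        · rw [f2 p' hA' hB'] at hpp; exact Option.some_ne_none _ hpp.symm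
        · rw [f3 p' hB'] at hpp; exact Option.some_ne_none _ hpp.symm
    · by_cases hA' : p'.1 = 1 ∧ p'.2 = 0
      · exfalso
        rw [f1 p' hA'] at hpp
        by_cases hB : p.2 = 0
        · rw [f2 p hA hB] at hpp; exact Option.some_ne_none _ hpp
        · rw [f3 p hB] at hpp; exact Option.some_ne_none _ hpp
      · by_cases hB : p.2 = 0
        · by_cases hB' : p'.2 = 0
          · exact Prod.ext ((axis p hpS hB hA).1.trans (axis p' hpS' hB' hA').1.symm) (hB.trans hB'.symm)
          · rw [f2 p hA hB, f3 p' hB'] at hpp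
            exact (mix p hpS p' hpS' hA hB hB' (Option.some.inj hpp)).elim
        · by_cases hB' : p'.2 = 0
          · rw [f2 p' hA' hB', f3 p hB] at hpp
            exact (mix p' hpS' p hpS hA' hB' hB (Option.some.inj hpp).symm).elim
          · rw [f3 p hB, f3 p' hB'] at hpp
            have h8 := Option.some.inj hpp
            have e1 := eqn p hpS hB _ rfl
            have e2 := eqn p' hpS' hB' _ h8.symm
            have h9 : p.1 - 1 = (p.1 - 1) / p.2 * p.2 := by rw [div_mul_cancel₀ _ hB]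
            have h10 : p'.1 - 1 = (p.1 - 1) / p.2 * p'.2 := by rw [h8, div_mul_cancel₀ _ hB']
            obtain ⟨s, hs⟩ : ∃ s, s = (p.1 - 1) / p.2 := ⟨_, rfl⟩
            rw [← hs] at e1 e2 h9 h10
            have e3 : (p.2 - p'.2) * (s ^ 2 * c + s * β + γ) = 0 := by linear_combination e1 - e2
            have e4 : s ^ 2 * c + s * β + γ ≠ 0 := by
              intro h11
              rw [h11, mul_zero, add_zero] at e1
              exact key s h11 e1
            have e5 : p.2 = p'.2 := sub_eq_zero.1 ((mul_eq_zero.1 e3).resolve_right e4)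
            refine Prod.ext ?_ e5
            rw [e5] at h9
            exact sub_left_injective (h9.trans h10.symm)
  rwa [Finset.card_univ, Fintype.card_option] at h0

variable {V : Type*} [AddCommGroup V] [Module F V] [Finite V]

theorem plane_card (Q : QuadraticForm F V) (W : Submodule F V) (hW : finrank F W = 2)
    (hnd : ∀ w ∈ W, (∀ w' ∈ W, polar Q w' w = 0) → w = 0) {w0 : V} (hw0 : w0 ∈ W) (hQ0 : Q w0 ≠ 0) :
    {w : V | w ∈ W ∧ Q w = Q w0}.ncard ≤ Fintype.card F + 1 := by
  classical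
  have hfd : Module.Finite F V := Module.Finite.of_finite
  have h00 : w0 ≠ 0 := by
    rintro rfl
    exact hQ0 (QuadraticMap.map_zero Q)
  obtain ⟨w1, hw1, hn⟩ : ∃ w1 ∈ W, w1 ∉ Submodule.span F {w0} := by
    by_contra hcon
    push Not at hcon
    have h1 : W ≤ Submodule.span F {w0} := hcon
    have h2 := Submodule.finrank_mono h1
    rw [hW, finrank_span_singleton h00] at h2
    omega
  have hli : LinearIndependent F ![w0, w1] := by
    rw [LinearIndependent.pair_iff' h00]
    intro a ha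
    exact hn (ha ▸ Submodule.smul_mem _ a (Submodule.mem_span_singleton_self w0))
  have hspan : W = Submodule.span F {w0, w1} := by
    symm
    apply Submodule.eq_of_le_of_finrank_eq
    · rw [Submodule.span_le]
      rintro v (rfl | rfl)
      · exact hw0
      · exact hw1
    · have h1 := finrank_span_eq_card hli
      rw [Matrix.range_cons_cons_empty, Fintype.card_fin] at h1
      rw [h1, hW]
  have hQ : ∀ a b : F, Q (a • w0 + b • w1) = Q w0 * a ^ 2 + polar Q w0 w1 * a * b + Q w1 * b ^ 2 := by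
    intro a b
    rw [Q_add, QuadraticMap.map_smul, QuadraticMap.map_smul, polar_smul_left, polar_smul_right]
    simp only [smul_eq_mul]
    ring
  have hd : polar Q w0 w1 ^ 2 - 4 * Q w0 * Q w1 ≠ 0 := by
    intro h1
    have h2 : polar Q w0 w1 • w0 - (2 * Q w0) • w1 = 0 := by
      apply hnd _ (W.sub_mem (W.smul_mem _ hw0) (W.smul_mem _ hw1))
      intro w' hw'
      rw [hspan, Submodule.mem_span_pair] at hw'
      obtain ⟨a, b, rfl⟩ := hw'
      rw [polar_add_left, polar_smul_left, polar_smul_left, polar_sub_right, polar_sub_right,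
        polar_smul_right, polar_smul_right, polar_smul_right, polar_smul_right, polar_self', polar_self',
        polar_comm Q w1 w0]
      simp only [smul_eq_mul]
      linear_combination b * h1
    have h3 := LinearIndependent.pair_iff.1 hli (polar Q w0 w1) (-(2 * Q w0)) (by
      rw [neg_smul, ← sub_eq_add_neg]; exact h2)
    obtain ⟨h4, h5⟩ := h3
    have h5' : 2 * Q w0 = 0 := neg_eq_zero.1 h5
    apply h00
    apply hnd _ hw0
    intro w' hw'
    rw [hspan, Submodule.mem_span_pair] at hw'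
    obtain ⟨a, b, rfl⟩ := hw'
    rw [polar_add_left, polar_smul_left, polar_smul_left, polar_self', polar_comm Q w1 w0, h4, h5']
    simp
  let S : Finset (F × F) := Finset.univ.filter (fun p => Q (p.1 • w0 + p.2 • w1) = Q w0)
  have h1 := conic_card (Q w0) (polar Q w0 w1) (Q w1) hQ0 hd S (by
    intro p hp
    rw [← hQ]
    exact (Finset.mem_filter.1 hp).2)
  refine le_trans ?_ h1
  have h2 : {w : V | w ∈ W ∧ Q w = Q w0} ⊆ ((S.image (fun p : F × F => p.1 • w0 + p.2 • w1) : Finset V) : Set V) := by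
    rintro w ⟨hw, hwQ⟩
    rw [hspan, Submodule.mem_span_pair] at hw
    obtain ⟨a, b, rfl⟩ := hw
    rw [Finset.coe_image]
    exact ⟨(a, b), Finset.mem_coe.2 (Finset.mem_filter.2 ⟨Finset.mem_univ _, hwQ⟩), rfl⟩
  refine (Set.ncard_le_ncard h2 (Set.toFinite _)).trans ?_
  rw [Set.ncard_coe_finset]
  exact Finset.card_image_le

end conic

section hyper

variable {F V : Type*} [Field F] [AddCommGroup V] [Module F V] [FiniteDimensional F V] {Q : QuadraticForm F V}

/-- an element of `Ω` fixing a hyperplane is trivial -/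
theorem eq_one_of_hyper (hG : Good Q) {g : V ≃ₗ[F] V} (hg : g ∈ E Q) (T : Submodule F V)
    (hT : finrank F V ≤ finrank F T + 1) (hgT : ∀ t ∈ T, g t = t) : g = 1 := by
  by_contra hne
  obtain ⟨v0, hv0⟩ : ∃ v0, g v0 ≠ v0 := by
    by_contra hcon
    push Not at hcon
    exact hne (LinearEquiv.ext hcon)
  have hgO : g ∈ O Q := E_le_O hg
  have hv0T : v0 ∉ T := fun h => hv0 (hgT v0 h)
  have hsup : T ⊔ Submodule.span F {v0} = ⊤ := by
    apply Submodule.eq_top_of_finrank_eq
    apply le_antisymm (Submodule.finrank_le _)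
    have h1 : T < T ⊔ Submodule.span F {v0} := by
      refine lt_of_le_of_ne le_sup_left ?_
      intro h
      apply hv0T
      rw [h]
      exact Submodule.mem_sup_right (Submodule.mem_span_singleton_self v0)
    have h2 := Submodule.finrank_lt_finrank_of_lt h1
    omega
  set n := g v0 - v0 with hn
  have hn0 : n ≠ 0 := sub_ne_zero.2 hv0
  have hnT : ∀ t ∈ T, polar Q t n = 0 := by
    intro t ht
    rw [hn, polar_sub_right]
    have h1 := polar_map hgO t v0
    rw [hgT t ht] at h1
    rw [h1, sub_self]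
  have hnv : polar Q v0 n = -Q n := by
    have h1 : Q (v0 + n) = Q v0 := by
      rw [hn, add_sub_cancel]
      exact hgO v0
    rw [Q_add] at h1
    linear_combination h1
  have hQn : Q n ≠ 0 := by
    intro h0
    apply hn0
    apply hG.nondeg
    intro y
    have hy : y ∈ T ⊔ Submodule.span F {v0} := by rw [hsup]; trivial
    obtain ⟨t, ht, s, hs, rfl⟩ := Submodule.mem_sup.1 hy
    obtain ⟨a, rfl⟩ := Submodule.mem_span_singleton.1 hs
    rw [polar_comm, polar_add_left, polar_smul_left, hnT t ht, hnv, h0]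
    simp
  have href : g = refl Q n hQn := by
    apply LinearEquiv.ext
    intro y
    have hy : y ∈ T ⊔ Submodule.span F {v0} := by rw [hsup]; trivial
    obtain ⟨t, ht, s, hs, rfl⟩ := Submodule.mem_sup.1 hy
    obtain ⟨a, rfl⟩ := Submodule.mem_span_singleton.1 hs
    rw [map_add, map_smul, map_add, map_smul, hgT t ht, refl_apply, refl_apply, polar_comm Q n t, hnT t ht,
      polar_comm Q n v0, hnv]
    have h1 : (Q n)⁻¹ * -Q n = -1 := by field_simp
    rw [h1]
    have h2 : g v0 = v0 + n := by rw [hn]; abel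
    rw [h2]
    simp
  have hcomm : g ∈ ⁅O Q, O Q⁆ := by rw [hG.commutator_eq_E]; exact hg
  by_cases h2 : (2 : F) = 0
  · have h3 := Cfsg.Agent.H141.SpinFacts.even_rk_of_mem h2 hG.nondeg hcomm
    rw [href, Cfsg.Agent.H141.SpinFacts.rk_refl hG.nondeg hQn] at h3
    exact absurd h3 (by decide)
  · have h1 : ⁅O Q, O Q⁆ ≤ (LinearEquiv.det (R := F) (M := V)).ker := by
      rw [Subgroup.commutator_le]
      intro a _ b _
      rw [MonoidHom.mem_ker, map_commutatorElement, commutatorElement_eq_one_iff_mul_comm, mul_comm]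
    have h3 : LinearEquiv.det g = 1 := h1 hcomm
    rw [href, Cfsg.Agent.H160.QSpin.det_refl hQn] at h3
    apply h2
    have h4 := congrArg Units.val h3
    simp only [Units.val_neg, Units.val_one] at h4
    linear_combination -h4

end hyper

section om

variable {F V : Type*} [Field F] [Fintype F] [AddCommGroup V] [Module F V] [Finite V] {Q : QuadraticForm F V}

/-- the natural representation -/
noncomputable def rhoE (Q : QuadraticForm F V) : E Q →* Module.End F V where
  toFun g := ((g : V ≃ₗ[F] V) : V →ₗ[F] V)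
  map_one' := rfl
  map_mul' _ _ := rfl

theorem rhoE_apply (g : E Q) (v : V) : rhoE Q g v = (g : V ≃ₗ[F] V) v := rfl

theorem rhoE_inj : Function.Injective (rhoE Q) := by
  intro a b hab
  apply Subtype.ext
  apply LinearEquiv.ext
  intro v
  exact LinearMap.congr_fun hab v

theorem isForm_E (hQ : Nondeg Q) : Form (fun u v : V => polar Q u v) (fun a : F => a) where
  add_l u v w := polar_add_left Q u v w
  add_r u v w := polar_add_right Q u v w
  smul_l a u v := by rw [polar_smul_left, smul_eq_mul]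
  smul_r a u v := by rw [polar_smul_right, smul_eq_mul]
  inv a := rfl
  nd v hv := hQ v (fun y => by rw [polar_comm]; exact hv y)

theorem formE_inv (g : E Q) (u v : V) : polar Q (rhoE Q g u) (rhoE Q g v) = polar Q u v :=
  polar_map (E_le_O g.2) u v

variable {p e : ℕ} {x : E Q}

theorem perp_UU {w : V} (hw : rhoE Q x w = w) {u : V} (hu : u ∈ UU (rhoE Q) x) : polar Q u w = 0 := by
  obtain ⟨v, rfl⟩ := hu
  rw [LinearMap.sub_apply, Module.End.one_apply, polar_sub_left]
  have h1 := formE_inv x v w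
  rw [hw] at h1
  rw [h1, sub_self]

theorem sup_ker (h : Sit (rhoE Q) p e x) : UU (rhoE Q) x ⊔ LinearMap.ker (rhoE Q x - 1) = ⊤ := by
  have hfd : Module.Finite F V := Module.Finite.of_finite
  have hdisj : UU (rhoE Q) x ⊓ LinearMap.ker (rhoE Q x - 1) = ⊥ := by
    rw [eq_bot_iff]
    rintro w ⟨hw1, hw2⟩
    rw [SetLike.mem_coe, LinearMap.mem_ker, LinearMap.sub_apply, Module.End.one_apply, sub_eq_zero] at hw2
    rw [Submodule.mem_bot]
    exact h.disj hw1 hw2
  apply Submodule.eq_top_of_finrank_eq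
  have h1 := Submodule.finrank_sup_add_finrank_inf_eq (UU (rhoE Q) x) (LinearMap.ker (rhoE Q x - 1))
  rw [hdisj, finrank_bot, add_zero] at h1
  rw [h1]
  exact LinearMap.finrank_range_add_finrank_ker (rhoE Q x - 1)

theorem mem_kerE {w : V} : w ∈ LinearMap.ker (rhoE Q x - 1) ↔ rhoE Q x w = w := by
  rw [LinearMap.mem_ker, LinearMap.sub_apply, Module.End.one_apply, sub_eq_zero]

/-- one-dimensional (or trivial) fixed space -/
theorem E_cent_one (hG : Good Q) (h : Sit (rhoE Q) p e x) (hd : finrank F V ≤ e + 1) {s : ℕ}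
    (hs : s ^ 2 = Fintype.card F ^ e) : Nat.card (centralizer ({x} : Set (E Q))) ≤ (s + 1) * 1 := by
  have hfd : Module.Finite F V := Module.Finite.of_finite
  have : Finite (E Q) := Finite.of_injective (fun g : E Q => ((g : V ≃ₗ[F] V) : V → V)) (by
    intro a b hab
    exact Subtype.ext (DFunLike.coe_injective hab))
  refine h.card_centralizer_le (isForm_E hG.nondeg) formE_inv hs ?_
  rw [Set.ncard_le_one_iff]
  have key : ∀ c : E Q, (∀ u ∈ UU (rhoE Q) x, rhoE Q c u = u) → c = 1 := by
    intro c hc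
    apply Subtype.ext
    apply eq_one_of_hyper hG c.2 (UU (rhoE Q) x) (by rw [h.finrank_UU]; exact hd) hc
  rintro a b ⟨-, ha⟩ ⟨-, hb⟩
  rw [key a ha, key b hb]

/-- two-dimensional fixed space -/
theorem E_cent_two (hG : Good Q) (h : Sit (rhoE Q) p e x) (hd : finrank F V = e + 2) {s : ℕ}
    (hs : s ^ 2 = Fintype.card F ^ e) :
    Nat.card (centralizer ({x} : Set (E Q))) ≤ (s + 1) * (Fintype.card F + 1) := by
  have hfd : Module.Finite F V := Module.Finite.of_finite
  have : Finite (E Q) := Finite.of_injective (fun g : E Q => ((g : V ≃ₗ[F] V) : V → V)) (by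
    intro a b hab
    exact Subtype.ext (DFunLike.coe_injective hab))
  refine h.card_centralizer_le (isForm_E hG.nondeg) formE_inv hs ?_
  let W : Submodule F V := LinearMap.ker (rhoE Q x - 1)
  have hW : finrank F W = 2 := by
    have h1 := LinearMap.finrank_range_add_finrank_ker (rhoE Q x - 1)
    have h2 := h.finrank_UU
    have h3 : finrank F (LinearMap.range (rhoE Q x - 1)) = e := h2
    have h4 : finrank F W = finrank F (LinearMap.ker (rhoE Q x - 1)) := rfl
    omega
  have hnd : ∀ w ∈ W, (∀ w' ∈ W, polar Q w' w = 0) → w = 0 := by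
    intro w hw hw'
    apply hG.nondeg
    intro y
    have hy : y ∈ UU (rhoE Q) x ⊔ LinearMap.ker (rhoE Q x - 1) := by rw [sup_ker h]; trivial
    obtain ⟨u, hu, z, hz, rfl⟩ := Submodule.mem_sup.1 hy
    rw [polar_comm, polar_add_left, perp_UU (mem_kerE.1 hw) hu, hw' z hz, add_zero]
  obtain ⟨w0, hw0, hQ0⟩ : ∃ w0 ∈ W, Q w0 ≠ 0 := by
    by_contra hcon
    push Not at hcon
    have h1 : W = ⊥ := by
      rw [eq_bot_iff]
      intro w hw
      rw [Submodule.mem_bot]
      apply hnd w hw
      intro w' hw'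
      rw [polar, hcon _ (W.add_mem hw' hw), hcon _ hw', hcon _ hw]
      simp
    rw [h1, finrank_bot] at hW
    omega
  refine le_trans ?_ (plane_card Q W hW hnd hw0 hQ0)
  apply Set.ncard_le_ncard_of_injOn (fun c : E Q => (c : V ≃ₗ[F] V) w0) _ _ (Set.toFinite _)
  · rintro c ⟨hc, -⟩
    refine ⟨?_, E_le_O c.2 w0⟩
    have h1 : c * x = x * c := mem_centralizer_singleton_iff.1 hc
    apply mem_kerE.2
    have h2 : rhoE Q (x * c) w0 = rhoE Q (c * x) w0 := by rw [h1]
    rw [rho_mul_apply, rho_mul_apply, mem_kerE.1 hw0] at h2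
    exact h2
  · rintro a ⟨-, ha⟩ b ⟨-, hb⟩ hab
    have hab' : rhoE Q a w0 = rhoE Q b w0 := hab
    have key : b⁻¹ * a = 1 := by
      apply Subtype.ext
      apply eq_one_of_hyper hG (b⁻¹ * a).2 (UU (rhoE Q) x ⊔ Submodule.span F {w0})
      · have hlt : UU (rhoE Q) x < UU (rhoE Q) x ⊔ Submodule.span F {w0} := by
          refine lt_of_le_of_ne le_sup_left ?_
          intro h1
          have h2 : w0 ∈ UU (rhoE Q) x := by
            rw [h1]; exact Submodule.mem_sup_right (Submodule.mem_span_singleton_self w0)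
          have h3 := h.disj h2 (mem_kerE.1 hw0)
          apply hQ0
          rw [h3]
          exact QuadraticMap.map_zero Q
        have h4 := Submodule.finrank_lt_finrank_of_lt hlt
        rw [h.finrank_UU] at h4
        omega
      · intro t ht
        have h5 : ∀ t : V, rhoE Q a t = rhoE Q b t → rhoE Q (b⁻¹ * a) t = t := by
          intro t ht
          rw [rho_mul_apply, ht, rho_inv_apply]
        change rhoE Q (b⁻¹ * a) t = t
        obtain ⟨u, hu, z, hz, rfl⟩ := Submodule.mem_sup.1 ht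
        obtain ⟨r, rfl⟩ := Submodule.mem_span_singleton.1 hz
        rw [map_add, map_smul, h5 u ((ha u hu).trans (hb u hu).symm), h5 w0 hab']
    exact (inv_mul_eq_one.1 key).symm

theorem center_sq_E (hG : Good Q) {z : E Q} (hz : z ∈ center (E Q)) : z ^ 2 = 1 := by
  obtain ⟨c, hc⟩ := Cfsg.Agent.H75.OrthIdx.center_scalar hG hz
  obtain ⟨v, w, hvw⟩ := hG.exists_hyp
  have h1 := polar_map (E_le_O z.2) v w
  rw [hc, hc, polar_smul_left, polar_smul_right, hvw.pair] at h1
  simp only [smul_eq_mul, mul_one] at h1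
  apply Subtype.ext
  apply LinearEquiv.ext
  intro y
  rw [pow_two]
  change (z : V ≃ₗ[F] V) ((z : V ≃ₗ[F] V) y) = y
  rw [hc, hc, smul_smul, h1, one_smul]

end om

section row

variable {F : Type*} [Field F] [Fintype F] {ι : Type} [Fintype ι] [DecidableEq ι] {Q : QuadraticForm F (ι → F)}

theorem row_om_card {p e : ℕ} [hp : Fact p.Prime] (hodd : p ≠ 2) (hG : Good Q) (hch : (p : F) ≠ 0)
    (he : ∀ k, p ∣ Fintype.card F ^ k - 1 → e ∣ k) (hdim : finrank F (ι → F) < 2 * e)
    (hpS : p ∣ Nat.card (Cfsg.POmega F ⇑Q)) {c : ℕ}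
    (hC : ∀ x : E Q, Sit (rhoE Q) p e x → Nat.card (centralizer ({x} : Set (E Q))) ≤ c) {L : ℕ}
    (hL : ∀ H : Subgroup (Cfsg.POmega F ⇑Q), H ≠ ⊤ → L ≤ H.index)
    (hnum : (p + 1) * (e * c) ≤ p * (Nat.card (center (E Q)) * L)) : FprRow (p + 1) 1 p (Cfsg.POmega F ⇑Q) := by
  classical
  have : Finite (E Q) := Finite.of_injective (fun g : E Q => ((g : (ι → F) ≃ₗ[F] (ι → F)) : (ι → F) → (ι → F))) (by
    intro a b hab
    exact Subtype.ext (DFunLike.coe_injective hab))
  have hsurj := Cfsg.Agent.H75.OrthIdx.omHom_surjective hG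
  have hker := Cfsg.Agent.H75.OrthIdx.omHom_ker hG
  have : Finite (Cfsg.POmega F ⇑Q) := Finite.of_surjective _ hsurj
  have hpG : p ∣ Nat.card (E Q) := hpS.trans (Subgroup.card_dvd_of_surjective _ hsurj)
  refine row_of_lin (S := Cfsg.POmega F ⇑Q) (F := F) (ρ := rhoE Q) (p := p) (e := e) hodd rhoE_inj hch he hdim hpG
    (Cfsg.Agent.H75.OrthIdx.omHom hG) hsurj (by rw [hker]) (by
      rw [hker]
      exact not_dvd_of_sq hodd _ (fun z hz => center_sq_E hG hz)) (c := c)
    (fun x hx => hC x ⟨rhoE_inj, hx, hp.out, hodd, hch, he, hdim⟩) (L := L) hL ?_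
  rw [hker]
  exact hnum

/-- the order of `q` modulo `p` is less than `p` -/
theorem succ_le_of_he {p e : ℕ} [hp : Fact p.Prime] (hch : (p : F) ≠ 0)
    (he : ∀ k, p ∣ Fintype.card F ^ k - 1 → e ∣ k) : e + 1 ≤ p := by
  refine lt_of_he hp.out ?_ he
  intro h
  apply hch
  obtain ⟨r, hr⟩ := CharP.exists F
  have hrp : r.Prime := CharP.char_is_prime F r
  obtain ⟨n, -, hn⟩ := FiniteField.card F r
  rw [hn] at h
  have h1 := (Nat.prime_dvd_prime_iff_eq hp.out hrp).1 (hp.out.dvd_of_dvd_pow h)
  rw [h1]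
  exact CharP.cast_eq_zero F r

theorem row_om {p e : ℕ} [hp : Fact p.Prime] (hodd : p ≠ 2) (hG : Good Q) (hch : (p : F) ≠ 0)
    (he : ∀ k, p ∣ Fintype.card F ^ k - 1 → e ∣ k) (hdim : finrank F (ι → F) < 2 * e)
    (hpS : p ∣ Nat.card (Cfsg.POmega F ⇑Q)) {c : ℕ}
    (hC : ∀ x : E Q, Sit (rhoE Q) p e x → Nat.card (centralizer ({x} : Set (E Q))) ≤ c) {L : ℕ}
    (hL : ∀ H : Subgroup (Cfsg.POmega F ⇑Q), H ≠ ⊤ → L ≤ H.index)
    (hnum : (e + 1) * c ≤ L) : FprRow (p + 1) 1 p (Cfsg.POmega F ⇑Q) := by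
  refine row_om_card hodd hG hch he hdim hpS hC hL ?_
  have : Finite (E Q) := Finite.of_injective (fun g : E Q => ((g : (ι → F) ≃ₗ[F] (ι → F)) : (ι → F) → (ι → F))) (by
    intro a b hab
    exact Subtype.ext (DFunLike.coe_injective hab))
  have hpe := succ_le_of_he hch he
  have h1 : 1 ≤ Nat.card (center (E Q)) := Nat.card_pos
  have h2 : (p + 1) * e ≤ p * (e + 1) := by nlinarith
  calc (p + 1) * (e * c) = (p + 1) * e * c := by ring
    _ ≤ p * (e + 1) * c := Nat.mul_le_mul_right _ h2
    _ = p * (1 * ((e + 1) * c)) := by ring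
    _ ≤ _ := Nat.mul_le_mul_left _ (Nat.mul_le_mul h1 hnum)

end row

end Cfsg.Agent.H409.Cyc
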