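import Cfsg.Agent.H409.FprCycOm

/-!
# Cyclic Sylow subgroups: orthogonal groups of plus type over `F_3`
-/

set_option autoImplicit false
set_option linter.unusedSectionVars false

namespace Cfsg.Agent.H409.Cyc

open Module Subgroup QuadraticMap
open Cfsg.Agent.LieClassical.OrthCore Cfsg.Agent.LieClassical.OrthTrans Cfsg.Agent.LieClassical.OrthForms
open Cfsg.Agent.H75.OrthIdx Cfsg.Agent.H160.QSpin

section idx

variable {F V : Type*} [Field F] [AddCommGroup V] [Module F V] [Finite F] [FiniteDimensional F V]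
  {Q : QuadraticForm F V}

/-- **The orbit bound.** -/
theorem exists_vecSet_le (hG : Good Q) (hd : 6 ≤ finrank F V) {H : Subgroup (V ≃ₗ[F] V)} (hne : ¬ E Q ≤ H) :
    ∃ e f v : V, Hyp Q e f ∧ v ∉ Submodule.span F {e} ∧
      (VecSet Q e v).ncard ≤ Nat.card F * H.relIndex (E Q) := by
  classical
  have : Finite V := Module.finite_of_finite F
  have hQ := hG.nondeg
  obtain ⟨e, v0, heQ, hev0, hnot⟩ : ∃ e v0 : V, ∃ (h1 : Q e = 0) (h2 : polar Q e v0 = 0), sg Q e v0 ∉ H := by
    by_contra hcon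
    push Not at hcon
    apply hne
    rw [E, Subgroup.closure_le]
    rintro _ ⟨u, w, hu, hw, rfl⟩
    have := hcon u w hu hw
    rwa [sg_eq hu hw] at this
  have he0 : e ≠ 0 := by
    rintro rfl
    apply hnot
    have h1 : sg Q (0 : V) v0 = 1 := by
      rw [sg_eq heQ hev0]
      apply LinearEquiv.ext
      intro y
      rw [siegel_apply]
      simp
    rw [h1]
    exact H.one_mem
  obtain ⟨f, h⟩ := exists_hyp hQ heQ he0
  obtain ⟨p, hp, θ, hpF, hθ, hcard, hdd⟩ := exists_dual (F := F) (V := V) hQ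
  have hs := relIndex_rad_mul hQ he0 H
  have hge := relIndex_ge (e := e) heQ H
  set B := Bs Q H e with hB
  set D := dl Q θ B with hD
  set q := Nat.card F with hq
  have hq0 : 0 < q := Nat.card_pos
  have hV : Nat.card V = q ^ finrank F V := Module.natCard_eq_pow_finrank
  have hBlt : Nat.card B < q ^ (finrank F V - 1) := by
    have h1 : Nat.card (ep Q e) = q ^ (finrank F V - 1) := by
      rw [Module.natCard_eq_pow_finrank (K := F) (V := ep Q e)]
      have := finrank_ep hQ he0
      congr 1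
      omega
    rw [← h1]
    apply Set.ncard_lt_ncard (s := (B : Set V)) (t := (ep Q e : Set V)) _ (Set.toFinite _)
    refine ⟨fun y hy => mem_ep.2 hy.1, fun hcon => ?_⟩
    exact hnot (hcon (mem_ep.2 hev0 : v0 ∈ ep Q e)).2
  have hB0 : 0 < Nat.card B := Nat.card_pos
  have hDs : Nat.card D = q * H.relIndex (rad Q e) := by
    apply Nat.eq_of_mul_eq_mul_right hB0
    rw [hcard B, mul_assoc, hs, hV, ← pow_succ']
    congr 1
    omega
  have hs1 : 1 < H.relIndex (rad Q e) := by
    by_contra hcon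
    push Not at hcon
    have h2 := Nat.mul_le_mul_right (Nat.card B) hcon
    rw [hs, one_mul] at h2
    omega
  obtain ⟨v, hvD, hvn⟩ : ∃ v ∈ D, v ∉ Submodule.span F {e} := by
    by_contra hcon
    push Not at hcon
    have h1 : Nat.card D ≤ Nat.card (Submodule.span F {e}) :=
      Set.ncard_le_ncard (s := (D : Set V)) (t := (Submodule.span F {e} : Set V)) hcon (Set.toFinite _)
    rw [Module.natCard_eq_pow_finrank (K := F) (V := Submodule.span F {e}), finrank_span_singleton he0,
      pow_one, hDs, ← hq] at h1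
    have h2 : q * 2 ≤ q * H.relIndex (rad Q e) := Nat.mul_le_mul_left _ hs1
    omega
  refine ⟨e, f, v, h, hvn, ?_⟩
  have h1 := vec_bound hG hd h false (Nst Q H e) D (stab_dl h) hvD (dl_perp hθ heQ hvD) hvn
  have h2 : (VecSet Q e v ∩ (D : Set V)).ncard ≤ Nat.card D :=
    Set.ncard_le_ncard Set.inter_subset_right (Set.toFinite _)
  calc (VecSet Q e v).ncard ≤ (Nst Q H e).relIndex (Pst Q e) * (VecSet Q e v ∩ (D : Set V)).ncard := h1
    _ ≤ (Nst Q H e).relIndex (Pst Q e) * Nat.card D := Nat.mul_le_mul_left _ h2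
    _ = q * (H.relIndex (rad Q e) * (Nst Q H e).relIndex (Pst Q e)) := by rw [hDs]; ring
    _ ≤ q * H.relIndex (E Q) := Nat.mul_le_mul_left _ hge

theorem plus_idx_three (hG : Good Q) {m : ℕ} (hC : PlusCount Q m) (hq : Nat.card F = 3)
    {H : Subgroup (V ≃ₗ[F] V)} (hne : ¬ E Q ≤ H) :
    3 ^ (m - 2) * (3 ^ (m - 1) - 1) ≤ H.relIndex (E Q) := by
  have : Finite V := Module.finite_of_finite F
  have hm := hC.four
  obtain ⟨e, f, v, h, hvn, hle⟩ := exists_vecSet_le hG (by rw [hC.finrank]; omega) hne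
  obtain ⟨hK, hVS, -⟩ := hC.data hG.nondeg h rfl rfl
  rw [hq] at hK hVS hle
  obtain ⟨X, hX⟩ : ∃ X, 3 ^ (m - 2) = X := ⟨_, rfl⟩
  have hX1 : 3 ^ (m - 1) = 3 * X := by
    rw [← hX, ← pow_succ']; congr 1; omega
  rw [hX] at hK hVS
  rw [hX, hX1]
  have hX9 : 9 ≤ X := by
    rw [← hX]
    calc 9 = 3 ^ 2 := by norm_num
      _ ≤ _ := Nat.pow_le_pow_right (by norm_num) (by omega)
  have key : 3 * X * (3 * X - 1) ≤ (VecSet Q e v).ncard := by
    by_cases hv : Q v = 0
    · have h1 := hVS v hv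
      obtain ⟨Y, hY⟩ : ∃ Y, 3 * X = Y + 1 := ⟨3 * X - 1, by omega⟩
      rw [hY] at h1 ⊢
      rw [Nat.add_sub_cancel]
      norm_num at h1
      nlinarith
    · have h1 := mul_le_ncard_vecSet h.left_ne h.left hv hK
      rw [hq] at h1
      omega
  have h2 := key.trans hle
  have h3 : 3 * (X * (3 * X - 1)) ≤ 3 * H.relIndex (E Q) := by
    calc 3 * (X * (3 * X - 1)) = 3 * X * (3 * X - 1) := by ring
      _ ≤ _ := h2
  omega

end idx

section hyper

variable {F V : Type*} [Field F] [AddCommGroup V] [Module F V] [FiniteDimensional F V] {Q : QuadraticForm F V}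

/-- an isometry fixing a hyperplane is trivial or a reflection -/
theorem refl_of_hyper (hQ : Nondeg Q) {g : V ≃ₗ[F] V} (hgO : g ∈ O Q) (T : Submodule F V)
    (hT : finrank F V ≤ finrank F T + 1) (hgT : ∀ t ∈ T, g t = t) (hne : g ≠ 1) :
    ∃ (n : V) (hn : Q n ≠ 0), g = refl Q n hn := by
  obtain ⟨v0, hv0⟩ : ∃ v0, g v0 ≠ v0 := by
    by_contra hcon
    push Not at hcon
    exact hne (LinearEquiv.ext hcon)
  have hv0T : v0 ∉ T := fun h => hv0 (hgT v0 h)
  have hsup : T ⊔ Submodule.span F {v0} = ⊤ := by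
    apply Submodule.eq_top_of_finrank_eq
    apply le_antisymm (Submodule.finrank_le _)
    have h1 : T < T ⊔ Submodule.span F {v0} := by
      refine lt_of_le_of_ne le_sup_left ?_
      intro h
      apply hv0T
      rw [h]
      exact Submodule.mem_sup_right (Submodule.mem_span_singleton_self v0)
    have h2 := Submodule.finrank_lt_finrank_of_lt h1
    omega
  set n := g v0 - v0 with hn
  have hn0 : n ≠ 0 := sub_ne_zero.2 hv0
  have hnT : ∀ t ∈ T, polar Q t n = 0 := by
    intro t ht
    rw [hn, polar_sub_right]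
    have h1 := polar_map hgO t v0
    rw [hgT t ht] at h1
    rw [h1, sub_self]
  have hnv : polar Q v0 n = -Q n := by
    have h1 : Q (v0 + n) = Q v0 := by
      rw [hn, add_sub_cancel]
      exact hgO v0
    rw [Q_add] at h1
    linear_combination h1
  have hQn : Q n ≠ 0 := by
    intro h0
    apply hn0
    apply hQ
    intro y
    have hy : y ∈ T ⊔ Submodule.span F {v0} := by rw [hsup]; trivial
    obtain ⟨t, ht, s, hs, rfl⟩ := Submodule.mem_sup.1 hy
    obtain ⟨a, rfl⟩ := Submodule.mem_span_singleton.1 hs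
    rw [polar_comm, polar_add_left, polar_smul_left, hnT t ht, hnv, h0]
    simp
  refine ⟨n, hQn, ?_⟩
  apply LinearEquiv.ext
  intro y
  have hy : y ∈ T ⊔ Submodule.span F {v0} := by rw [hsup]; trivial
  obtain ⟨t, ht, s, hs, rfl⟩ := Submodule.mem_sup.1 hy
  obtain ⟨a, rfl⟩ := Submodule.mem_span_singleton.1 hs
  rw [map_add, map_smul, map_add, map_smul, hgT t ht, refl_apply, refl_apply, polar_comm Q n t, hnT t ht,
    polar_comm Q n v0, hnv]
  have h1 : (Q n)⁻¹ * -Q n = -1 := by field_simp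
  rw [h1]
  have h2 : g v0 = v0 + n := by rw [hn]; abel
  rw [h2]
  simp

theorem eq_one_of_hyper_det (hQ : Nondeg Q) (h2 : (2 : F) ≠ 0) {g : V ≃ₗ[F] V} (hgO : g ∈ O Q)
    (hdet : LinearEquiv.det g = 1) (T : Submodule F V)
    (hT : finrank F V ≤ finrank F T + 1) (hgT : ∀ t ∈ T, g t = t) : g = 1 := by
  by_contra hne
  obtain ⟨n, hn, rfl⟩ := refl_of_hyper hQ hgO T hT hgT hne
  rw [det_refl hn] at hdet
  apply h2
  have h4 := congrArg Units.val hdet
  simp only [Units.val_neg, Units.val_one] at h4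
  linear_combination -h4

end hyper

section three

variable {F : Type*} [Field F] [Fintype F]

theorem tri (hF : Fintype.card F = 3) (c : F) : c = 0 ∨ c = 1 ∨ c = -1 := by
  classical
  have h2 : (1 : F) ≠ -1 := by
    intro h
    have h3 : (2 : F) = 0 := by linear_combination h
    have h4 := Nat.cast_card_eq_zero F
    rw [hF] at h4
    push_cast at h4
    have h5 : (1 : F) = 0 := by linear_combination h4 - h3
    exact one_ne_zero h5
  by_contra hcon
  push Not at hcon
  obtain ⟨h3, h4, h5⟩ := hcon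
  have h1 : ({0, 1, -1, c} : Finset F).card ≤ Fintype.card F := Finset.card_le_univ _
  rw [hF, Finset.card_insert_of_notMem, Finset.card_insert_of_notMem, Finset.card_insert_of_notMem,
    Finset.card_singleton] at h1
  · omega
  · rw [Finset.mem_singleton]; exact fun h => h5 h.symm
  · rw [Finset.mem_insert, Finset.mem_singleton]
    rintro (h | h)
    · exact h2 h
    · exact h4 h.symm
  · rw [Finset.mem_insert, Finset.mem_insert, Finset.mem_singleton]
    rintro (h | h | h)
    · exact one_ne_zero h.symm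
    · exact one_ne_zero (neg_eq_zero.1 h.symm)
    · exact h3 h.symm

theorem three_eq_zero (hF : Fintype.card F = 3) : (3 : F) = 0 := by
  have h4 := Nat.cast_card_eq_zero F
  rw [hF] at h4
  exact_mod_cast h4

theorem two_ne_three (hF : Fintype.card F = 3) : (2 : F) ≠ 0 := by
  intro h
  have h5 : (1 : F) = 0 := by linear_combination three_eq_zero hF - h
  exact one_ne_zero h5

variable {V : Type*} [AddCommGroup V] [Module F V] [Finite V]

theorem exists_norm (hF : Fintype.card F = 3) (Q : QuadraticForm F V) (W : Submodule F V) (hW : finrank F W = 2)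
    (hnd : ∀ w ∈ W, (∀ w' ∈ W, polar Q w' w = 0) → w = 0) {w0 : V} (hw0 : w0 ∈ W) (hQ0 : Q w0 ≠ 0) :
    ∃ b ∈ W, Q b = -Q w0 := by
  classical
  have hfd : Module.Finite F V := Module.Finite.of_finite
  have h00 : w0 ≠ 0 := by
    rintro rfl
    exact hQ0 (QuadraticMap.map_zero Q)
  by_contra hcon
  push Not at hcon
  have hval : ∀ w ∈ W, Q w = 0 ∨ Q w = Q w0 := by
    intro w hw
    have h1 := hcon w hw
    rcases tri hF (Q w0) with h | h | h
    · exact absurd h hQ0
    · rcases tri hF (Q w) with h' | h' | h'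
      · exact Or.inl h'
      · exact Or.inr (h'.trans h.symm)
      · exact absurd (h'.trans (by rw [h])) h1
    · rcases tri hF (Q w) with h' | h' | h'
      · exact Or.inl h'
      · exact absurd (h'.trans (by rw [h, neg_neg])) h1
      · exact Or.inr (h'.trans h.symm)
  have hsum : ∀ w : V, Q (w0 + w) + Q (w0 - w) = 2 * Q w0 + 2 * Q w := by
    intro w
    have h1 : w0 - w = w0 + (-1 : F) • w := by rw [neg_one_smul]; abel
    rw [h1, Q_add, Q_add, QuadraticMap.map_smul, polar_smul_right]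
    simp only [smul_eq_mul]
    ring
  have hc2 : (2 : F) * Q w0 ≠ 0 := mul_ne_zero (two_ne_three hF) hQ0
  have case0 : ∀ s ∈ W, s ∉ Submodule.span F {w0} → Q s = 0 → False := by
    intro s hs hsn hQs
    have hli : LinearIndependent F ![w0, s] := by
      rw [LinearIndependent.pair_iff' h00]
      intro a ha
      exact hsn (ha ▸ Submodule.smul_mem _ a (Submodule.mem_span_singleton_self w0))
    have hspan : W = Submodule.span F {w0, s} := by
      symm
      apply Submodule.eq_of_le_of_finrank_eq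
      · rw [Submodule.span_le]
        rintro v (rfl | rfl)
        · exact hw0
        · exact hs
      · have h1 := finrank_span_eq_card hli
        rw [Matrix.range_cons_cons_empty, Fintype.card_fin] at h1
        rw [h1, hW]
    have h1 := hsum s
    rw [hQs, mul_zero, add_zero] at h1
    have h2 : Q (w0 + s) = Q w0 := by
      rcases hval _ (W.add_mem hw0 hs) with h3 | h3
      · exfalso
        rw [h3, zero_add] at h1
        rcases hval _ (W.sub_mem hw0 hs) with h4 | h4
        · rw [h4] at h1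
          exact hc2 h1.symm
        · rw [h4] at h1
          exact hQ0 (by linear_combination -h1)
      · exact h3
    have h3 : polar Q w0 s = 0 := by
      rw [polar, h2, hQs]; ring
    have h4 : s = 0 := by
      apply hnd s hs
      intro w' hw'
      rw [hspan, Submodule.mem_span_pair] at hw'
      obtain ⟨a, b, rfl⟩ := hw'
      rw [polar_add_left, polar_smul_left, polar_smul_left, h3, polar_self', hQs]
      simp
    exact hsn (h4 ▸ Submodule.zero_mem _)
  obtain ⟨w1, hw1, hn⟩ : ∃ w1 ∈ W, w1 ∉ Submodule.span F {w0} := by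
    by_contra hcon
    push Not at hcon
    have h1 : W ≤ Submodule.span F {w0} := hcon
    have h2 := Submodule.finrank_mono h1
    rw [hW, finrank_span_singleton h00] at h2
    omega
  have hspan0 := Submodule.mem_span_singleton_self (R := F) w0
  rcases hval w1 hw1 with h | h
  · exact case0 w1 hw1 hn h
  · have h1 := hsum w1
    rw [h] at h1
    rcases hval _ (W.add_mem hw0 hw1) with h3 | h3
    · refine case0 _ (W.add_mem hw0 hw1) (fun h4 => hn ?_) h3
      have := Submodule.sub_mem _ h4 hspan0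
      rwa [add_sub_cancel_left] at this
    · rcases hval _ (W.sub_mem hw0 hw1) with h5 | h5
      · refine case0 _ (W.sub_mem hw0 hw1) (fun h4 => hn ?_) h5
        have := Submodule.sub_mem _ hspan0 h4
        rwa [sub_sub_cancel] at this
      · rw [h3, h5] at h1
        apply hc2
        linear_combination -h1

end three

section cent

variable {F V : Type*} [Field F] [Fintype F] [AddCommGroup V] [Module F V] [Finite V] {Q : QuadraticForm F V}
variable {p e : ℕ} {x : E Q}

/-- two-dimensional fixed space over `F_3` -/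
theorem E_cent_two_three (hF : Fintype.card F = 3) (hG : Good Q) (h : Sit (rhoE Q) p e x)
    (hd : finrank F V = e + 2) {s : ℕ} (hs : s ^ 2 = Fintype.card F ^ e) :
    Nat.card (centralizer ({x} : Set (E Q))) ≤ (s + 1) * 2 := by
  classical
  have hfd : Module.Finite F V := Module.Finite.of_finite
  have : Finite (E Q) := Finite.of_injective (fun g : E Q => ((g : V ≃ₗ[F] V) : V → V)) (by
    intro a b hab
    exact Subtype.ext (DFunLike.coe_injective hab))
  refine h.card_centralizer_le (isForm_E hG.nondeg) formE_inv hs ?_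
  let W : Submodule F V := LinearMap.ker (rhoE Q x - 1)
  have hW : finrank F W = 2 := by
    have h1 := LinearMap.finrank_range_add_finrank_ker (rhoE Q x - 1)
    have h2 := h.finrank_UU
    have h3 : finrank F (LinearMap.range (rhoE Q x - 1)) = e := h2
    have h4 : finrank F W = finrank F (LinearMap.ker (rhoE Q x - 1)) := rfl
    omega
  have hnd : ∀ w ∈ W, (∀ w' ∈ W, polar Q w' w = 0) → w = 0 := by
    intro w hw hw'
    apply hG.nondeg
    intro y
    have hy : y ∈ UU (rhoE Q) x ⊔ LinearMap.ker (rhoE Q x - 1) := by rw [sup_ker h]; trivial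
    obtain ⟨u, hu, z, hz, rfl⟩ := Submodule.mem_sup.1 hy
    rw [polar_comm, polar_add_left, perp_UU (mem_kerE.1 hw) hu, hw' z hz, add_zero]
  obtain ⟨w0, hw0, hQ0⟩ : ∃ w0 ∈ W, Q w0 ≠ 0 := by
    by_contra hcon
    push Not at hcon
    have h1 : W = ⊥ := by
      rw [eq_bot_iff]
      intro w hw
      rw [Submodule.mem_bot]
      apply hnd w hw
      intro w' hw'
      rw [polar, hcon _ (W.add_mem hw' hw), hcon _ hw', hcon _ hw]
      simp
    rw [h1, finrank_bot] at hW
    omega
  have h2ne := two_ne_three hF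
  -- vectors of norm `1` and `-1`
  obtain ⟨w1, hw1, hQ1⟩ := exists_norm hF Q W hW hnd hw0 hQ0
  obtain ⟨a, haW, b, hbW, ha, hb⟩ : ∃ a ∈ W, ∃ b ∈ W, Q a = 1 ∧ Q b = -1 := by
    rcases tri hF (Q w0) with h' | h' | h'
    · exact absurd h' hQ0
    · exact ⟨w0, hw0, w1, hw1, h', by rw [hQ1, h']⟩
    · exact ⟨w1, hw1, w0, hw0, by rw [hQ1, h', neg_neg], h'⟩
  have ha0 : Q a ≠ 0 := by rw [ha]; exact one_ne_zero
  have hb0 : Q b ≠ 0 := by rw [hb]; exact neg_ne_zero.2 one_ne_zero
  let ρ : O Q := ⟨refl Q a ha0, refl_mem_O ha0⟩ * ⟨refl Q b hb0, refl_mem_O hb0⟩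
  have hρdet : LinearEquiv.det (ρ : V ≃ₗ[F] V) = 1 := by
    change LinearEquiv.det (refl Q a ha0 * refl Q b hb0) = 1
    rw [map_mul, det_refl, det_refl]
    simp
  have hρspin : spin Q ρ = -1 := by
    have h1 : spin Q ρ = spin Q ⟨refl Q a ha0, refl_mem_O ha0⟩ * spin Q ⟨refl Q b hb0, refl_mem_O hb0⟩ :=
      map_mul _ _ _
    rw [h1, spin_refl h2ne ha0, spin_refl h2ne hb0, if_pos (by rw [ha]; exact IsSquare.one), if_neg, mul_one]
    rw [hb]
    rintro ⟨y, hy⟩
    rcases tri hF y with h' | h' | h'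
    · rw [h', mul_zero] at hy
      exact one_ne_zero (neg_eq_zero.1 hy)
    · rw [h', mul_one] at hy
      exact h2ne (by linear_combination -hy)
    · rw [h'] at hy
      exact h2ne (by linear_combination -hy)
  have hreflU : ∀ (c : V) (hc : Q c ≠ 0), c ∈ W → ∀ u ∈ UU (rhoE Q) x, refl Q c hc u = u := by
    intro c hc hcW u hu
    rw [refl_apply, polar_comm, perp_UU (mem_kerE.1 hcW) hu]
    simp
  have hreflW : ∀ (c : V) (hc : Q c ≠ 0), c ∈ W → ∀ w ∈ W, refl Q c hc w ∈ W := by
    intro c hc hcW w hw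
    rw [refl_apply]
    exact W.sub_mem hw (W.smul_mem _ hcW)
  have hρU : ∀ u ∈ UU (rhoE Q) x, (ρ : V ≃ₗ[F] V) u = u := by
    intro u hu
    change refl Q a ha0 (refl Q b hb0 u) = u
    rw [hreflU b hb0 hbW u hu, hreflU a ha0 haW u hu]
  have hρW : ∀ w ∈ W, (ρ : V ≃ₗ[F] V) w ∈ W := by
    intro w hw
    exact hreflW a ha0 haW _ (hreflW b hb0 hbW w hw)
  -- elements of `Ω` are in the kernel of `spin` and of `det`
  have hcomm : ∀ c : E Q, spin Q ⟨c, E_le_O c.2⟩ = 1 ∧ LinearEquiv.det (c : V ≃ₗ[F] V) = 1 := by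
    intro c
    have hc : (c : V ≃ₗ[F] V) ∈ ⁅O Q, O Q⁆ := by rw [hG.commutator_eq_E]; exact c.2
    constructor
    · have h1 : ⁅O Q, O Q⁆ = (_root_.commutator (O Q)).map (O Q).subtype := by
        rw [commutator_def, Subgroup.map_commutator, ← MonoidHom.range_eq_map, Subgroup.range_subtype]
      rw [h1] at hc
      obtain ⟨y, hy, hyc⟩ := hc
      have h2 : y = ⟨c, E_le_O c.2⟩ := Subtype.ext hyc
      rw [← h2]
      have h3 : _root_.commutator (O Q) ≤ (spin Q).ker := Abelianization.commutator_subset_ker _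
      exact h3 hy
    · have h1 : ⁅O Q, O Q⁆ ≤ (LinearEquiv.det (R := F) (M := V)).ker := by
        rw [Subgroup.commutator_le]
        intro a _ b _
        rw [MonoidHom.mem_ker, map_commutatorElement, commutatorElement_eq_one_iff_mul_comm, mul_comm]
      exact h1 hc
  set A : Set (E Q) := {c : E Q | c ∈ centralizer ({x} : Set (E Q)) ∧ ∀ u ∈ UU (rhoE Q) x, rhoE Q c u = u} with hA
  set B : Set V := {w : V | w ∈ W ∧ Q w = Q w0} with hB
  have hB4 : B.ncard ≤ 4 := by
    have := plane_card Q W hW hnd hw0 hQ0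
    rw [hF] at this
    exact this
  have hcW : ∀ c ∈ A, (c : V ≃ₗ[F] V) w0 ∈ W := by
    rintro c ⟨hc, -⟩
    have h1 : c * x = x * c := mem_centralizer_singleton_iff.1 hc
    apply mem_kerE.2
    have h2 : rhoE Q (x * c) w0 = rhoE Q (c * x) w0 := by rw [h1]
    rw [rho_mul_apply, rho_mul_apply, mem_kerE.1 hw0] at h2
    exact h2
  have hT : finrank F V ≤ finrank F (UU (rhoE Q) x ⊔ Submodule.span F {w0} : Submodule F V) + 1 := by
    have hlt : UU (rhoE Q) x < UU (rhoE Q) x ⊔ Submodule.span F {w0} := by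
      refine lt_of_le_of_ne le_sup_left ?_
      intro h1
      have h2 : w0 ∈ UU (rhoE Q) x := by
        rw [h1]; exact Submodule.mem_sup_right (Submodule.mem_span_singleton_self w0)
      have h3 := h.disj h2 (mem_kerE.1 hw0)
      apply hQ0
      rw [h3]
      exact QuadraticMap.map_zero Q
    have h4 := Submodule.finrank_lt_finrank_of_lt hlt
    rw [h.finrank_UU] at h4
    omega
  -- an isometry of determinant one fixing the hyperplane
  have hfix : ∀ g : O Q, LinearEquiv.det (g : V ≃ₗ[F] V) = 1 → (∀ u ∈ UU (rhoE Q) x, (g : V ≃ₗ[F] V) u = u) →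
      (g : V ≃ₗ[F] V) w0 = w0 → g = 1 := by
    intro g hg1 hg2 hg3
    apply Subtype.ext
    apply eq_one_of_hyper_det hG.nondeg h2ne g.2 hg1 _ hT
    intro t ht
    obtain ⟨u, hu, z, hz, rfl⟩ := Submodule.mem_sup.1 ht
    obtain ⟨r, rfl⟩ := Submodule.mem_span_singleton.1 hz
    rw [map_add, map_smul, hg2 u hu, hg3]
  let i : E Q →* O Q := Subgroup.inclusion E_le_O
  have hi : ∀ (c : E Q) (v : V), ((i c : O Q) : V ≃ₗ[F] V) v = (c : V ≃ₗ[F] V) v := fun _ _ => rfl
  have hmul : ∀ (g k : O Q) (v : V), ((g * k : O Q) : V ≃ₗ[F] V) v = (g : V ≃ₗ[F] V) ((k : V ≃ₗ[F] V) v) :=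
    fun _ _ _ => rfl
  have hinv : ∀ (g : O Q) (v w : V), (g : V ≃ₗ[F] V) v = w → ((g⁻¹ : O Q) : V ≃ₗ[F] V) w = v := by
    intro g v w hgv
    rw [← hgv]
    exact LinearEquiv.symm_apply_apply _ _
  let f1 : E Q → V := fun c => (c : V ≃ₗ[F] V) w0
  let f2 : E Q → V := fun c => (ρ : V ≃ₗ[F] V) ((c : V ≃ₗ[F] V) w0)
  have hinj1 : Set.InjOn f1 A := by
    rintro c ⟨-, hc⟩ d ⟨-, hd'⟩ hcd
    have hcd' : (c : V ≃ₗ[F] V) w0 = (d : V ≃ₗ[F] V) w0 := hcd
    have h1 : (i d)⁻¹ * i c = 1 := by
      apply hfix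
      · rw [Subgroup.coe_mul, map_mul, Subgroup.coe_inv, map_inv]
        have e1 : LinearEquiv.det ((i d : O Q) : V ≃ₗ[F] V) = 1 := (hcomm d).2
        have e2 : LinearEquiv.det ((i c : O Q) : V ≃ₗ[F] V) = 1 := (hcomm c).2
        rw [e1, e2]; simp
      · intro u hu
        rw [hmul, hi, show (c : V ≃ₗ[F] V) u = u from hc u hu]
        exact hinv _ _ _ (hd' u hu)
      · rw [hmul, hi, hcd']
        exact hinv _ _ _ rfl
    have h2 : i c = i d := (inv_mul_eq_one.1 h1).symm
    exact Subgroup.inclusion_injective E_le_O h2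
  have hinj2 : Set.InjOn f2 A := by
    intro c hc d hd' hcd
    exact hinj1 hc hd' ((ρ : V ≃ₗ[F] V).injective hcd)
  have hdisj : Disjoint (f1 '' A) (f2 '' A) := by
    rw [Set.disjoint_left]
    rintro _ ⟨c, ⟨hc1, hc⟩, rfl⟩ ⟨d, ⟨hd1, hd'⟩, hcd⟩
    have hcd' : (ρ : V ≃ₗ[F] V) ((d : V ≃ₗ[F] V) w0) = (c : V ≃ₗ[F] V) w0 := hcd
    have h1 : (i c)⁻¹ * (ρ * i d) = 1 := by
      apply hfix
      · rw [Subgroup.coe_mul, map_mul, Subgroup.coe_inv, map_inv, Subgroup.coe_mul, map_mul, hρdet]
        have e1 : LinearEquiv.det ((i d : O Q) : V ≃ₗ[F] V) = 1 := (hcomm d).2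
        have e2 : LinearEquiv.det ((i c : O Q) : V ≃ₗ[F] V) = 1 := (hcomm c).2
        rw [e1, e2]; simp
      · intro u hu
        rw [hmul, hmul, hi, show (d : V ≃ₗ[F] V) u = u from hd' u hu, hρU u hu]
        exact hinv _ _ _ (hc u hu)
      · rw [hmul, hmul, hi, hcd']
        exact hinv _ _ _ rfl
    have h2 : spin Q ((i c)⁻¹ * (ρ * i d)) = 1 := by rw [h1, map_one]
    rw [map_mul, map_mul, map_inv] at h2
    have e1 : spin Q (i d) = 1 := (hcomm d).1
    have e2 : spin Q (i c) = 1 := (hcomm c).1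
    rw [e1, e2, hρspin] at h2
    exact absurd h2 (by decide)
  have hsub : f1 '' A ∪ f2 '' A ⊆ B := by
    rintro _ (⟨c, hc, rfl⟩ | ⟨c, hc, rfl⟩)
    · exact ⟨hcW c hc, E_le_O c.2 w0⟩
    · refine ⟨hρW _ (hcW c hc), ?_⟩
      change Q ((ρ : V ≃ₗ[F] V) ((c : V ≃ₗ[F] V) w0)) = Q w0
      rw [ρ.2, E_le_O c.2 w0]
  have h1 := Set.ncard_le_ncard hsub (Set.toFinite _)
  rw [Set.ncard_union_eq hdisj (Set.toFinite _) (Set.toFinite _), hinj1.ncard_image, hinj2.ncard_image] at h1
  omega

end cent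

end Cfsg.Agent.H409.Cyc
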