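import Cfsg.Agent.H409.FprCycO
import Cfsg.Agent.S2143
import Cfsg.Agent.S2144
import Cfsg.Agent.S2145
import Cfsg.Agent.S2146
import Cfsg.Agent.S2147

/-!
# Cyclic Sylow subgroups: the rows of the orthogonal groups (generic part)
-/

set_option autoImplicit false
set_option linter.unusedSectionVars false

namespace Cfsg.Agent.H409.Cyc

open Module Subgroup QuadraticMap
open Cfsg.Agent.LieClassical.OrthCore Cfsg.Agent.LieClassical.OrthTrans Cfsg.Agent.LieClassical.OrthForms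

variable {F : Type*} [Field F] [Fintype F] {m : ℕ}

theorem two_le_q : 2 ≤ Fintype.card F := Fintype.one_lt_card

theorem num_a {q m : ℕ} (hq : 2 ≤ q) (hm : 3 ≤ m) : (2 * m + 1) * (q - 1) ≤ q ^ m - 1 := by
  obtain ⟨k, rfl⟩ : ∃ k, m = 3 + k := ⟨m - 3, by omega⟩
  have h := geom_le (Q := q) (a := 7) (b := 3) hq (by
    obtain ⟨t, ht⟩ : ∃ t, q = t + 1 := ⟨q - 1, by omega⟩
    subst ht
    rw [Nat.add_sub_cancel]
    have h2 : (t + 1) ^ 3 = t * t * t + 3 * (t * t) + 3 * t + 1 := by ring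
    rw [h2, Nat.add_sub_cancel]
    have : 1 ≤ t := by omega
    nlinarith [Nat.mul_le_mul this this]) k 2 (by norm_num)
  have h1 : 2 * (3 + k) + 1 = 7 + 2 * k := by ring
  rw [h1]
  exact h

theorem sq_sub (q m : ℕ) : q ^ (2 * m) - 1 = (q ^ m + 1) * (q ^ m - 1) := by
  have := Nat.sq_sub_sq (q ^ m) 1
  rw [one_pow, ← pow_mul, mul_comm m 2] at this
  exact this

/-- **Odd-dimensional orthogonal groups, `p ∣ q ^ m + 1`.** -/
theorem row_odd {p : ℕ} [hp : Fact p.Prime] (hodd : p ≠ 2) (hm : 3 ≤ m) (hFo : Odd (Fintype.card F))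
    (hch : (p : F) ≠ 0) (he : ∀ k, p ∣ Fintype.card F ^ k - 1 → 2 * m ∣ k)
    (hpS : p ∣ Nat.card (Cfsg.POmega F (Cfsg.quadFormOdd m F))) :
    FprRow (p + 1) 1 p (Cfsg.POmega F (Cfsg.quadFormOdd m F)) := by
  have h2 : (2 : F) ≠ 0 := by
    intro h
    have h3 : CharP F 2 := CharTwo.of_one_ne_zero_of_two_eq_zero one_ne_zero h
    have h4 := FiniteField.even_card_of_char_two (F := F) (ringChar.eq_iff.2 h3)
    rcases hFo with ⟨k, hk⟩
    omega
  have hC := Cfsg.Agent.H75.OrthIdx.odd_count (F := F) m hm h2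
  have hG := Cfsg.Agent.H75.OrthIdx.good_oddForm (F := F) m hm h2
  have hcent : ∀ x : E (oddForm m F), Sit (rhoE (oddForm m F)) p (2 * m) x →
      Nat.card (centralizer ({x} : Set (E (oddForm m F)))) ≤ (Fintype.card F ^ m + 1) * 1 := fun x hx =>
    E_cent_one hG hx (by rw [hC.finrank]) (by rw [← pow_mul, mul_comm])
  obtain ⟨q, hq⟩ : ∃ q, Fintype.card F = q := ⟨_, rfl⟩
  have hq2 : 2 ≤ q := hq ▸ two_le_q
  rw [hq] at hFo hcent
  rcases Nat.lt_or_ge q 5 with h5 | h5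
  · have hq3 : q = 3 := by
      rcases hFo with ⟨k, hk⟩
      omega
    subst hq3
    have hL := (Cfsg.Agent.S2144.result hq m hm).1
    rw [← coe_oddForm] at hL hpS ⊢
    refine row_om hodd hG hch he (by rw [hC.finrank]; omega) hpS hcent hL ?_
    rw [mul_one, Nat.le_div_iff_mul_le (by norm_num)]
    have h1 : (2 * m + 2) * 2 ≤ 3 ^ m - 1 := by
      obtain ⟨k, rfl⟩ : ∃ k, m = 3 + k := ⟨m - 3, by omega⟩
      have h := geom_le (Q := 3) (a := 8) (b := 3) (by norm_num) (by norm_num) k 2 (by norm_num)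
      have h1 : 2 * (3 + k) + 2 = 8 + 2 * k := by ring
      rw [h1]
      exact h
    have h3 : 27 ≤ 3 ^ m := by
      calc 27 = 3 ^ 3 := by norm_num
        _ ≤ 3 ^ m := Nat.pow_le_pow_right (by norm_num) hm
    obtain ⟨t, ht⟩ : ∃ t, 3 ^ m = t + 1 := ⟨3 ^ m - 1, by omega⟩
    rw [ht] at h1 h3 ⊢
    rw [Nat.add_sub_cancel] at h1 ⊢
    have h6 : (2 * m + 1) * (t + 1 + 1) * 2 = (2 * m + 1) * 2 * (t + 2) := by ring
    rw [h6]
    obtain ⟨u, hu⟩ : ∃ u, t = u + 2 := ⟨t - 2, by omega⟩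
    subst hu
    have h7 : (2 * m + 1) * 2 * (u + 2 + 2) ≤ u * (u + 2 + 2) := Nat.mul_le_mul_right _ (by omega)
    nlinarith
  · have hL := (Cfsg.Agent.S2143.result hq hFo h5 m hm).1
    rw [← coe_oddForm] at hL hpS ⊢
    refine row_om hodd hG hch he (by rw [hC.finrank]; omega) hpS hcent hL ?_
    rw [mul_one, Nat.le_div_iff_mul_le (by omega), sq_sub]
    calc (2 * m + 1) * (q ^ m + 1) * (q - 1) = (q ^ m + 1) * ((2 * m + 1) * (q - 1)) := by ring
      _ ≤ _ := Nat.mul_le_mul_left _ (num_a hq2 hm)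

/-- **Orthogonal groups of minus type, `p ∣ q ^ m + 1`.** -/
theorem row_minus {p : ℕ} [hp : Fact p.Prime] (hodd : p ≠ 2) (hm : 4 ≤ m) {a b : F}
    (hab : ∀ z₁ z₂ : F, z₁ ^ 2 + a * z₁ * z₂ + b * z₂ ^ 2 = 0 → z₁ = 0 ∧ z₂ = 0)
    (hch : (p : F) ≠ 0) (he : ∀ k, p ∣ Fintype.card F ^ k - 1 → 2 * m ∣ k)
    (hpS : p ∣ Nat.card (Cfsg.POmega F (Cfsg.quadFormMinus (m - 1) F a b)))
    (hmq : 3 ≤ Fintype.card F ∨ 5 ≤ m) :
    FprRow (p + 1) 1 p (Cfsg.POmega F (Cfsg.quadFormMinus (m - 1) F a b)) := by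
  have hC := Cfsg.Agent.H76.Num.minusCount hab (m - 1) (by omega)
  have hG := Cfsg.Agent.H76.Num.good_minusForm hab (m - 1) (by omega)
  rw [Nat.sub_add_cancel (by omega : 1 ≤ m)] at hC
  have hcent : ∀ x : E (minusForm (m - 1) F a b), Sit (rhoE (minusForm (m - 1) F a b)) p (2 * m) x →
      Nat.card (centralizer ({x} : Set (E (minusForm (m - 1) F a b)))) ≤ (Fintype.card F ^ m + 1) * 1 := fun x hx =>
    E_cent_one hG hx (by rw [hC.finrank]; omega) (by rw [← pow_mul, mul_comm])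
  obtain ⟨q, hq⟩ : ∃ q, Fintype.card F = q := ⟨_, rfl⟩
  have hq2 : 2 ≤ q := hq ▸ two_le_q
  rw [hq] at hcent hmq
  have hL := (Cfsg.Agent.S2147.result hq m hm a b hab).1
  rw [← coe_minusForm] at hL hpS ⊢
  refine row_om hodd hG hch he (by rw [hC.finrank]; omega) hpS hcent hL ?_
  rw [mul_one, Nat.le_div_iff_mul_le (by omega)]
  have key : (2 * m + 1) * (q - 1) ≤ q ^ (m - 1) - 1 := by
    rcases Nat.lt_or_ge m 5 with h5 | h5
    · have hm4 : m = 4 := by omega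
      subst hm4
      have hq3 : 3 ≤ q := by omega
      obtain ⟨t, ht⟩ : ∃ t, q = t + 1 := ⟨q - 1, by omega⟩
      subst ht
      norm_num
      have h2 : (t + 1) ^ 3 = t * t * t + 3 * (t * t) + 3 * t + 1 := by ring
      rw [h2, Nat.add_sub_cancel]
      have : 2 ≤ t := by omega
      nlinarith [Nat.mul_le_mul this this]
    · obtain ⟨k, rfl⟩ : ∃ k, m = 5 + k := ⟨m - 5, by omega⟩
      have h := geom_le (Q := q) (a := 11) (b := 4) hq2 (by
        obtain ⟨t, ht⟩ : ∃ t, q = t + 1 := ⟨q - 1, by omega⟩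
        subst ht
        rw [Nat.add_sub_cancel]
        have h2 : (t + 1) ^ 4 = t * t * (t * t) + 4 * (t * t * t) + 6 * (t * t) + 4 * t + 1 := by ring
        rw [h2, Nat.add_sub_cancel]
        have h3 : 1 ≤ t := by omega
        have h4 := Nat.mul_le_mul h3 h3
        nlinarith [Nat.mul_le_mul h4 h3, Nat.mul_le_mul h4 h4]) k 2 (by norm_num)
      have h1 : 2 * (5 + k) + 1 = 11 + 2 * k := by ring
      have h3 : 5 + k - 1 = 4 + k := by omega
      rw [h1, h3]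
      exact h
  calc (2 * m + 1) * (q ^ m + 1) * (q - 1) = (q ^ m + 1) * ((2 * m + 1) * (q - 1)) := by ring
    _ ≤ _ := Nat.mul_le_mul_left _ key

/-- **Orthogonal groups of plus type, `p ∣ q ^ (m - 1) + 1`, `q ≠ 3`.** -/
theorem row_plus {p : ℕ} [hp : Fact p.Prime] (hodd : p ≠ 2) (hm : 4 ≤ m)
    (hch : (p : F) ≠ 0) (he : ∀ k, p ∣ Fintype.card F ^ k - 1 → 2 * m - 2 ∣ k)
    (hpS : p ∣ Nat.card (Cfsg.POmega F (Cfsg.quadFormPlus m F)))
    (hmq : 4 ≤ Fintype.card F ∨ (Fintype.card F = 2 ∧ 5 ≤ m)) :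
    FprRow (p + 1) 1 p (Cfsg.POmega F (Cfsg.quadFormPlus m F)) := by
  have hC := Cfsg.Agent.H75.OrthIdx.plus_count (F := F) m hm
  have hG := Cfsg.Agent.H75.OrthIdx.good_plusForm (F := F) m hm
  have hcent : ∀ x : E (plusForm m F), Sit (rhoE (plusForm m F)) p (2 * m - 2) x →
      Nat.card (centralizer ({x} : Set (E (plusForm m F)))) ≤
        (Fintype.card F ^ (m - 1) + 1) * (Fintype.card F + 1) := fun x hx =>
    E_cent_two hG hx (by rw [hC.finrank]; omega) (by rw [← pow_mul]; congr 1; omega)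
  obtain ⟨q, hq⟩ : ∃ q, Fintype.card F = q := ⟨_, rfl⟩
  have hq2 : 2 ≤ q := hq ▸ two_le_q
  rw [hq] at hcent hmq
  rcases hmq with h4 | ⟨rfl, h5⟩
  · have hL := (Cfsg.Agent.S2145.result hq h4 m hm).1
    rw [← coe_plusForm] at hL hpS ⊢
    refine row_om hodd hG hch he (by rw [hC.finrank]; omega) hpS hcent hL ?_
    rw [Nat.le_div_iff_mul_le (by omega)]
    have key : (2 * m - 2 + 1) * (q + 1) * (q - 1) ≤ q ^ m - 1 := by
      obtain ⟨k, rfl⟩ : ∃ k, m = 4 + k := ⟨m - 4, by omega⟩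
      have h := geom_le (Q := q) (a := 7 * (q + 1)) (b := 4) hq2 (by
        obtain ⟨t, ht⟩ : ∃ t, q = t + 1 := ⟨q - 1, by omega⟩
        subst ht
        rw [Nat.add_sub_cancel]
        have h2 : (t + 1) ^ 4 = t * t * (t * t) + 4 * (t * t * t) + 6 * (t * t) + 4 * t + 1 := by ring
        rw [h2, Nat.add_sub_cancel]
        have h3 : 3 ≤ t := by omega
        have h4 := Nat.mul_le_mul h3 h3
        nlinarith [Nat.mul_le_mul h4 h3, Nat.mul_le_mul h4 h4]) k (2 * (q + 1)) (by omega)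
      have h1 : 2 * (4 + k) - 2 + 1 = 7 + 2 * k := by omega
      rw [h1]
      calc (7 + 2 * k) * (q + 1) * (q - 1) = (7 * (q + 1) + 2 * (q + 1) * k) * (q - 1) := by ring
        _ ≤ _ := h
    calc (2 * m - 2 + 1) * ((q ^ (m - 1) + 1) * (q + 1)) * (q - 1) =
        (2 * m - 2 + 1) * (q + 1) * (q - 1) * (q ^ (m - 1) + 1) := by ring
      _ ≤ _ := Nat.mul_le_mul_right _ key
  · have hL := (Cfsg.Agent.S2146.result hq m hm).1
    rw [← coe_plusForm] at hL hpS ⊢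
    refine row_om hodd hG hch he (by rw [hC.finrank]; omega) hpS hcent hL ?_
    obtain ⟨k, rfl⟩ : ∃ k, m = 5 + k := ⟨m - 5, by omega⟩
    have h := geom_le (Q := 2) (a := 31) (b := 5) (by norm_num) (by norm_num) k 6 (by norm_num)
    rw [show 5 + k - 1 = 4 + k by omega, show 2 * (5 + k) - 2 + 1 = 9 + 2 * k by omega]
    obtain ⟨X, hX⟩ : ∃ X, 2 ^ (4 + k) = X := ⟨_, rfl⟩
    have hX2 : 2 ^ (5 + k) = 2 * X := by rw [← hX]; ring
    rw [hX2] at h ⊢
    rw [hX]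
    norm_num at h ⊢
    obtain ⟨Y, hY⟩ : ∃ Y, X = Y + 1 := ⟨X - 1, by omega⟩
    subst hY
    have e1 : 2 * (Y + 1) - 1 = 2 * Y + 1 := by omega
    rw [e1] at h ⊢
    have h7 : 3 * (9 + 2 * k) + 3 ≤ 2 * Y := by omega
    nlinarith

end Cfsg.Agent.H409.Cyc
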