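import Cfsg.Agent.H409.FprCycChk
import Cfsg.Agent.H27.Psl.Irr

/-!
# Cyclic Sylow subgroups: linear groups, irreducible elements
-/

set_option autoImplicit false
set_option linter.unusedSectionVars false

namespace Cfsg.Agent.H409.Cyc

open Module Subgroup Matrix
open Cfsg.Agent.H27.Psl (Irr)

section gen

variable {G : Type*} [Group G] [Finite G] {F V : Type*} [Field F] [Fintype F] [AddCommGroup V] [Module F V]
  [Finite V] {ρ : G →* Module.End F V} {p e : ℕ} {x : G}

/-- an element of order `p` is irreducible when `dim V = e` -/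
theorem Sit.irr_top (h : Sit ρ p e x) (hd : finrank F V = e) : Irr (ρ x) := by
  have hfd : Module.Finite F V := Module.Finite.of_finite
  have htop : UU ρ x = ⊤ := by
    apply Submodule.eq_top_of_finrank_eq
    rw [h.finrank_UU, hd]
  intro U hU
  have h1 := h.dvd (U.comap (UU ρ x).subtype) (by
    intro u hu
    change ((res ρ x x u : UU ρ x) : V) ∈ U
    rw [res_apply x_mem]
    exact hU _ hu)
  have h2 : finrank F (U.comap (UU ρ x).subtype) = finrank F U :=
    (Submodule.comapSubtypeEquivOfLe (by rw [htop]; exact le_top)).finrank_eq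
  rw [h2] at h1
  have h3 : finrank F U ≤ finrank F V := Submodule.finrank_le _
  obtain ⟨c, hc⟩ := h1
  rcases Nat.eq_zero_or_pos c with h0 | h0
  · left
    rw [h0, mul_zero] at hc
    exact Submodule.finrank_eq_zero.1 hc
  · right
    apply Submodule.eq_top_of_finrank_eq
    have h4 : e * 1 ≤ e * c := Nat.mul_le_mul_left _ h0
    omega

end gen

section irr

variable {F V : Type*} [Field F] [AddCommGroup V] [Module F V] {A : V →ₗ[F] V}

theorem eq_of_comm (hA : Irr A) {B C : V →ₗ[F] V} (hB : ∀ w, B (A w) = A (B w)) (hC : ∀ w, C (A w) = A (C w))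
    {v : V} (hv : v ≠ 0) (h : B v = C v) : B = C := by
  rcases hA (LinearMap.ker (B - C)) (fun u hu => by
    rw [LinearMap.mem_ker, LinearMap.sub_apply, sub_eq_zero] at hu ⊢
    rw [hB, hC, hu]) with h1 | h1
  · exfalso
    apply hv
    have h2 : v ∈ LinearMap.ker (B - C) := by
      rw [LinearMap.mem_ker, LinearMap.sub_apply, h, sub_self]
    rw [h1] at h2
    exact h2
  · exact sub_eq_zero.1 (LinearMap.ker_eq_top.1 h1)

end irr

section sl

variable {F : Type*} [Field F] [Fintype F] {n : ℕ}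

/-- the natural representation -/
noncomputable def rhoSL (n : ℕ) (F : Type*) [Field F] : SpecialLinearGroup (Fin n) F →* Module.End F (Fin n → F) where
  toFun g := Matrix.toLin' (g : Matrix (Fin n) (Fin n) F)
  map_one' := by
    rw [Matrix.SpecialLinearGroup.coe_one, Matrix.toLin'_one]; rfl
  map_mul' a b := by
    rw [Matrix.SpecialLinearGroup.coe_mul, Matrix.toLin'_mul]; rfl

theorem rhoSL_apply (g : SpecialLinearGroup (Fin n) F) (v : Fin n → F) :
    rhoSL n F g v = (g : Matrix (Fin n) (Fin n) F) *ᵥ v := Matrix.toLin'_apply _ _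

theorem rhoSL_inj : Function.Injective (rhoSL n F) := by
  intro a b hab
  apply Subtype.ext
  exact (Matrix.toLin').injective hab

theorem rhoSL_det (g : SpecialLinearGroup (Fin n) F) : LinearMap.det (rhoSL n F g) = 1 := by
  change LinearMap.det (Matrix.toLin' (g : Matrix (Fin n) (Fin n) F)) = 1
  rw [LinearMap.det_toLin', g.2]

theorem cent_iff {x c : SpecialLinearGroup (Fin n) F} :
    c ∈ centralizer ({x} : Set (SpecialLinearGroup (Fin n) F)) ↔ ∀ w, rhoSL n F c (rhoSL n F x w) = rhoSL n F x (rhoSL n F c w) := by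
  rw [mem_centralizer_singleton_iff]
  constructor
  · intro h w
    rw [← rho_mul_apply, ← rho_mul_apply, h]
  · intro h
    apply rhoSL_inj
    apply LinearMap.ext
    intro w
    rw [rho_mul_apply, rho_mul_apply]
    exact h w

/-- the centraliser of an irreducible element -/
theorem card_cent_SL (hn : 1 ≤ n) {x : SpecialLinearGroup (Fin n) F} (hA : Irr (rhoSL n F x)) :
    Nat.card (centralizer ({x} : Set (SpecialLinearGroup (Fin n) F))) * (Fintype.card F - 1) ≤
      Fintype.card F ^ n - 1 := by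
  classical
  have hne : Nonempty (Fin n) := ⟨⟨0, by omega⟩⟩
  obtain ⟨v, hv⟩ := exists_ne (0 : Fin n → F)
  have hdet : ∀ u : Fˣ, ∃ h : (Fin n → F) ≃ₗ[F] (Fin n → F),
      LinearMap.det (h : (Fin n → F) →ₗ[F] (Fin n → F)) = u ∧ ∀ w, h (rhoSL n F x w) = rhoSL n F x (h w) :=
    fun u => hA.exists_det u.ne_zero
  choose h hd hc using hdet
  let f : centralizer ({x} : Set (SpecialLinearGroup (Fin n) F)) × Fˣ → {w : Fin n → F // w ≠ 0} := fun a =>
    ⟨h a.2 (rhoSL n F a.1 v), by
      intro h0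
      have h1 : rhoSL n F a.1 v = 0 := by
        apply (h a.2).injective
        rw [h0, map_zero]
      apply hv
      have h2 := rho_inv_apply (ρ := rhoSL n F) (a.1 : SpecialLinearGroup (Fin n) F) v
      rw [h1, map_zero] at h2
      exact h2.symm⟩
  have hf : Function.Injective f := by
    rintro ⟨c, u⟩ ⟨c', u'⟩ hcc
    have h1 : h u (rhoSL n F c v) = h u' (rhoSL n F c' v) := congrArg Subtype.val hcc
    have hcomm : ∀ (c : centralizer ({x} : Set (SpecialLinearGroup (Fin n) F))) (u : Fˣ) (w : Fin n → F),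
        ((h u : (Fin n → F) →ₗ[F] (Fin n → F)) ∘ₗ rhoSL n F c) (rhoSL n F x w) =
          rhoSL n F x (((h u : (Fin n → F) →ₗ[F] (Fin n → F)) ∘ₗ rhoSL n F c) w) := by
      intro c u w
      change h u (rhoSL n F c (rhoSL n F x w)) = rhoSL n F x (h u (rhoSL n F c w))
      rw [cent_iff.1 c.2, hc]
    have h2 := eq_of_comm hA (hcomm c u) (hcomm c' u') hv h1
    have h3 := congrArg LinearMap.det h2
    rw [LinearMap.det_comp, LinearMap.det_comp, rhoSL_det, rhoSL_det, mul_one, mul_one, hd, hd] at h3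
    have h4 : u = u' := Units.ext h3
    subst h4
    refine Prod.ext ?_ rfl
    apply Subtype.ext
    apply rhoSL_inj
    apply LinearMap.ext
    intro w
    exact (h u).injective (LinearMap.congr_fun h2 w)
  have h1 := Nat.card_le_card_of_injective f hf
  rw [Nat.card_prod, Nat.card_eq_fintype_card (α := Fˣ), Fintype.card_units] at h1
  refine h1.trans (le_of_eq ?_)
  rw [Nat.card_eq_fintype_card, Fintype.card_subtype_compl, Fintype.card_subtype_eq, Fintype.card_fun, Fintype.card_fin]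

end sl

section chk

variable {G : Type*} [Group G] [Finite G] {F V : Type*} [Field F] [Fintype F] [AddCommGroup V] [Module F V]
  [Finite V] {ρ : G →* Module.End F V} {p e : ℕ}

/-- **Arithmetic check**, with a bound for the indices prime to `p` only. -/
theorem row_of_chk' {S : Type*} [Group S] [Finite S] [hp : Fact p.Prime] (hodd : p ≠ 2)
    (hinj : Function.Injective ρ) (hch : (p : F) ≠ 0) (he : ∀ k, p ∣ Fintype.card F ^ k - 1 → e ∣ k)
    (hdim : finrank F V < 2 * e) (hpG : p ∣ Nat.card G) (f : G →* S) (hf : Function.Surjective f)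
    (hker : f.ker ≤ center G) (hkp : ¬ p ∣ Nat.card f.ker) {c : ℕ}
    (hC : ∀ x : G, orderOf x = p → Nat.card (centralizer ({x} : Set G)) ≤ c)
    {L N M : ℕ} (hL : ∀ H : Subgroup S, H ≠ ⊤ → ¬ p ∣ H.index → L ≤ H.index) (hN : Nat.card S ∣ N)
    (hM : e * c < Nat.card f.ker * (p * (M + 1))) (hML : M ≤ L)
    (hchk : ∀ g ≤ M, ∀ j < g, ¬ p ∣ g → L ≤ g + p * j → ¬ (g + p * j ∣ N)) : FprRow (p + 1) 1 p S := by
  obtain ⟨P, y, hy, hNP⟩ := exists_sylow hodd hinj hch he hdim hpG f hf hker hkp hC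
  have hk0 : 0 < Nat.card f.ker := Nat.card_pos
  have hpS : p ∣ Nat.card S := by
    have h3 := (f.ker).card_mul_index
    rw [index_ker, MonoidHom.range_eq_top.2 hf, card_top] at h3
    rw [← h3] at hpG
    exact (hp.out.dvd_mul.1 hpG).resolve_left hkp
  have hPp : p ≤ Nat.card P := Nat.le_of_dvd Nat.card_pos (P.dvd_card_of_dvd_card hpS)
  refine FprRow.of_cyc P hy ?_
  intro H hH g hg hdvd hmod
  have hpg : ¬ p ∣ g := by
    intro h
    have h1 : Nat.card P * p ∣ Nat.card P * (P : Subgroup S).index := by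
      rw [(P : Subgroup S).card_mul_index]
      exact (Nat.mul_dvd_mul_left _ h).trans (hdvd.trans (Subgroup.card_subgroup_dvd_card _))
    exact P.not_dvd_index (Nat.dvd_of_mul_dvd_mul_left Nat.card_pos h1)
  have hpH : ¬ p ∣ H.index := fun h => hpg ((hmod.dvd_iff dvd_rfl).1 h)
  have hgM : g ≤ M := by
    by_contra hcon
    push Not at hcon
    have h1 := Nat.le_of_dvd Nat.card_pos hdvd
    have h2 : Nat.card f.ker * (p * (M + 1)) ≤ e * c := by
      calc Nat.card f.ker * (p * (M + 1)) ≤ Nat.card f.ker * (Nat.card P * g) :=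
            Nat.mul_le_mul_left _ (Nat.mul_le_mul hPp hcon)
        _ ≤ Nat.card f.ker * Nat.card (normalizer (P : Set S)) := Nat.mul_le_mul_left _ h1
        _ ≤ e * c := hNP
    omega
  have hLH := hL H hH hpH
  have hgH : g ≤ H.index := by omega
  obtain ⟨j, hj⟩ : ∃ j, H.index = g + p * j := by
    have h1 : p ∣ H.index - g := (Nat.modEq_iff_dvd' hgH).1 hmod.symm
    obtain ⟨j, hj⟩ := h1
    exact ⟨j, by omega⟩
  rcases Nat.lt_or_ge j g with h | h
  · exfalso
    apply hchk g hgM j h hpg (by rw [← hj]; exact hLH)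
    rw [← hj]
    exact H.index_dvd_card.trans hN
  · rw [hj]
    have : p * g ≤ p * j := Nat.mul_le_mul_left _ h
    have h2 : (p + 1) * g = g + p * g := by ring
    omega

end chk

section row

variable {F : Type*} [Field F] [Fintype F] {n : ℕ}

theorem sl_ker {p : ℕ} [hp : Fact p.Prime] (he : ∀ k, p ∣ Fintype.card F ^ k - 1 → n ∣ k) (h2 : 2 ≤ n) :
    ¬ p ∣ Nat.card (center (SpecialLinearGroup (Fin n) F)) := by
  have hnt : Nontrivial (Fin n → F) := by
    have : Nonempty (Fin n) := ⟨⟨0, by omega⟩⟩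
    infer_instance
  apply not_dvd_of_scalar he h2 rhoSL_inj
  intro z hz
  obtain ⟨c, hc, hc'⟩ := (Matrix.SpecialLinearGroup.mem_center_iff.1 hz)
  refine ⟨c, ?_⟩
  apply LinearMap.ext
  intro v
  rw [rhoSL_apply, ← hc']
  simp

/-- the subgroups `H` of `SL_n(F)` containing an element of order `p` are irreducible -/
theorem irr_of_not_dvd {p : ℕ} [hp : Fact p.Prime] (hodd : p ≠ 2) (hch : (p : F) ≠ 0)
    (he : ∀ k, p ∣ Fintype.card F ^ k - 1 → n ∣ k) (h2 : 2 ≤ n)
    (hpS : p ∣ Nat.card (SpecialLinearGroup (Fin n) F)) (H : Subgroup (SpecialLinearGroup (Fin n) F))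
    (hH : ¬ p ∣ H.index) :
    (∃ x ∈ H, orderOf x = p) ∧ ∀ U : Submodule F (Fin n → F), (∀ h ∈ H, ∀ u ∈ U, rhoSL n F h u ∈ U) →
      U = ⊥ ∨ U = ⊤ := by
  have hpH : p ∣ Nat.card H := by
    rw [← H.card_mul_index] at hpS
    exact (hp.out.dvd_mul.1 hpS).resolve_right hH
  obtain ⟨x, hx⟩ := exists_prime_orderOf_dvd_card' p hpH
  have hx' : orderOf (x : SpecialLinearGroup (Fin n) F) = p := by rw [orderOf_coe, hx]
  refine ⟨⟨x, x.2, hx'⟩, ?_⟩
  intro U hU
  have h : Sit (rhoSL n F) p n (x : SpecialLinearGroup (Fin n) F) :=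
    ⟨rhoSL_inj, hx', hp.out, hodd, hch, he, by rw [Module.finrank_fin_fun]; omega⟩
  exact h.irr_top (Module.finrank_fin_fun F) U (hU x x.2)

theorem row_sl_chk {p : ℕ} [hp : Fact p.Prime] (hodd : p ≠ 2) (h2 : 2 ≤ n) (hch : (p : F) ≠ 0)
    (he : ∀ k, p ∣ Fintype.card F ^ k - 1 → n ∣ k)
    (hpS : p ∣ Nat.card (ProjectiveSpecialLinearGroup (Fin n) F)) {c L N M : ℕ}
    (hc : (Fintype.card F ^ n - 1) ≤ c * (Fintype.card F - 1))
    (hL : ∀ H : Subgroup (ProjectiveSpecialLinearGroup (Fin n) F), H ≠ ⊤ → ¬ p ∣ H.index → L ≤ H.index)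
    (hN : Nat.card (ProjectiveSpecialLinearGroup (Fin n) F) ∣ N)
    (hM : n * c < Nat.card (center (SpecialLinearGroup (Fin n) F)) * (p * (M + 1))) (hML : M ≤ L)
    (hchk : ∀ g ≤ M, ∀ j < g, ¬ p ∣ g → L ≤ g + p * j → ¬ (g + p * j ∣ N)) :
    FprRow (p + 1) 1 p (ProjectiveSpecialLinearGroup (Fin n) F) := by
  have hker : (QuotientGroup.mk' (center (SpecialLinearGroup (Fin n) F))).ker =
      center (SpecialLinearGroup (Fin n) F) := QuotientGroup.ker_mk' _
  have hfin : Finite (ProjectiveSpecialLinearGroup (Fin n) F) := by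
    unfold ProjectiveSpecialLinearGroup
    infer_instance
  have hpG : p ∣ Nat.card (SpecialLinearGroup (Fin n) F) := hpS.trans (Subgroup.card_quotient_dvd_card _)
  refine row_of_chk' (S := ProjectiveSpecialLinearGroup (Fin n) F) (F := F) (ρ := rhoSL n F) (p := p) (e := n)
    (c := c) (L := L) (N := N) (M := M) hodd rhoSL_inj hch he (by rw [Module.finrank_fin_fun]; omega) hpG
    (QuotientGroup.mk' (center (SpecialLinearGroup (Fin n) F))) (QuotientGroup.mk'_surjective _)
    (by rw [hker]) (by rw [hker]; exact sl_ker he h2) (fun x hx => ?_) hL hN (by rw [hker]; exact hM) hML hchk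
  have h : Sit (rhoSL n F) p n x :=
    ⟨rhoSL_inj, hx, hp.out, hodd, hch, he, by rw [Module.finrank_fin_fun]; omega⟩
  have h1 := card_cent_SL (by omega : 1 ≤ n) (h.irr_top (Module.finrank_fin_fun F))
  have hq : 2 ≤ Fintype.card F := two_le_q
  exact Nat.le_of_mul_le_mul_right (h1.trans hc) (by omega)

theorem row_sl {p : ℕ} [hp : Fact p.Prime] (hodd : p ≠ 2) (h2 : 2 ≤ n) (hch : (p : F) ≠ 0)
    (he : ∀ k, p ∣ Fintype.card F ^ k - 1 → n ∣ k)
    (hpS : p ∣ Nat.card (ProjectiveSpecialLinearGroup (Fin n) F)) {c L : ℕ}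
    (hc : (Fintype.card F ^ n - 1) ≤ c * (Fintype.card F - 1))
    (hL : ∀ H : Subgroup (ProjectiveSpecialLinearGroup (Fin n) F), H ≠ ⊤ → ¬ p ∣ H.index → L ≤ H.index)
    (hnum : (n + 1) * c ≤ Nat.card (center (SpecialLinearGroup (Fin n) F)) * L) :
    FprRow (p + 1) 1 p (ProjectiveSpecialLinearGroup (Fin n) F) := by
  have hpe := succ_le_of_he hch he
  have hZ : 1 ≤ Nat.card (center (SpecialLinearGroup (Fin n) F)) := Nat.card_pos
  have hp1 : 1 ≤ p := hp.out.pos
  have hn0 : 0 < n := by omega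
  set z := Nat.card (center (SpecialLinearGroup (Fin n) F)) with hz
  -- `M = n c / (z p)`
  have hzp : 0 < z * p := Nat.mul_pos hZ hp1
  have hMle : (n * c / (z * p)) * (z * p) ≤ n * c := Nat.div_mul_le_self _ _
  have hkey : (p + 1) * (n * c / (z * p)) ≤ L := by
    apply Nat.le_of_mul_le_mul_left _ hzp
    calc z * p * ((p + 1) * (n * c / (z * p))) = (p + 1) * ((n * c / (z * p)) * (z * p)) := by ring
      _ ≤ (p + 1) * (n * c) := Nat.mul_le_mul_left _ hMle
      _ = ((p + 1) * n) * c := by ring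
      _ ≤ (p * (n + 1)) * c := Nat.mul_le_mul_right _ (by nlinarith)
      _ = p * ((n + 1) * c) := by ring
      _ ≤ p * (z * L) := Nat.mul_le_mul_left _ hnum
      _ = z * p * L := by ring
  refine row_sl_chk hodd h2 hch he hpS hc hL dvd_rfl (M := n * c / (z * p)) ?_ ?_ ?_
  · have := Nat.lt_div_mul_add (a := n * c) hzp
    calc n * c < n * c / (z * p) * (z * p) + z * p := this
      _ = z * (p * (n * c / (z * p) + 1)) := by ring
  · refine le_trans ?_ hkey
    exact Nat.le_mul_of_pos_left _ (by omega)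
  · intro g hg j hj _ hLg _
    have h1 : (p + 1) * g ≤ L := (Nat.mul_le_mul_left _ hg).trans hkey
    have h3 : p * j < p * g := Nat.mul_lt_mul_of_pos_left hj hp1
    have h4 : (p + 1) * g = g + p * g := by ring
    omega

end row

end Cfsg.Agent.H409.Cyc
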