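import Cfsg.Agent.H409.FprCycSp
import Cfsg.Agent.S2150
import Cfsg.Agent.H77.Final
import Cfsg.Agent.S2151
import Cfsg.Agent.S2152

/-!
# Cyclic Sylow subgroups: unitary groups
-/

set_option autoImplicit false
set_option linter.unusedSectionVars false

namespace Cfsg.Agent.H409.Cyc

open Module Subgroup Matrix Cfsg

section gen

variable {F : Type*} [Field F] {V : Type*} [AddCommGroup V] [Module F V] [Module.Finite F V]

/-- a linear map of determinant one, trivial on a hyperplane, is trivial modulo the hyperplane -/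
theorem sub_mem_of_det {c : Module.End F V} {U : Submodule F V} (hU : ∀ u ∈ U, c u = u)
    (hdim : finrank F V = finrank F U + 1) (hdet : LinearMap.det c = 1) (v : V) : c v - v ∈ U := by
  have he : U ≤ U.comap c := fun u hu => by
    rw [Submodule.mem_comap, hU u hu]; exact hu
  have h1 := LinearMap.det_eq_det_mul_det U c he
  have h2 : c.restrict he = LinearMap.id := by
    apply LinearMap.ext
    intro u
    apply Subtype.ext
    exact hU u u.2
  rw [hdet, h2, LinearMap.det_id, one_mul] at h1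
  have h3 : finrank F (V ⧸ U) = 1 := by
    have := Submodule.finrank_quotient_add_finrank U
    omega
  obtain ⟨w, hw0, hw⟩ := finrank_eq_one_iff'.1 h3
  obtain ⟨a, ha⟩ := hw (U.mapQ U c he w)
  have h4 : U.mapQ U c he = a • LinearMap.id := by
    apply LinearMap.ext
    intro y
    obtain ⟨b, rfl⟩ := hw y
    rw [map_smul, ← ha, LinearMap.smul_apply, LinearMap.id_apply, smul_comm]
  rw [h4, LinearMap.det_smul, h3, pow_one, LinearMap.det_id, mul_one] at h1
  rw [← h1, one_smul] at h4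
  rw [← Submodule.Quotient.mk_eq_zero, Submodule.Quotient.mk_sub, sub_eq_zero]
  have h5 := congrArg (fun f => f (Submodule.Quotient.mk (p := U) v)) h4
  exact h5

end gen

section gen2

variable {F : Type*} [Field F] [Fintype F] {V : Type*} [AddCommGroup V] [Module F V] [Finite V]
  {G : Type*} [Group G] [Finite G] {ρ : G →* Module.End F V} {p e : ℕ}

/-- elements of determinant one, trivial on `[V, x]` of codimension one, commuting with `x` -/
theorem Sit.eq_one_of_det {x : G} (h : Sit ρ p e x) (hdim : finrank F V = e + 1) {c : G}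
    (hc : c ∈ centralizer ({x} : Set G)) (hU : ∀ u ∈ UU ρ x, ρ c u = u) (hdet : LinearMap.det (ρ c) = 1) :
    c = 1 := by
  have hfd : Module.Finite F V := Module.Finite.of_finite
  have hdisj : UU ρ x ⊓ LinearMap.ker (ρ x - 1) = ⊥ := by
    rw [eq_bot_iff]
    rintro w ⟨hw1, hw2⟩
    rw [SetLike.mem_coe, LinearMap.mem_ker, LinearMap.sub_apply, Module.End.one_apply, sub_eq_zero] at hw2
    rw [Submodule.mem_bot]
    exact h.disj hw1 hw2
  have hsup : UU ρ x ⊔ LinearMap.ker (ρ x - 1) = ⊤ := by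
    apply Submodule.eq_top_of_finrank_eq
    have h1 := Submodule.finrank_sup_add_finrank_inf_eq (UU ρ x) (LinearMap.ker (ρ x - 1))
    rw [hdisj, finrank_bot, add_zero] at h1
    rw [h1]
    exact LinearMap.finrank_range_add_finrank_ker (ρ x - 1)
  have hcx : c * x = x * c := mem_centralizer_singleton_iff.1 hc
  apply h.inj
  rw [map_one]
  apply LinearMap.ext
  intro v
  have hv : v ∈ UU ρ x ⊔ LinearMap.ker (ρ x - 1) := by rw [hsup]; trivial
  obtain ⟨u1, hu1, w, hw, rfl⟩ := Submodule.mem_sup.1 hv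
  have hw' : ρ x w = w := by
    rwa [LinearMap.mem_ker, LinearMap.sub_apply, Module.End.one_apply, sub_eq_zero] at hw
  have h1 : ρ c w - w ∈ UU ρ x := sub_mem_of_det hU (by rw [hdim, h.finrank_UU]) hdet w
  have h2 : ρ x (ρ c w - w) = ρ c w - w := by
    rw [map_sub, ← rho_mul_apply, ← hcx, rho_mul_apply, hw']
  have h3 := h.disj h1 h2
  rw [sub_eq_zero] at h3
  rw [map_add, hU u1 hu1, h3]; rfl

theorem not_dvd_of_scalar [hp : Fact p.Prime] (he : ∀ k, p ∣ Fintype.card F ^ k - 1 → e ∣ k) (h2 : 2 ≤ e)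
    (hinj : Function.Injective ρ) [Nontrivial V] (Z : Subgroup G)
    (hZ : ∀ z ∈ Z, ∃ c : F, ρ z = c • 1) : ¬ p ∣ Nat.card Z := by
  classical
  intro h
  obtain ⟨z, hz⟩ := exists_prime_orderOf_dvd_card' p h
  obtain ⟨c, hc⟩ := hZ z z.2
  have hz' : orderOf (z : G) = p := by rw [orderOf_coe, hz]
  obtain ⟨v, hv⟩ := exists_ne (0 : V)
  have hpow : ∀ k : ℕ, ρ ((z : G) ^ k) = c ^ k • 1 := by
    intro k
    rw [map_pow, hc, smul_pow, one_pow]
  have hcp : c ^ p = 1 := by
    have h3 := hpow p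
    rw [← hz', pow_orderOf_eq_one, map_one, hz'] at h3
    have h4 := congrArg (fun f : Module.End F V => f v) h3
    simp only [Module.End.one_apply, LinearMap.smul_apply] at h4
    have h5 : (c ^ p - 1) • v = 0 := by rw [sub_smul, ← h4, one_smul, sub_self]
    rcases smul_eq_zero.1 h5 with h6 | h6
    · exact sub_eq_zero.1 h6
    · exact absurd h6 hv
  have hc1 : c ≠ 1 := by
    rintro rfl
    rw [one_smul, ← map_one ρ] at hc
    have h3 := hinj hc
    rw [h3, orderOf_one] at hz'
    exact hp.out.one_lt.ne hz'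
  have hc0 : c ≠ 0 := by
    rintro rfl
    rw [zero_pow hp.out.ne_zero] at hcp
    exact zero_ne_one hcp
  have h3 : orderOf (Units.mk0 c hc0) = p := by
    apply orderOf_eq_prime
    · apply Units.ext; rw [Units.val_pow_eq_pow_val]; exact hcp
    · intro h4; exact hc1 (congrArg Units.val h4)
  have h4 : p ∣ Fintype.card F ^ 1 - 1 := by
    rw [pow_one, ← Fintype.card_units, ← h3]
    exact orderOf_dvd_card
  have h5 := Nat.le_of_dvd one_pos (he 1 h4)
  omega

theorem not_dvd_card_of_ch [hp : Fact p.Prime] (hch : (p : F) ≠ 0) : ¬ p ∣ Fintype.card F := by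
  intro h
  apply hch
  obtain ⟨r, hr⟩ := CharP.exists F
  have hrp : r.Prime := CharP.char_is_prime F r
  obtain ⟨n, -, hn⟩ := FiniteField.card F r
  rw [hn] at h
  have h1 := (Nat.prime_dvd_prime_iff_eq hp.out hrp).1 (hp.out.dvd_of_dvd_pow h)
  rw [h1]
  exact CharP.cast_eq_zero F r

end gen2

section su

variable {F : Type*} [Field F] [Fintype F] {n q : ℕ}

/-- the natural representation -/
noncomputable def rhoSU (n : ℕ) (F : Type*) [Field F] (q : ℕ) : SU n F q →* Module.End F (Fin n → F) where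
  toFun g := Matrix.toLin' ((g : Matrix.SpecialLinearGroup (Fin n) F) : Matrix (Fin n) (Fin n) F)
  map_one' := by
    rw [OneMemClass.coe_one, Matrix.SpecialLinearGroup.coe_one, Matrix.toLin'_one]; rfl
  map_mul' a b := by
    rw [MulMemClass.coe_mul, Matrix.SpecialLinearGroup.coe_mul, Matrix.toLin'_mul]; rfl

theorem rhoSU_apply (g : SU n F q) (v : Fin n → F) :
    rhoSU n F q g v = ((g : Matrix.SpecialLinearGroup (Fin n) F) : Matrix (Fin n) (Fin n) F) *ᵥ v :=
  Matrix.toLin'_apply _ _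

theorem rhoSU_inj : Function.Injective (rhoSU n F q) := by
  intro a b hab
  apply Subtype.ext
  apply Subtype.ext
  exact (Matrix.toLin').injective hab

theorem exists_q_pow (hF : Fintype.card F = q ^ 2) : ∃ (r j : ℕ) (_ : r.Prime) (_ : CharP F r), q = r ^ j := by
  obtain ⟨r, hr⟩ := CharP.exists F
  have hrp : r.Prime := CharP.char_is_prime F r
  obtain ⟨N, -, hN⟩ := FiniteField.card F r
  have h1 : q ∣ r ^ (N : ℕ) := by rw [← hN, hF]; exact dvd_pow_self q (by norm_num)
  obtain ⟨j, -, hj⟩ := (Nat.dvd_prime_pow hrp).1 h1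
  exact ⟨r, j, hrp, hr, hj⟩

theorem add_pow_q (hF : Fintype.card F = q ^ 2) (a b : F) : (a + b) ^ q = a ^ q + b ^ q := by
  obtain ⟨r, j, hr, hc, hq⟩ := exists_q_pow hF
  have : Fact r.Prime := ⟨hr⟩
  rw [hq]
  exact add_pow_char_pow a b r j

theorem isForm_su (hF : Fintype.card F = q ^ 2) : Form (hermForm n F q) (fun a => a ^ q) where
  add_l u v w := by
    simp only [hermForm, Pi.add_apply, add_mul, Finset.sum_add_distrib]
  add_r u v w := by
    simp only [hermForm, Pi.add_apply, add_pow_q hF, mul_add, Finset.sum_add_distrib]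
  smul_l a u v := by
    simp only [hermForm, Pi.smul_apply, smul_eq_mul, mul_assoc, Finset.mul_sum]
  smul_r a u v := by
    simp only [hermForm, Pi.smul_apply, smul_eq_mul, mul_pow, Finset.mul_sum]
    apply Finset.sum_congr rfl
    intro i _
    have h1 : (a ^ q) ^ q = a := by
      rw [← pow_mul, ← pow_two, ← hF, FiniteField.pow_card]
    rw [h1]; ring
  inv a := by
    rw [← pow_mul, ← pow_two, ← hF, FiniteField.pow_card]
  nd v hv := by
    classical
    funext i
    have h2 := hv (Pi.single i 1)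
    simp only [hermForm] at h2
    rw [Finset.sum_eq_single i] at h2
    · rw [Pi.single_eq_same, one_mul] at h2
      have hq : q ≠ 0 := by
        rintro rfl
        have := Fintype.card_pos (α := F)
        omega
      exact (pow_eq_zero_iff hq).1 h2
    · intro j _ hj
      rw [Pi.single_eq_of_ne hj, zero_mul]
    · intro h; exact absurd (Finset.mem_univ i) h

theorem formSU_inv (g : SU n F q) (u v : Fin n → F) :
    hermForm n F q (rhoSU n F q g u) (rhoSU n F q g v) = hermForm n F q u v := by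
  rw [rhoSU_apply, rhoSU_apply]
  exact g.2 u v

theorem su_cent {p : ℕ} [hp : Fact p.Prime] (hodd : p ≠ 2) (hF : Fintype.card F = q ^ 2) (hch : (p : F) ≠ 0) {e : ℕ}
    (he : ∀ k, p ∣ Fintype.card F ^ k - 1 → e ∣ k) (h2 : 2 ≤ e) (hn : n = e ∨ n = e + 1) (x : SU n F q)
    (hx : orderOf x = p) :
    Nat.card (centralizer ({x} : Set (SU n F q))) ≤ q ^ e + 1 := by
  have hfr : finrank F (Fin n → F) = n := Module.finrank_fin_fun F
  have h : Sit (rhoSU n F q) p e x := ⟨rhoSU_inj, hx, hp.out, hodd, hch, he, by rw [hfr]; omega⟩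
  have h1 := h.card_centralizer_le (isForm_su hF) formSU_inv (s := q ^ e) (k := 1)
    (by rw [hF, ← pow_mul, ← pow_mul, mul_comm]) (by
      rw [Set.ncard_le_one_iff]
      have key : ∀ c : SU n F q, c ∈ centralizer ({x} : Set (SU n F q)) →
          (∀ u ∈ UU (rhoSU n F q) x, rhoSU n F q c u = u) → c = 1 := by
        intro c hcc hc
        rcases hn with hn | hn
        · have htop : UU (rhoSU n F q) x = ⊤ := by
            apply Submodule.eq_top_of_finrank_eq
            rw [h.finrank_UU, hfr, hn]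
          apply rhoSU_inj
          rw [map_one]
          apply LinearMap.ext
          intro v
          exact hc v (by rw [htop]; trivial)
        · apply h.eq_one_of_det (by rw [hfr, hn]) hcc hc
          have h3 : rhoSU n F q c = Matrix.toLin' ((c : Matrix.SpecialLinearGroup (Fin n) F) :
              Matrix (Fin n) (Fin n) F) := rfl
          rw [h3, LinearMap.det_toLin']
          exact (c : Matrix.SpecialLinearGroup (Fin n) F).2
      rintro a b ⟨ha', ha⟩ ⟨hb', hb⟩
      rw [key a ha' ha, key b hb' hb])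
  rwa [mul_one] at h1

theorem row_su_gen {p : ℕ} [hp : Fact p.Prime] (hodd : p ≠ 2) (hF : Fintype.card F = q ^ 2) (hch : (p : F) ≠ 0)
    {e : ℕ} (he : ∀ k, p ∣ Fintype.card F ^ k - 1 → e ∣ k) (h2 : 2 ≤ e) (hn : n = e ∨ n = e + 1) (hn3 : 3 ≤ n)
    (hpS : p ∣ Nat.card (PSU n F q)) {L : ℕ}
    (hL : ∀ H : Subgroup (PSU n F q), H ≠ ⊤ → L ≤ H.index) (hnum : (e + 1) * (q ^ e + 1) ≤ L) :
    FprRow (p + 1) 1 p (PSU n F q) := by
  classical
  have hfin : Finite (SU n F q) := inferInstance
  have hker : (QuotientGroup.mk' (center (SU n F q))).ker = center (SU n F q) := QuotientGroup.ker_mk' _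
  have hpe : e + 1 ≤ p := lt_of_he hp.out (not_dvd_card_of_ch hch) he
  have hpG : p ∣ Nat.card (SU n F q) := hpS.trans (Subgroup.card_quotient_dvd_card _)
  have hnt : Nontrivial (Fin n → F) := by
    have : Nonempty (Fin n) := ⟨⟨0, by omega⟩⟩
    infer_instance
  refine row_of_lin (S := PSU n F q) (F := F) (ρ := rhoSU n F q) (p := p) (e := e) hodd rhoSU_inj hch he
    (by rw [Module.finrank_fin_fun]; omega) hpG
    (QuotientGroup.mk' (center (SU n F q))) (QuotientGroup.mk'_surjective _)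
    (by rw [hker]) (by
      rw [hker]
      apply not_dvd_of_scalar he h2 rhoSU_inj
      intro z hz
      obtain ⟨c, hcn, hcq, hzc⟩ := (LieClassical.SUBasic.mem_center_SU_iff hF hn3 z).1 hz
      refine ⟨c, ?_⟩
      apply LinearMap.ext
      intro v
      rw [rhoSU_apply, hzc, LieClassical.SUBasic.coe_suScalar]
      simp)
    (c := q ^ e + 1) (fun x hx => su_cent hodd hF hch he h2 hn x hx) (L := L) hL (by
      have h1 : 1 ≤ Nat.card (QuotientGroup.mk' (center (SU n F q))).ker := Nat.card_pos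
      have h3 : (p + 1) * e ≤ p * (e + 1) := by nlinarith
      calc (p + 1) * (e * (q ^ e + 1)) = (p + 1) * e * (q ^ e + 1) := by ring
        _ ≤ p * (e + 1) * (q ^ e + 1) := Nat.mul_le_mul_right _ h3
        _ = p * (1 * ((e + 1) * (q ^ e + 1))) := by ring
        _ ≤ _ := Nat.mul_le_mul_left _ (Nat.mul_le_mul h1 hnum))

theorem two_le_of_card (hF : Fintype.card F = q ^ 2) : 2 ≤ q := by
  have h1 := Fintype.one_lt_card (α := F)
  rw [hF] at h1
  by_contra hc
  interval_cases q <;> norm_num at h1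

/-- `a (Q - 1) ≤ Q ^ b - 1` by induction -/
theorem geom_le {Q a b : ℕ} (hQ : 2 ≤ Q) (h : a * (Q - 1) ≤ Q ^ b - 1) (k c : ℕ) (hc : c ≤ a) :
    (a + c * k) * (Q - 1) ≤ Q ^ (b + k) - 1 := by
  obtain ⟨r, rfl⟩ : ∃ r, Q = r + 1 := ⟨Q - 1, by omega⟩
  rw [Nat.add_sub_cancel] at h ⊢
  have hr : 1 ≤ r := by omega
  induction k with
  | zero => simpa using h
  | succ k ih =>
    have h6 : (r + 1) ^ (b + (k + 1)) = (r + 1) * (r + 1) ^ (b + k) := by ring
    have h5 : 1 ≤ (r + 1) ^ (b + k) := Nat.one_le_pow _ _ (by omega)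
    rw [h6]
    obtain ⟨t, ht⟩ : ∃ t, (r + 1) ^ (b + k) = t + 1 := ⟨(r + 1) ^ (b + k) - 1, by omega⟩
    rw [ht] at ih ⊢
    rw [Nat.add_sub_cancel] at ih
    have h7 : (r + 1) * (t + 1) = r * t + t + r + 1 := by ring
    rw [h7, Nat.add_sub_cancel]
    have h8 : c ≤ t + 1 := by
      have : a * r ≤ t := by
        refine le_trans ?_ ih
        exact Nat.mul_le_mul_right _ (Nat.le_add_right _ _)
      nlinarith
    have h9 : c * r ≤ (t + 1) * r := Nat.mul_le_mul_right _ h8
    have h10 : (a + c * (k + 1)) * r = (a + c * k) * r + c * r := by ring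
    rw [h10]
    nlinarith

/-- **Unitary groups of odd dimension.** -/
theorem row_su_odd {p : ℕ} [hp : Fact p.Prime] (hodd : p ≠ 2) (hF : Fintype.card F = q ^ 2) (hch : (p : F) ≠ 0)
    (he : ∀ k, p ∣ Fintype.card F ^ k - 1 → n ∣ k) (hn5 : 5 ≤ n) (hno : Odd n) (hq : 3 ≤ q ∨ 7 ≤ n)
    (hpS : p ∣ Nat.card (PSU n F q)) : FprRow (p + 1) 1 p (PSU n F q) := by
  have hq2 : 2 ≤ q := two_le_of_card hF
  refine row_su_gen hodd hF hch he (by omega) (Or.inl rfl) (by omega) hpS
    (Cfsg.Agent.S2151.result q hF hq2 n hn5 hno).1 ?_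
  have hqq : 4 ≤ q ^ 2 := by nlinarith
  rw [Nat.le_div_iff_mul_le (by omega)]
  have key : (n + 1) * (q ^ 2 - 1) ≤ q ^ (n - 1) - 1 := by
    rcases Nat.lt_or_ge n 7 with h7 | h7
    · have hn : n = 5 := by
        rcases hno with ⟨k, hk⟩
        omega
      subst hn
      have hq3 : 3 ≤ q := by omega
      have h9 : 9 ≤ q ^ 2 := by nlinarith
      have h1 : q ^ (5 - 1) = q ^ 2 * q ^ 2 := by ring
      rw [h1]
      obtain ⟨t, ht⟩ : ∃ t, q ^ 2 = t + 1 := ⟨q ^ 2 - 1, by omega⟩
      rw [ht, Nat.add_sub_cancel]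
      have h2 : (t + 1) * (t + 1) = t * t + 2 * t + 1 := by ring
      rw [h2, Nat.add_sub_cancel]
      have : 8 ≤ t := by omega
      nlinarith
    · obtain ⟨k, hk⟩ := hno
      obtain ⟨j, rfl⟩ : ∃ j, k = j + 3 := ⟨k - 3, by omega⟩
      have h1 := geom_le (Q := q ^ 2) (a := 8) (b := 3) (by omega) (by
        obtain ⟨t, ht⟩ : ∃ t, q ^ 2 = t + 1 := ⟨q ^ 2 - 1, by omega⟩
        rw [ht, Nat.add_sub_cancel]
        have h2 : (t + 1) ^ 3 = t * t * t + 3 * (t * t) + 3 * t + 1 := by ring
        rw [h2, Nat.add_sub_cancel]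
        have : 3 ≤ t := by omega
        nlinarith [Nat.mul_le_mul this this]) j 2 (by norm_num)
      have h3 : n + 1 = 8 + 2 * j := by omega
      have h4 : q ^ (n - 1) = (q ^ 2) ^ (3 + j) := by
        rw [← pow_mul]; congr 1; omega
      rw [h3, h4]
      exact h1
  calc (n + 1) * (q ^ n + 1) * (q ^ 2 - 1) = (q ^ n + 1) * ((n + 1) * (q ^ 2 - 1)) := by ring
    _ ≤ (q ^ n + 1) * (q ^ (n - 1) - 1) := Nat.mul_le_mul_left _ key

/-- **Unitary groups of even dimension.** -/
theorem row_su_even {p : ℕ} [hp : Fact p.Prime] (hodd : p ≠ 2) (hF : Fintype.card F = q ^ 2) (hch : (p : F) ≠ 0)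
    (he : ∀ k, p ∣ Fintype.card F ^ k - 1 → n - 1 ∣ k) (hn4 : 4 ≤ n) (hno : Even n) (hq : 3 ≤ q ∨ 6 ≤ n)
    (hpS : p ∣ Nat.card (PSU n F q)) : FprRow (p + 1) 1 p (PSU n F q) := by
  have hq2 : 2 ≤ q := two_le_of_card hF
  have hqq : 4 ≤ q ^ 2 := by nlinarith
  rcases Nat.lt_or_ge n 6 with h6 | h6
  · have hn : n = 4 := by
      rcases hno with ⟨k, hk⟩
      omega
    subst hn
    have hq3 : 3 ≤ q := by omega
    refine row_su_gen hodd hF hch he (by norm_num) (Or.inr rfl) (by norm_num) hpS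
      (Cfsg.Agent.S2150.result q hF hq2).1 ?_
    norm_num
    omega
  · obtain ⟨k, hk⟩ := hno
    obtain ⟨j, rfl⟩ : ∃ j, k = j + 3 := ⟨k - 3, by omega⟩
    have key : n * (q ^ 2 - 1) ≤ q ^ n - 1 := by
      have h1 := geom_le (Q := q ^ 2) (a := 6) (b := 3) (by omega) (by
        obtain ⟨t, ht⟩ : ∃ t, q ^ 2 = t + 1 := ⟨q ^ 2 - 1, by omega⟩
        rw [ht, Nat.add_sub_cancel]
        have h2 : (t + 1) ^ 3 = t * t * t + 3 * (t * t) + 3 * t + 1 := by ring
        rw [h2, Nat.add_sub_cancel]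
        have : 3 ≤ t := by omega
        nlinarith [Nat.mul_le_mul this this]) j 2 (by norm_num)
      have h3 : n = 6 + 2 * j := by omega
      have h4 : q ^ n = (q ^ 2) ^ (3 + j) := by
        rw [← pow_mul]; congr 1; omega
      rw [h4]
      rw [h3]
      exact h1
    rcases Nat.lt_or_ge 2 q with h2 | h2
    · refine row_su_gen hodd hF hch he (by omega) (Or.inr (by omega)) (by omega) hpS
        (Cfsg.Agent.S2152.result q hF (by omega) n h6 ⟨_, hk⟩).1 ?_
      rw [Nat.le_div_iff_mul_le (by omega), show n - 1 + 1 = n by omega]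
      calc n * (q ^ (n - 1) + 1) * (q ^ 2 - 1) = n * (q ^ 2 - 1) * (q ^ (n - 1) + 1) := by ring
        _ ≤ (q ^ n - 1) * (q ^ (n - 1) + 1) := Nat.mul_le_mul_right _ key
    · have hq' : q = 2 := by omega
      subst hq'
      refine row_su_gen hodd hF hch he (by omega) (Or.inr (by omega)) (by omega) hpS
        (L := (n - 1 + 1) * (2 ^ (n - 1) + 1)) ?_ le_rfl
      intro H hH
      rw [show n - 1 + 1 = n by omega]
      have hlow := H77.Final.lower hF (by omega : 5 ≤ n) H hH
      obtain ⟨X, hX⟩ : ∃ X, X = 2 ^ (n - 2) := ⟨_, rfl⟩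
      have hX1 : 2 ^ (n - 1) = 2 * X := by
        rw [hX, ← pow_succ']; congr 1; omega
      have hXn : 2 ^ n = 4 * X := by
        rw [hX, show (4 : ℕ) = 2 ^ 2 by norm_num, ← pow_add]; congr 1; omega
      have hn3 : 3 * n ≤ 4 * X - 1 := by
        have h1 := key
        rw [hXn] at h1
        norm_num at h1
        omega
      have hX16 : 16 ≤ X := by
        rw [hX]
        calc 16 = 2 ^ 4 := by norm_num
          _ ≤ 2 ^ (n - 2) := Nat.pow_le_pow_right (by norm_num) (by omega)
      rw [hX1]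
      -- `3 n (2 X + 1) ≤ 3 index`
      have hmain : 3 * (n * (2 * X + 1)) ≤ 2 * X * (4 * X - 1) := by
        have h8 : 3 * n + 1 ≤ 2 * X := by
          -- `3 n + 1 ≤ 2 ^ (n - 1)`
          have h9 := geom_le (Q := 2) (a := 19) (b := 5) (by norm_num) (by norm_num) (2 * j) 3 (by norm_num)
          have h10 : 2 ^ (5 + 2 * j) = 2 * X := by
            rw [← hX1]; congr 1; omega
          rw [h10] at h9
          norm_num at h9
          omega
        obtain ⟨Y, hY⟩ : ∃ Y, 4 * X = Y + 1 := ⟨4 * X - 1, by omega⟩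
        rw [hY, Nat.add_sub_cancel]
        have h11 : 3 * (n * (2 * X + 1)) = 3 * n * (2 * X + 1) := by ring
        rw [h11]
        have h12 : 3 * n * (2 * X + 1) ≤ (2 * X - 1) * (2 * X + 1) := Nat.mul_le_mul_right _ (by omega)
        refine h12.trans ?_
        obtain ⟨Z, hZ⟩ : ∃ Z, 2 * X = Z + 1 := ⟨2 * X - 1, by omega⟩
        rw [hZ, Nat.add_sub_cancel]
        have h13 : Y = 2 * Z + 1 := by omega
        rw [h13]
        nlinarith
      rcases hlow with h | ⟨-, -, h⟩
      · have hneg : ((-1 : ℤ)) ^ n = 1 := Even.neg_one_pow ⟨_, hk⟩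
        rw [H77.Step1.In, hneg] at h
        have hXZ : ((2 : ℕ) : ℤ) ^ (n - 2) = (X : ℤ) := by rw [hX]; push_cast; rfl
        rw [hXZ] at h
        have h2 : ((3 * (n * (2 * X + 1)) : ℕ) : ℤ) ≤ ((2 * X * (4 * X - 1) : ℕ) : ℤ) := by exact_mod_cast hmain
        have h3 : ((4 * X - 1 : ℕ) : ℤ) = 4 * (X : ℤ) - 1 := by
          rw [Nat.cast_sub (by omega)]; push_cast; ring
        push_cast [h3] at h2 h
        have h4 : (3 : ℤ) * ((n : ℤ) * (2 * X + 1)) ≤ 3 * (H.index : ℤ) := by
          nlinarith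
        have h5 : ((n * (2 * X + 1) : ℕ) : ℤ) ≤ (H.index : ℤ) := by
          push_cast
          linarith
        exact_mod_cast h5
      · have hXZ : (2 : ℤ) ^ (n - 2) = (X : ℤ) := by rw [hX]; push_cast; rfl
        rw [hXZ] at h
        have h2 : ((3 * (n * (2 * X + 1)) : ℕ) : ℤ) ≤ ((2 * X * (4 * X - 1) : ℕ) : ℤ) := by exact_mod_cast hmain
        have h3 : ((4 * X - 1 : ℕ) : ℤ) = 4 * (X : ℤ) - 1 := by
          rw [Nat.cast_sub (by omega)]; push_cast; ring
        push_cast [h3] at h2 h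
        have h4 : (3 : ℤ) * ((n : ℤ) * (2 * X + 1)) ≤ 3 * (H.index : ℤ) := by
          nlinarith
        have h5 : ((n * (2 * X + 1) : ℕ) : ℤ) ≤ (H.index : ℤ) := by
          push_cast
          linarith
        exact_mod_cast h5

end su

end Cfsg.Agent.H409.Cyc
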