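import Cfsg.Agent.H409.FprCycChk
import Cfsg.Agent.S0245
import Cfsg.Agent.S0246
import Cfsg.Agent.S0296
import Cfsg.Agent.S0822
import Cfsg.Agent.S2151

/-!
# Cyclic Sylow subgroups: the small classical groups
-/

set_option autoImplicit false
set_option linter.unusedSectionVars false

namespace Cfsg.Agent.H409.Cyc

open Module Subgroup QuadraticMap
open Cfsg.Agent.LieClassical.OrthCore Cfsg.Agent.LieClassical.OrthTrans Cfsg.Agent.LieClassical.OrthForms

section om

variable {F : Type*} [Field F] [Fintype F] {ι : Type} [Fintype ι] [DecidableEq ι] {Q : QuadraticForm F (ι → F)}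

theorem row_om_chk {p e : ℕ} [hp : Fact p.Prime] (hodd : p ≠ 2) (hG : Good Q) (hch : (p : F) ≠ 0)
    (he : ∀ k, p ∣ Fintype.card F ^ k - 1 → e ∣ k) (hdim : finrank F (ι → F) < 2 * e)
    (hpS : p ∣ Nat.card (Cfsg.POmega F ⇑Q)) {c : ℕ}
    (hC : ∀ x : E Q, Sit (rhoE Q) p e x → Nat.card (centralizer ({x} : Set (E Q))) ≤ c) {L N M : ℕ}
    (hL : ∀ H : Subgroup (Cfsg.POmega F ⇑Q), H ≠ ⊤ → L ≤ H.index) (hN : Nat.card (Cfsg.POmega F ⇑Q) ∣ N)
    (hM : e * c < p * (M + 1)) (hML : M ≤ L)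
    (hchk : ∀ g ≤ M, ∀ j < g, L ≤ g + p * j → ¬ (g + p * j ∣ N)) :
    FprRow (p + 1) 1 p (Cfsg.POmega F ⇑Q) := by
  classical
  have : Finite (E Q) := Finite.of_injective (fun g : E Q => ((g : (ι → F) ≃ₗ[F] (ι → F)) : (ι → F) → (ι → F))) (by
    intro a b hab
    exact Subtype.ext (DFunLike.coe_injective hab))
  have hsurj := Cfsg.Agent.H75.OrthIdx.omHom_surjective hG
  have hker := Cfsg.Agent.H75.OrthIdx.omHom_ker hG
  have : Finite (Cfsg.POmega F ⇑Q) := Finite.of_surjective _ hsurj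
  have hpG : p ∣ Nat.card (E Q) := hpS.trans (Subgroup.card_dvd_of_surjective _ hsurj)
  refine row_of_chk (S := Cfsg.POmega F ⇑Q) (F := F) (ρ := rhoE Q) (p := p) (e := e) hodd rhoE_inj hch he hdim hpG
    (Cfsg.Agent.H75.OrthIdx.omHom hG) hsurj (by rw [hker]) (by
      rw [hker]
      exact not_dvd_of_sq hodd _ (fun z hz => center_sq_E hG hz)) (c := c)
    (fun x hx => hC x ⟨rhoE_inj, hx, hp.out, hodd, hch, he, hdim⟩) (L := L) (M := M) hL hN ?_ hML hchk
  have h1 : 1 ≤ Nat.card (Cfsg.Agent.H75.OrthIdx.omHom hG).ker := Nat.card_pos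
  calc e * c < 1 * (p * (M + 1)) := by rw [one_mul]; exact hM
    _ ≤ _ := Nat.mul_le_mul_right _ h1

/-- a `Sit` exists -/
theorem om_p_dvd {p e : ℕ} [hp : Fact p.Prime] (hodd : p ≠ 2) (hG : Good Q) (hch : (p : F) ≠ 0)
    (he : ∀ k, p ∣ Fintype.card F ^ k - 1 → e ∣ k) (hdim : finrank F (ι → F) < 2 * e)
    (hpS : p ∣ Nat.card (Cfsg.POmega F ⇑Q)) : p ∣ Fintype.card F ^ e - 1 := by
  have : Finite (E Q) := Finite.of_injective (fun g : E Q => ((g : (ι → F) ≃ₗ[F] (ι → F)) : (ι → F) → (ι → F))) (by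
    intro a b hab
    exact Subtype.ext (DFunLike.coe_injective hab))
  have hpG : p ∣ Nat.card (E Q) := hpS.trans
    (Subgroup.card_dvd_of_surjective _ (Cfsg.Agent.H75.OrthIdx.omHom_surjective hG))
  obtain ⟨x, hx⟩ := exists_prime_orderOf_dvd_card' p hpG
  have h : Sit (rhoE Q) p e x := ⟨rhoE_inj, hx, hp.out, hodd, hch, he, hdim⟩
  exact h.p_dvd

end om

section special

variable {F : Type*} [Field F] [Fintype F]

/-- `Ω₈⁻(2)`. -/
theorem row_minus_small {p : ℕ} [hp : Fact p.Prime] (hodd : p ≠ 2) (hF : Fintype.card F = 2) {a b : F}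
    (hab : ∀ z₁ z₂ : F, z₁ ^ 2 + a * z₁ * z₂ + b * z₂ ^ 2 = 0 → z₁ = 0 ∧ z₂ = 0)
    (hch : (p : F) ≠ 0) (he : ∀ k, p ∣ Fintype.card F ^ k - 1 → 2 * 4 ∣ k)
    (hpS : p ∣ Nat.card (Cfsg.POmega F (Cfsg.quadFormMinus (4 - 1) F a b))) :
    FprRow (p + 1) 1 p (Cfsg.POmega F (Cfsg.quadFormMinus (4 - 1) F a b)) := by
  have hC := Cfsg.Agent.H76.Num.minusCount hab 3 (by omega)
  have hG := Cfsg.Agent.H76.Num.good_minusForm hab 3 (by omega)
  have hcent : ∀ x : E (minusForm 3 F a b), Sit (rhoE (minusForm 3 F a b)) p (2 * 4) x →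
      Nat.card (centralizer ({x} : Set (E (minusForm 3 F a b)))) ≤ (2 ^ 4 + 1) * 1 := fun x hx =>
    E_cent_one hG hx (by rw [hC.finrank]; omega) (by rw [hF]; norm_num)
  have hL := (Cfsg.Agent.S2147.result hF 4 (by norm_num) a b hab).1
  have hN := Cfsg.Agent.S0294.result hF 4 (by norm_num) a b hab
  rw [show (4 - 1 : ℕ) = 3 by norm_num] at hL hN hpS ⊢
  rw [← coe_minusForm] at hL hN hpS ⊢
  have hpd := om_p_dvd hodd hG hch he (by rw [hC.finrank]; norm_num) hpS
  have hp17 : p = 17 := by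
    rw [hF] at hpd he
    have h1 : p ∣ 3 * 5 * 17 := by norm_num at hpd ⊢; exact hpd
    rcases (hp.out.dvd_mul.1 h1) with h2 | h2
    · exfalso
      rcases (hp.out.dvd_mul.1 h2) with h3 | h3
      · have := he 2 (by norm_num; exact h3)
        omega
      · have := he 4 (by norm_num; exact h3.trans (by norm_num))
        omega
    · exact (Nat.prime_dvd_prime_iff_eq hp.out (by norm_num)).1 h2
  subst hp17
  have hN' : Nat.card (Cfsg.POmega F ⇑(minusForm 3 F a b)) = 197406720 := by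
    norm_num [Finset.prod_range_succ] at hN
    omega
  norm_num at hL
  exact row_om_chk (p := 17) (L := 119) (N := 197406720) (M := 8) hodd hG hch he
    (by rw [hC.finrank]; norm_num) hpS hcent hL (by rw [hN']) (by norm_num) (by norm_num) (by decide +kernel)

/-- `Sp₈(2)`. -/
theorem row_sp_small {p : ℕ} [hp : Fact p.Prime] (hodd : p ≠ 2) (hF : Fintype.card F = 2)
    (hch : (p : F) ≠ 0) (he : ∀ k, p ∣ Fintype.card F ^ k - 1 → 2 * 4 ∣ k)
    (hpS : p ∣ Nat.card (PSp 4 F)) : FprRow (p + 1) 1 p (PSp 4 F) := by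
  have hker : (QuotientGroup.mk' (center (Matrix.symplecticGroup (Fin 4) F))).ker =
      center (Matrix.symplecticGroup (Fin 4) F) := QuotientGroup.ker_mk' _
  have hfr : finrank F (Fin 4 ⊕ Fin 4 → F) = 8 := by
    rw [Module.finrank_fintype_fun_eq_card, Fintype.card_sum, Fintype.card_fin]
  have hpG : p ∣ Nat.card (Matrix.symplecticGroup (Fin 4) F) := hpS.trans (Subgroup.card_quotient_dvd_card _)
  have hpd : p ∣ Fintype.card F ^ 8 - 1 := by
    obtain ⟨x, hx⟩ := exists_prime_orderOf_dvd_card' p hpG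
    have h : Sit (rhoSp 4 F) p (2 * 4) x := ⟨rhoSp_inj, hx, hp.out, hodd, hch, he, by rw [hfr]; norm_num⟩
    exact h.p_dvd
  have hp17 : p = 17 := by
    rw [hF] at hpd he
    have h1 : p ∣ 3 * 5 * 17 := by norm_num at hpd ⊢; exact hpd
    rcases (hp.out.dvd_mul.1 h1) with h2 | h2
    · exfalso
      rcases (hp.out.dvd_mul.1 h2) with h3 | h3
      · have := he 2 (by norm_num; exact h3)
        omega
      · have := he 4 (by norm_num; exact h3.trans (by norm_num))
        omega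
    · exact (Nat.prime_dvd_prime_iff_eq hp.out (by norm_num)).1 h2
  subst hp17
  have hL := (Cfsg.Agent.S2142.result hF 4 (by norm_num)).1
  norm_num at hL
  have hN := Cfsg.Agent.S0245.result hF 4
  norm_num [Finset.prod_range_succ] at hN
  refine row_of_chk (S := PSp 4 F) (F := F) (ρ := rhoSp 4 F) (p := 17) (e := 2 * 4) (c := 17) (L := 120)
    (N := 47377612800) (M := 8) hodd rhoSp_inj hch he (by rw [hfr]; norm_num) hpG
    (QuotientGroup.mk' (center (Matrix.symplecticGroup (Fin 4) F))) (QuotientGroup.mk'_surjective _)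
    (by rw [hker]) (by
      rw [hker]
      exact not_dvd_of_sq hodd _ (fun z hz => Cfsg.Agent.H973.ZPSp.center_sq hz)) (fun x hx => ?_) hL ?_ ?_
    (by norm_num) (by decide +kernel)
  · have := sp_cent hodd hch he (by norm_num) x hx
    rw [hF] at this
    norm_num at this
    exact this
  · rw [← hN]; exact Subgroup.card_quotient_dvd_card _
  · have h1 : 1 ≤ Nat.card (QuotientGroup.mk' (center (Matrix.symplecticGroup (Fin 4) F))).ker := Nat.card_pos
    omega

/-- `PSp₄(3)`. -/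
theorem row_psp_small {p : ℕ} [hp : Fact p.Prime] (hodd : p ≠ 2) (hF : Fintype.card F = 3)
    (hch : (p : F) ≠ 0) (he : ∀ k, p ∣ Fintype.card F ^ k - 1 → 2 * 2 ∣ k)
    (hpS : p ∣ Nat.card (PSp 2 F)) : FprRow (p + 1) 1 p (PSp 2 F) := by
  have hker : (QuotientGroup.mk' (center (Matrix.symplecticGroup (Fin 2) F))).ker =
      center (Matrix.symplecticGroup (Fin 2) F) := QuotientGroup.ker_mk' _
  have hfr : finrank F (Fin 2 ⊕ Fin 2 → F) = 4 := by
    rw [Module.finrank_fintype_fun_eq_card, Fintype.card_sum, Fintype.card_fin]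
  have hpG : p ∣ Nat.card (Matrix.symplecticGroup (Fin 2) F) := hpS.trans (Subgroup.card_quotient_dvd_card _)
  have hpd : p ∣ Fintype.card F ^ 4 - 1 := by
    obtain ⟨x, hx⟩ := exists_prime_orderOf_dvd_card' p hpG
    have h : Sit (rhoSp 2 F) p (2 * 2) x := ⟨rhoSp_inj, hx, hp.out, hodd, hch, he, by rw [hfr]; norm_num⟩
    exact h.p_dvd
  have hp5 : p = 5 := by
    rw [hF] at hpd
    have h1 : p ∣ 2 ^ 4 * 5 := by norm_num at hpd ⊢; exact hpd
    rcases (hp.out.dvd_mul.1 h1) with h2 | h2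
    · exact absurd ((Nat.prime_dvd_prime_iff_eq hp.out Nat.prime_two).1 (hp.out.dvd_of_dvd_pow h2)) hodd
    · exact (Nat.prime_dvd_prime_iff_eq hp.out (by norm_num)).1 h2
  subst hp5
  have hL : ∀ H : Subgroup (PSp 2 F), H ≠ ⊤ → 27 ≤ H.index := by
    intro H hH
    let K := GaloisField 2 2
    have : Finite K := Nat.finite_of_card_ne_zero (by rw [GaloisField.card 2 2 (by norm_num)]; norm_num)
    let _ : Fintype K := Fintype.ofFinite K
    have hK : Fintype.card K = 4 := by
      rw [← Nat.card_eq_fintype_card, GaloisField.card 2 2 (by norm_num)]; norm_num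
    obtain ⟨φ⟩ := Cfsg.Agent.S0822.result (F := K) (K := F) hK hF
    have h1 := (Cfsg.Agent.S2150.result (F := K) 2 (by rw [hK]; norm_num) (by norm_num)).1
      (H.comap (φ : PSU 4 K 2 →* PSp 2 F)) (by
        intro h2
        apply hH
        rw [eq_top_iff]
        intro y _
        obtain ⟨z, rfl⟩ := φ.surjective y
        have : z ∈ H.comap (φ : PSU 4 K 2 →* PSp 2 F) := by rw [h2]; trivial
        exact this)
    rw [Subgroup.index_comap_of_surjective _ φ.surjective] at h1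
    norm_num at h1
    exact h1
  have hN := Cfsg.Agent.S0245.result hF 2
  norm_num [Finset.prod_range_succ] at hN
  have hZ := Cfsg.Agent.S0246.result hF 2 (by norm_num)
  refine row_of_chk (S := PSp 2 F) (F := F) (ρ := rhoSp 2 F) (p := 5) (e := 2 * 2) (c := 10) (L := 27)
    (N := 51840) (M := 4) hodd rhoSp_inj hch he (by rw [hfr]; norm_num) hpG
    (QuotientGroup.mk' (center (Matrix.symplecticGroup (Fin 2) F))) (QuotientGroup.mk'_surjective _)
    (by rw [hker]) (by
      rw [hker]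
      exact not_dvd_of_sq hodd _ (fun z hz => Cfsg.Agent.H973.ZPSp.center_sq hz)) (fun x hx => ?_) hL ?_ ?_
    (by norm_num) (by decide +kernel)
  · have := sp_cent hodd hch he (by norm_num) x hx
    rw [hF] at this
    norm_num at this
    exact this
  · rw [← hN]; exact Subgroup.card_quotient_dvd_card _
  · rw [hker, hZ]; norm_num

/-- the center of `SU` has no `p`-torsion -/
theorem su_ker {n q p e : ℕ} [hp : Fact p.Prime] (hF : Fintype.card F = q ^ 2)
    (he : ∀ k, p ∣ Fintype.card F ^ k - 1 → e ∣ k) (h2 : 2 ≤ e) (hn3 : 3 ≤ n) :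
    ¬ p ∣ Nat.card (QuotientGroup.mk' (center (SU n F q))).ker := by
  have hker : (QuotientGroup.mk' (center (SU n F q))).ker = center (SU n F q) := QuotientGroup.ker_mk' _
  have hnt : Nontrivial (Fin n → F) := by
    have : Nonempty (Fin n) := ⟨⟨0, by omega⟩⟩
    infer_instance
  rw [hker]
  apply not_dvd_of_scalar he h2 rhoSU_inj
  intro z hz
  obtain ⟨c, hcn, hcq, hzc⟩ := (LieClassical.SUBasic.mem_center_SU_iff hF hn3 z).1 hz
  refine ⟨c, ?_⟩
  apply LinearMap.ext
  intro v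
  rw [rhoSU_apply, hzc, LieClassical.SUBasic.coe_suScalar]
  simp

/-- `PSU₅(2)`. -/
theorem row_su_small {p : ℕ} [hp : Fact p.Prime] (hodd : p ≠ 2) (hF : Fintype.card F = 2 ^ 2)
    (hch : (p : F) ≠ 0) (he : ∀ k, p ∣ Fintype.card F ^ k - 1 → 5 ∣ k)
    (hpS : p ∣ Nat.card (PSU 5 F 2)) : FprRow (p + 1) 1 p (PSU 5 F 2) := by
  classical
  have hfin : Finite (SU 5 F 2) := inferInstance
  have hker : (QuotientGroup.mk' (center (SU 5 F 2))).ker = center (SU 5 F 2) := QuotientGroup.ker_mk' _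
  have hfr : finrank F (Fin 5 → F) = 5 := Module.finrank_fin_fun F
  have hpG : p ∣ Nat.card (SU 5 F 2) := hpS.trans (Subgroup.card_quotient_dvd_card _)
  have hpd : p ∣ Fintype.card F ^ 5 - 1 := by
    obtain ⟨x, hx⟩ := exists_prime_orderOf_dvd_card' p hpG
    have h : Sit (rhoSU 5 F 2) p 5 x := ⟨rhoSU_inj, hx, hp.out, hodd, hch, he, by rw [hfr]; norm_num⟩
    exact h.p_dvd
  have hN := Cfsg.Agent.S0280.result hF 5 (by norm_num)
  have hN' : Nat.card (PSU 5 F 2) = 13685760 := by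
    rw [Finset.prod_range_succ, Finset.prod_range_succ, Finset.prod_range_succ, Finset.prod_range_succ,
      Finset.prod_range_succ, Finset.prod_range_zero, if_pos (by decide : Even 0), if_neg (by decide : ¬ Even 1),
      if_pos (by decide : Even 2), if_neg (by decide : ¬ Even 3), if_pos (by decide : Even 4)] at hN
    obtain ⟨C, hC⟩ : ∃ C, Nat.card (PSU 5 F 2) = C := ⟨_, rfl⟩
    rw [hC] at hN ⊢
    norm_num at hN
    omega
  have hp11 : p = 11 := by
    rw [hF] at hpd he
    have h1 : p ∣ 3 * 11 * 31 := by norm_num at hpd ⊢; exact hpd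
    rcases (hp.out.dvd_mul.1 h1) with h2 | h2
    · rcases (hp.out.dvd_mul.1 h2) with h3 | h3
      · exfalso
        have := he 1 (by norm_num; exact h3)
        omega
      · exact (Nat.prime_dvd_prime_iff_eq hp.out (by norm_num)).1 h3
    · exfalso
      have h3 := (Nat.prime_dvd_prime_iff_eq hp.out (by norm_num)).1 h2
      rw [hN', h3] at hpS
      exact absurd hpS (by decide)
  subst hp11
  have hL := (Cfsg.Agent.S2151.result 2 hF (by norm_num) 5 (by norm_num) (by decide)).1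
  norm_num at hL
  refine row_of_chk (S := PSU 5 F 2) (F := F) (ρ := rhoSU 5 F 2) (p := 11) (e := 5) (c := 2 ^ 5 + 1) (L := 165)
    (N := 13685760) (M := 15) hodd rhoSU_inj hch he (by rw [hfr]; norm_num) hpG
    (QuotientGroup.mk' (center (SU 5 F 2))) (QuotientGroup.mk'_surjective _)
    (by rw [hker]) (su_ker hF he (by norm_num) (by norm_num))
    (fun x hx => su_cent hodd hF hch he (by norm_num) (Or.inl rfl) x hx) hL (by rw [hN']) ?_
    (by norm_num) (by decide +kernel)
  have h1 : 1 ≤ Nat.card (QuotientGroup.mk' (center (SU 5 F 2))).ker := Nat.card_pos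
  omega

/-- `PSU₄(2)`: there is no such prime. -/
theorem no_su_four {p : ℕ} [hp : Fact p.Prime] (hodd : p ≠ 2) (hF : Fintype.card F = 2 ^ 2)
    (hch : (p : F) ≠ 0) (he : ∀ k, p ∣ Fintype.card F ^ k - 1 → 3 ∣ k)
    (hpS : p ∣ Nat.card (PSU 4 F 2)) : False := by
  classical
  have hfin : Finite (SU 4 F 2) := inferInstance
  have hfr : finrank F (Fin 4 → F) = 4 := Module.finrank_fin_fun F
  have hpG : p ∣ Nat.card (SU 4 F 2) := hpS.trans (Subgroup.card_quotient_dvd_card _)
  have hpd : p ∣ Fintype.card F ^ 3 - 1 := by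
    obtain ⟨x, hx⟩ := exists_prime_orderOf_dvd_card' p hpG
    have h : Sit (rhoSU 4 F 2) p 3 x := ⟨rhoSU_inj, hx, hp.out, hodd, hch, he, by rw [hfr]; norm_num⟩
    exact h.p_dvd
  have hN := Cfsg.Agent.S0280.result hF 4 (by norm_num)
  have hN' : Nat.card (PSU 4 F 2) = 25920 := by
    rw [Finset.prod_range_succ, Finset.prod_range_succ, Finset.prod_range_succ, Finset.prod_range_succ,
      Finset.prod_range_zero, if_pos (by decide : Even 0), if_neg (by decide : ¬ Even 1),
      if_pos (by decide : Even 2), if_neg (by decide : ¬ Even 3)] at hN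
    obtain ⟨C, hC⟩ : ∃ C, Nat.card (PSU 4 F 2) = C := ⟨_, rfl⟩
    rw [hC] at hN ⊢
    norm_num at hN
    omega
  rw [hF] at hpd he
  have h1 : p ∣ 3 ^ 2 * 7 := by norm_num at hpd ⊢; exact hpd
  rcases (hp.out.dvd_mul.1 h1) with h2 | h2
  · have := he 1 (by norm_num; exact hp.out.dvd_of_dvd_pow h2)
    omega
  · have h3 := (Nat.prime_dvd_prime_iff_eq hp.out (by norm_num)).1 h2
    rw [hN', h3] at hpS
    exact absurd hpS (by decide)

/-- `Sp₆(2)`: there is no such prime. -/
theorem no_sp_six {p : ℕ} [hp : Fact p.Prime] (hodd : p ≠ 2) (hF : Fintype.card F = 2)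
    (hch : (p : F) ≠ 0) (he : ∀ k, p ∣ Fintype.card F ^ k - 1 → 2 * 3 ∣ k)
    (hpS : p ∣ Nat.card (PSp 3 F)) : False := by
  have hfr : finrank F (Fin 3 ⊕ Fin 3 → F) = 6 := by
    rw [Module.finrank_fintype_fun_eq_card, Fintype.card_sum, Fintype.card_fin]
  have hpG : p ∣ Nat.card (Matrix.symplecticGroup (Fin 3) F) := hpS.trans (Subgroup.card_quotient_dvd_card _)
  have hpd : p ∣ Fintype.card F ^ 6 - 1 := by
    obtain ⟨x, hx⟩ := exists_prime_orderOf_dvd_card' p hpG
    have h : Sit (rhoSp 3 F) p (2 * 3) x := ⟨rhoSp_inj, hx, hp.out, hodd, hch, he, by rw [hfr]; norm_num⟩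
    exact h.p_dvd
  rw [hF] at hpd he
  have h1 : p ∣ 3 ^ 2 * 7 := by norm_num at hpd ⊢; exact hpd
  rcases (hp.out.dvd_mul.1 h1) with h2 | h2
  · have := he 2 (by norm_num; exact hp.out.dvd_of_dvd_pow h2)
    omega
  · have := he 3 (by norm_num; exact h2)
    omega

/-- `Ω₈⁺(2)`: there is no such prime. -/
theorem no_plus_eight {p : ℕ} [hp : Fact p.Prime] (hodd : p ≠ 2) (hF : Fintype.card F = 2)
    (hch : (p : F) ≠ 0) (he : ∀ k, p ∣ Fintype.card F ^ k - 1 → 6 ∣ k)
    (hpS : p ∣ Nat.card (Cfsg.POmega F (Cfsg.quadFormPlus 4 F))) : False := by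
  have hC := Cfsg.Agent.H75.OrthIdx.plus_count (F := F) 4 le_rfl
  have hG := Cfsg.Agent.H75.OrthIdx.good_plusForm (F := F) 4 le_rfl
  rw [← coe_plusForm] at hpS
  have hpd := om_p_dvd hodd hG hch he (by rw [hC.finrank]; norm_num) hpS
  rw [hF] at hpd he
  have h1 : p ∣ 3 ^ 2 * 7 := by norm_num at hpd ⊢; exact hpd
  rcases (hp.out.dvd_mul.1 h1) with h2 | h2
  · have := he 2 (by norm_num; exact hp.out.dvd_of_dvd_pow h2)
    omega
  · have := he 3 (by norm_num; exact h2)
    omega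

/-- **Orthogonal groups of plus type over `F_3`.** -/
theorem row_plus_three {p m : ℕ} [hp : Fact p.Prime] (hodd : p ≠ 2) (hm : 4 ≤ m) (hF : Fintype.card F = 3)
    (hch : (p : F) ≠ 0) (he : ∀ k, p ∣ Fintype.card F ^ k - 1 → 2 * m - 2 ∣ k)
    (hpS : p ∣ Nat.card (Cfsg.POmega F (Cfsg.quadFormPlus m F))) :
    FprRow (p + 1) 1 p (Cfsg.POmega F (Cfsg.quadFormPlus m F)) := by
  have hC := Cfsg.Agent.H75.OrthIdx.plus_count (F := F) m hm
  have hG := Cfsg.Agent.H75.OrthIdx.good_plusForm (F := F) m hm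
  have hcent : ∀ x : E (plusForm m F), Sit (rhoE (plusForm m F)) p (2 * m - 2) x →
      Nat.card (centralizer ({x} : Set (E (plusForm m F)))) ≤ (3 ^ (m - 1) + 1) * 2 := fun x hx =>
    E_cent_two_three hF hG hx (by rw [hC.finrank]; omega) (by rw [hF, ← pow_mul]; congr 1; omega)
  rcases Nat.lt_or_ge m 5 with h5 | h5
  · have hm4 : m = 4 := by omega
    subst hm4
    have hs := Cfsg.Agent.S0296.result (F := F) 4 le_rfl
    have hN := Cfsg.Agent.S0293.result hF 4 le_rfl
    have hL : ∀ H : Subgroup (Cfsg.POmega F (Cfsg.quadFormPlus 4 F)), H ≠ ⊤ → 486 ≤ H.index := by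
      intro H hH
      have h1 := Cfsg.Agent.H934.HeisD4.four_le hs H hH
      rw [hF] at h1
      by_contra hcon
      push Not at hcon
      have h2 : H.index ^ 2 ≤ 485 ^ 2 := Nat.pow_le_pow_left (by omega) 2
      norm_num at h1 h2
      omega
    have hN' : Nat.card (Cfsg.POmega F (Cfsg.quadFormPlus 4 F)) = 4952179814400 := by
      norm_num [Finset.prod_range_succ] at hN
      omega
    rw [← coe_plusForm] at hL hN' hpS ⊢
    have hpd := om_p_dvd hodd hG hch he (by rw [hC.finrank]; norm_num) hpS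
    have hp7 : p = 7 := by
      rw [hF] at hpd he
      have h1 : p ∣ 2 ^ 3 * 7 * 13 := by norm_num at hpd ⊢; exact hpd
      rcases (hp.out.dvd_mul.1 h1) with h2 | h2
      · rcases (hp.out.dvd_mul.1 h2) with h3 | h3
        · exact absurd ((Nat.prime_dvd_prime_iff_eq hp.out Nat.prime_two).1 (hp.out.dvd_of_dvd_pow h3)) hodd
        · exact (Nat.prime_dvd_prime_iff_eq hp.out (by norm_num)).1 h3
      · exfalso
        have := he 3 (by norm_num; exact h2.trans (by norm_num))
        omega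
    subst hp7
    exact row_om_chk (p := 7) (L := 486) (N := 4952179814400) (M := 48) hodd hG hch he
      (by rw [hC.finrank]; norm_num) hpS hcent hL (by rw [hN']) (by norm_num) (by norm_num) (by decide +kernel)
  · have hL : ∀ H : Subgroup (Cfsg.POmega F (Cfsg.quadFormPlus m F)), H ≠ ⊤ →
        3 ^ (m - 2) * (3 ^ (m - 1) - 1) ≤ H.index := by
      rw [← coe_plusForm]
      refine Cfsg.Agent.H75.OrthIdx.lower_transfer hG ?_
      intro H _ hne
      exact plus_idx_three hG hC (by rw [Nat.card_eq_fintype_card, hF]) hne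
    rw [← coe_plusForm] at hL hpS ⊢
    refine row_om hodd hG hch he (by rw [hC.finrank]; omega) hpS hcent hL ?_
    obtain ⟨k, rfl⟩ : ∃ k, m = 5 + k := ⟨m - 5, by omega⟩
    have h := geom_le (Q := 3) (a := 13) (b := 3) (by norm_num) (by norm_num) k 4 (by norm_num)
    rw [show 5 + k - 2 = 3 + k by omega, show 5 + k - 1 = 3 + k + 1 by omega,
      show 2 * (5 + k) - 2 + 1 = 9 + 2 * k by omega, pow_succ]
    obtain ⟨X, hX⟩ : ∃ X, 3 ^ (3 + k) = X := ⟨_, rfl⟩
    rw [hX] at h ⊢
    have hX27 : 27 ≤ X := by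
      rw [← hX]
      calc 27 = 3 ^ 3 := by norm_num
        _ ≤ _ := Nat.pow_le_pow_right (by norm_num) (by omega)
    norm_num at h
    obtain ⟨Y, hY⟩ : ∃ Y, X = Y + 1 := ⟨X - 1, by omega⟩
    subst hY
    rw [Nat.add_sub_cancel] at h
    have e1 : (Y + 1) * 3 - 1 = 3 * Y + 2 := by omega
    rw [e1]
    have h7 : 2 * (9 + 2 * k) + 8 ≤ Y := by omega
    nlinarith

end special

end Cfsg.Agent.H409.Cyc
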