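import Cfsg.Agent.H441.FPR.Row2
import Cfsg.Agent.H448.FprExc.Direct
import Cfsg.Agent.H448.FprExc.RowD4
import Cfsg.Agent.H448.FprExc.TorC
import Cfsg.Agent.H448.FprExc.TorB
import Cfsg.Agent.H448.FprExc.Tor
import Cfsg.Agent.H448.FprExc.RowCyc
import Cfsg.Agent.H448.FprExc.RowG2B
import Cfsg.Agent.H435.Fpr.ExcThree
import Cfsg.Agent.H400.FprChevRowsE
import Cfsg.Agent.H398.FPR.FamEOne
import Cfsg.Agent.H441.FPR.SharpE
import Cfsg.Agent.H441.FPR.GrowC
import Cfsg.Agent.H441.FPR.GrowD
import Cfsg.Agent.H452.FprExcM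
import Cfsg.Agent.H452.FprExcN
import Cfsg.Agent.S1055

/-!
# Exceptional groups: the rows of S3578 (untwisted types)
-/

set_option autoImplicit false
set_option linter.unusedSectionVars false

universe u

namespace Cfsg.Agent.H409.Exc

open Cfsg Cfsg.Lie
open Cfsg.Agent.H441.FPR
open Cfsg.Agent.H398.FPR (UGood row_of_uGood' pow_two_le)

/-- Mersenne primes -/
theorem mers {r p t : ℕ} (hr : r.Prime) (hp : p.Prime) (hodd : p ≠ 2) (h : r ^ t = p + 1) :
    r = 2 ∧ t.Prime := by
  have h2 : 2 ∣ r ^ t := by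
    rw [h]
    rcases hp.eq_two_or_odd with h1 | h1
    · exact absurd h1 hodd
    · omega
  have hr2 : r = 2 := ((Nat.prime_dvd_prime_iff_eq Nat.prime_two hr).1 (Nat.prime_two.dvd_of_dvd_pow h2)).symm
  subst hr2
  refine ⟨rfl, ?_⟩
  have h3 : 2 ^ t - 1 = p := by omega
  have ht1 : t ≠ 1 := by
    rintro rfl
    have := hp.two_le
    omega
  have h4 : (2 ^ t - 1).Prime := by rw [h3]; exact hp
  exact (Nat.prime_of_pow_sub_one_prime ht1 h4).2

theorem ord_mers {p t f : ℕ} (h : 2 ^ t = p + 1) (ht : t.Prime) :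
    orderOf ((2 ^ f : ℕ) : ZMod p) = 1 ∨ orderOf ((2 ^ f : ℕ) : ZMod p) = t := by
  apply (Nat.dvd_prime ht).1
  rw [orderOf_dvd_iff_pow_eq_one]
  have h1 : (((2 ^ f : ℕ) : ZMod p)) ^ t = ((2 ^ t : ℕ) : ZMod p) ^ f := by
    push_cast
    rw [← pow_mul, ← pow_mul, mul_comm]
  rw [h1, h]
  push_cast
  rw [CharP.cast_eq_zero, zero_add, one_pow]

section core

variable {K : Type u} [Field K] [Fintype K]

theorem two_pow_card [CharP K 2] : ∃ f : ℕ, f ≠ 0 ∧ Fintype.card K = 2 ^ f := by
  have : Fact (Nat.Prime 2) := ⟨Nat.prime_two⟩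
  obtain ⟨n, -, hn⟩ := FiniteField.card K 2
  exact ⟨n, n.pos.ne', hn⟩

theorem core {G : Type*} [Group G] [Finite G] {r0 : ℕ} [hr0 : Fact r0.Prime] [CharP K r0] {p : ℕ} (hp : p.Prime)
    (hp2 : p ≠ 2) (tr : TR r0 p G)
    (one : CharP K 2 → orderOf (Fintype.card K : ZMod p) = 1 → FprRow (p + 1) 1 p G)
    (mer : ∀ t : ℕ, t.Prime → CharP K 2 → 2 ^ t = p + 1 → orderOf (Fintype.card K : ZMod p) = t →
      FprRow (p + 1) 1 p G) : FprRow (p + 1) 1 p G := by
  by_cases h : ∀ t : ℕ, r0 ^ t ≠ p + 1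
  · exact tr.row' hp hr0.out h
  · push Not at h
    obtain ⟨t, ht⟩ := h
    obtain ⟨rfl, htp⟩ := mers hr0.out hp hp2 ht
    obtain ⟨f, -, hf⟩ := two_pow_card (K := K)
    have h1 := ord_mers (f := f) ht htp
    rw [← hf] at h1
    rcases h1 with h1 | h1
    · exact one inferInstance h1
    · exact mer t htp inferInstance ht h1

theorem row_of_one {G : Type*} [Group G] [CharP K 2] {p : ℕ} (hp : p.Prime)
    (h : p ∣ Nat.card K - 1 → ∃ x : G, x ^ p = 1 ∧ ∀ M' : ℕ, (∀ t : ℕ, t ≠ 0 → 2 ^ t ≡ 1 [MOD p] → M' ≤ 2 ^ t) →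
      M' ≤ Nat.card K → UGood 1 M' x) (ho : orderOf (Fintype.card K : ZMod p) = 1) :
    FprRow (p + 1) 1 p G := by
  obtain ⟨f, hf0, hf⟩ := two_pow_card (K := K)
  have h2 : 2 ≤ Fintype.card K := by rw [hf]; exact Nat.one_lt_two_pow hf0
  have h1 : p ∣ Fintype.card K ^ 1 - 1 := dvd_of_ord (by omega) (by rw [ho])
  rw [pow_one] at h1
  obtain ⟨x, hx, hx2⟩ := h (by rw [Nat.card_eq_fintype_card]; exact h1)
  refine row_of_uGood' hp ⟨x, hx, hx2 (p + 1) (fun t ht h => pow_two_le hp t ht h) ?_⟩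
  rw [Nat.card_eq_fintype_card]
  have := Nat.le_of_dvd (by omega) h1
  omega

/-- `p = 3`, `q = 2` or `q ≥ 8` -/
theorem three_split [CharP K 2] (ho : orderOf (Fintype.card K : ZMod 3) = 2) :
    Fintype.card K = 2 ∨ (8 ≤ Nat.card K ∧ 3 ∣ Nat.card K + 1) := by
  obtain ⟨f, hf0, hf⟩ := two_pow_card (K := K)
  have hdvd : 3 ∣ Fintype.card K + 1 := by
    have hq : (((Fintype.card K : ℕ) : ZMod 3)) ^ 2 = 1 := by rw [← ho, pow_orderOf_eq_one]
    have hq1 : ((Fintype.card K : ℕ) : ZMod 3) ≠ 1 := by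
      intro h
      rw [h, orderOf_one] at ho
      omega
    have h3 : ((Fintype.card K + 1 : ℕ) : ZMod 3) = 0 := by
      push_cast
      have : ∀ a : ZMod 3, a ^ 2 = 1 → a ≠ 1 → a + 1 = 0 := by decide
      exact this _ hq hq1
    exact (ZMod.natCast_eq_zero_iff _ _).1 h3
  have h1 : f = 1 ∨ f = 2 ∨ 3 ≤ f := by omega
  rcases h1 with h1 | h1 | h1
  · left; rw [hf, h1]
    norm_num
  · exfalso
    rw [hf, h1] at hdvd
    norm_num at hdvd
  · right
    rw [Nat.card_eq_fintype_card]
    refine ⟨?_, hdvd⟩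
    rw [hf]
    calc 8 = 2 ^ 3 := by norm_num
      _ ≤ 2 ^ f := Nat.pow_le_pow_right (by norm_num) h1

theorem mers_two {p : ℕ} (h : 2 ^ 2 = p + 1) : p = 3 := by omega
theorem mers_three {p : ℕ} (h : 2 ^ 3 = p + 1) : p = 7 := by omega
theorem mers_five {p : ℕ} (h : 2 ^ 5 = p + 1) : p = 31 := by omega
theorem mers_seven {p : ℕ} (h : 2 ^ 7 = p + 1) : p = 127 := by omega

end core

section rows

variable {K : Type u} [Field K] [Fintype K] {p : ℕ} (hp : p.Prime) (hp2 : p ≠ 2) (hpK : (p : K) ≠ 0)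

include hp hp2 hpK

/-- **`G₂(q)`, `q ≥ 3`: all primes.** -/
theorem g2 (h3 : 3 ≤ Fintype.card K) (hd : p ∣ Nat.card ↥(chevG2.group K)) :
    FprRow (p + 1) 1 p ↥(chevG2.group K) := by
  have : Fact p.Prime := ⟨hp⟩
  obtain ⟨r0, hr0⟩ := CharP.exists K
  have : Fact r0.Prime := ⟨CharP.char_is_prime K r0⟩
  have hex : ∃ a : K, a ≠ 0 ∧ a ≠ 1 := by
    classical
    by_contra hcon
    push Not at hcon
    have h5 : (Finset.univ : Finset K) ⊆ {0, 1} := by
      intro x _
      by_cases hx : x = 0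
      · simp [hx]
      · simp [hcon x hx]
    have h6 := Finset.card_le_card h5
    rw [Finset.card_univ] at h6
    have h7 : ({0, 1} : Finset K).card ≤ 2 := Finset.card_le_two
    omega
  have hs : IsSimpleGroup ↥(chevG2.group K) := (Cfsg.Agent.S1055.result hex).1
  have hfin : Finite ↥(chevG2.group K) := inferInstance
  have ho := g2_ord hp hpK hd
  by_cases h12 : orderOf (Fintype.card K : ZMod p) ∈ [1, 2]
  · refine core (K := K) (r0 := r0) hp hp2 (g2_tr hp hpK h3 h12) ?_ ?_
    · intro hc h1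
      exact row_of_one (K := K) hp (fun h => Cfsg.Agent.H400.Fpr.Chev.one_G2 hs hp hp2 h) h1
    · intro t ht hc h2 h1
      simp only [List.mem_cons, List.not_mem_nil, or_false] at h12
      have ht2 : t = 2 := by
        have := ht.two_le
        omega
      subst ht2
      have hp3 := mers_two h2
      subst hp3
      rcases three_split (K := K) h1 with h | ⟨h8, h3'⟩
      · omega
      · exact Cfsg.Agent.H435.Fpr.Exc.three_G2 h8 h3'
  · simp only [List.mem_cons, List.not_mem_nil, or_false] at h12 ho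
    exact Cfsg.Agent.H448.FprExc.row_G2 h3 (by omega)

/-- **`F₄(q)`**, up to the rows `q = 2`, `p = 3` and `q` even, `p = 7` -/
theorem f4 (hA : Fintype.card K = 2 → FprRow (3 + 1) 1 3 ↥(chevF4.group K))
    (hB : CharP K 2 → orderOf (Fintype.card K : ZMod 7) = 3 → FprRow (7 + 1) 1 7 ↥(chevF4.group K))
    (hd : p ∣ Nat.card ↥(chevF4.group K)) : FprRow (p + 1) 1 p ↥(chevF4.group K) := by
  have : Fact p.Prime := ⟨hp⟩
  obtain ⟨r0, hr0⟩ := CharP.exists K
  have : Fact r0.Prime := ⟨CharP.char_is_prime K r0⟩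
  have hs : IsSimpleGroup ↥(chevF4.group K) := (Cfsg.Agent.S1054.result chevF4 (by simp)).1
  have hfin : Finite ↥(chevF4.group K) := inferInstance
  have ho := f4_ord hp hpK hd
  by_cases h12 : orderOf (Fintype.card K : ZMod p) ∈ [1, 2, 3]
  · refine core (K := K) (r0 := r0) hp hp2 (f4_tr hp hpK h12) ?_ ?_
    · intro hc h1
      exact row_of_one (K := K) hp (fun h => Cfsg.Agent.H400.Fpr.Chev.one_F4 hs hp hp2 h) h1
    · intro t ht hc h2 h1
      simp only [List.mem_cons, List.not_mem_nil, or_false] at h12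
      have ht2 : t = 2 ∨ t = 3 := by
        have := ht.two_le
        omega
      rcases ht2 with rfl | rfl
      · have hp3 := mers_two h2
        subst hp3
        rcases three_split (K := K) h1 with h | ⟨h8, h3'⟩
        · exact hA h
        · exact Cfsg.Agent.H435.Fpr.Exc.three_F4 h8 h3'
      · have hp7 := mers_three h2
        subst hp7
        exact hB hc h1
  · simp only [List.mem_cons, List.not_mem_nil, or_false] at h12 ho
    by_cases h46 : orderOf (Fintype.card K : ZMod p) = 4 ∨ orderOf (Fintype.card K : ZMod p) = 6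
    · by_cases h2 : (2 : K) = 0
      · rcases h46 with h4 | h6
        · refine core (K := K) (r0 := r0) hp hp2 (f4_four h2 hp hpK h4) ?_ ?_
          · intro hc h1
            omega
          · intro t ht hc h3 h1
            exfalso
            rw [h4] at h1
            rw [← h1] at ht
            norm_num at ht
        · exact Heis.f4_six_even hp hpK h2 h6
      · exact Heis.f4_heis hp hpK h2 h46
    · apply Cfsg.Agent.H448.FprExc.row_F4 hd
      simp only [List.mem_cons, List.not_mem_nil, or_false]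
      omega

/-- **`E₆(q)`: all primes.** -/
theorem e6 (hd : p ∣ Nat.card ↥(chevE6.group K)) : FprRow (p + 1) 1 p ↥(chevE6.group K) := by
  have : Fact p.Prime := ⟨hp⟩
  obtain ⟨r0, hr0⟩ := CharP.exists K
  have : Fact r0.Prime := ⟨CharP.char_is_prime K r0⟩
  have hs : IsSimpleGroup ↥(chevE6.group K) := (Cfsg.Agent.S1054.result chevE6 (by simp)).1
  have hfin : Finite ↥(chevE6.group K) := inferInstance
  have ho := e6_ord hp hpK hd
  by_cases h12 : orderOf (Fintype.card K : ZMod p) ∈ [1, 2, 3, 4] ∨ orderOf (Fintype.card K : ZMod p) = 5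
  · have tr : TR r0 p ↥(chevE6.group K) := by
      rcases h12 with h | h
      · exact e6_tr hp hpK h
      · exact e6_five hp hpK h
    refine core (K := K) (r0 := r0) hp hp2 tr ?_ ?_
    · intro hc h1
      exact row_of_one (K := K) hp (fun h => Cfsg.Agent.H400.Fpr.Chev.one_E6 hs hp hp2 h) h1
    · intro t ht hc h2 h1
      simp only [List.mem_cons, List.not_mem_nil, or_false] at h12
      have ht2 : t = 2 ∨ t = 3 ∨ t = 4 ∨ t = 5 := by
        have := ht.two_le
        omega
      rcases ht2 with rfl | rfl | rfl | rfl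
      · have hp3 := mers_two h2
        subst hp3
        exact Cfsg.Agent.H452.HeisC.row_E6_three K
      · have hp7 := mers_three h2
        subst hp7
        exact Cfsg.Agent.H452.HeisC.row_E6_seven K
      · exact absurd ht (by norm_num)
      · have hp31 := mers_five h2
        subst hp31
        exact Cfsg.Agent.H452.HeisC.row_E6_thirtyone K
  · simp only [List.mem_cons, List.not_mem_nil, or_false] at h12 ho
    have h2 : orderOf (Fintype.card K : ZMod p) = 6 ∨ orderOf (Fintype.card K : ZMod p) = 8 ∨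
      orderOf (Fintype.card K : ZMod p) = 9 ∨ orderOf (Fintype.card K : ZMod p) = 12 := by omega
    rcases h2 with h2 | h2 | h2 | h2
    · exact Heis.e6_six hp hpK h2
    · exact Cfsg.Agent.H448.FprExc.row_E6_eight h2
    · exact Cfsg.Agent.H448.FprExc.row_E6_nine h2
    · exact Cfsg.Agent.H448.FprExc.row_E6_twelve h2

/-- **`E₇(q)`: all primes.** -/
theorem e7 (hd : p ∣ Nat.card ↥(chevE7.group K)) : FprRow (p + 1) 1 p ↥(chevE7.group K) := by
  have : Fact p.Prime := ⟨hp⟩
  obtain ⟨r0, hr0⟩ := CharP.exists K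
  have : Fact r0.Prime := ⟨CharP.char_is_prime K r0⟩
  have hs : IsSimpleGroup ↥(chevE7.group K) := (Cfsg.Agent.S1054.result chevE7 (by simp)).1
  have hfin : Finite ↥(chevE7.group K) := inferInstance
  have ho := e7_ord hp hpK hd
  by_cases h12 : orderOf (Fintype.card K : ZMod p) ∈ [1, 2, 3, 4, 6] ∨ orderOf (Fintype.card K : ZMod p) = 5
  · have tr : TR r0 p ↥(chevE7.group K) := by
      rcases h12 with h | h
      · exact e7_tr hp hpK h
      · exact e7_five hp hpK h
    refine core (K := K) (r0 := r0) hp hp2 tr ?_ ?_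
    · intro hc h1
      exact row_of_one (K := K) hp (fun h => Cfsg.Agent.H400.Fpr.Chev.one_E7 hs hp hp2 h) h1
    · intro t ht hc h2 h1
      simp only [List.mem_cons, List.not_mem_nil, or_false] at h12
      have ht2 : t = 2 ∨ t = 3 ∨ t = 4 ∨ t = 5 ∨ t = 6 := by
        have := ht.two_le
        omega
      rcases ht2 with rfl | rfl | rfl | rfl | rfl
      · have hp3 := mers_two h2
        subst hp3
        exact Cfsg.Agent.H452.HeisC.row_E7_three K
      · have hp7 := mers_three h2
        subst hp7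
        exact Cfsg.Agent.H452.HeisC.row_E7_seven K
      · exact absurd ht (by norm_num)
      · have hp31 := mers_five h2
        subst hp31
        exact Cfsg.Agent.H452.HeisC.row_E7_thirtyone K
      · exact absurd ht (by norm_num)
  · simp only [List.mem_cons, List.not_mem_nil, or_false] at h12 ho
    have h2 : orderOf (Fintype.card K : ZMod p) = 7 ∨
      orderOf (Fintype.card K : ZMod p) = 8 ∨ orderOf (Fintype.card K : ZMod p) = 9 ∨
      orderOf (Fintype.card K : ZMod p) = 10 ∨ orderOf (Fintype.card K : ZMod p) = 12 ∨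
      orderOf (Fintype.card K : ZMod p) = 14 ∨ orderOf (Fintype.card K : ZMod p) = 18 := by omega
    rcases h2 with h2 | h2 | h2 | h2 | h2 | h2 | h2
    · exact Cfsg.Agent.H448.FprExc.row_E7_seven h2
    · exact Bit.e7_all hp hpK (Or.inl h2)
    · exact Cfsg.Agent.H448.FprExc.row_E7_nine h2
    · exact Bit.e7_all hp hpK (Or.inr h2)
    · exact Grow.e7_twelve hp h2
    · exact Cfsg.Agent.H448.FprExc.row_E7 (by rw [h2]; simp)
    · exact Cfsg.Agent.H448.FprExc.row_E7 (by rw [h2]; simp)

/-- **`E₈(q)`: all primes.** -/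
theorem e8 (hd : p ∣ Nat.card ↥(chevE8.group K)) : FprRow (p + 1) 1 p ↥(chevE8.group K) := by
  have : Fact p.Prime := ⟨hp⟩
  obtain ⟨r0, hr0⟩ := CharP.exists K
  have : Fact r0.Prime := ⟨CharP.char_is_prime K r0⟩
  have hs : IsSimpleGroup ↥(chevE8.group K) := (Cfsg.Agent.S1054.result chevE8 (by simp)).1
  have hfin : Finite ↥(chevE8.group K) := inferInstance
  have ho := e8_ord hp hpK hd
  by_cases h12 : orderOf (Fintype.card K : ZMod p) ∈ [1, 2, 3, 4, 5, 6, 8] ∨ orderOf (Fintype.card K : ZMod p) = 7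
  · have tr : TR r0 p ↥(chevE8.group K) := by
      rcases h12 with h | h
      · exact e8_tr hp hpK h
      · exact e8_seven hp hpK h
    refine core (K := K) (r0 := r0) hp hp2 tr ?_ ?_
    · intro hc h1
      exact row_of_one (K := K) hp (fun h => Cfsg.Agent.H400.Fpr.Chev.one_E8 hs hp hp2 h) h1
    · intro t ht hc h2 h1
      simp only [List.mem_cons, List.not_mem_nil, or_false] at h12
      have ht2 : t = 2 ∨ t = 3 ∨ t = 4 ∨ t = 5 ∨ t = 6 ∨ t = 7 ∨ t = 8 := by
        have := ht.two_le
        omega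
      rcases ht2 with rfl | rfl | rfl | rfl | rfl | rfl | rfl
      · have hp3 := mers_two h2
        subst hp3
        exact Cfsg.Agent.H452.HeisC.row_E8_three K
      · have hp7 := mers_three h2
        subst hp7
        exact Cfsg.Agent.H452.HeisC.row_E8_seven K
      · exact absurd ht (by norm_num)
      · have hp31 := mers_five h2
        subst hp31
        exact Cfsg.Agent.H452.HeisC.row_E8_thirtyone K
      · exact absurd ht (by norm_num)
      · have hp127 := mers_seven h2
        subst hp127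
        exact Cfsg.Agent.H452.HeisC.row_E8_127 K
      · exact absurd ht (by norm_num)
  · simp only [List.mem_cons, List.not_mem_nil, or_false] at h12 ho
    have h2 : orderOf (Fintype.card K : ZMod p) = 9 ∨
      orderOf (Fintype.card K : ZMod p) ∈ [10, 12, 14, 18] ∨
      orderOf (Fintype.card K : ZMod p) ∈ [15, 20, 24, 30] := by
      simp only [List.mem_cons, List.not_mem_nil, or_false]
      omega
    rcases h2 with h2 | h2 | h2
    · exact Grow.e8_nine_all hp hpK h2
    · exact Bit.e8_all hp hpK h2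
    · exact Cfsg.Agent.H448.FprExc.row_E8 hd h2

end rows

end Cfsg.Agent.H409.Exc
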