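import Cfsg.Agent.H409.FprPsl2
import Cfsg.Agent.H396.CommTab4
import Cfsg.Agent.H396.ParSp2
import Cfsg.Agent.H396.ParF4
import Cfsg.Agent.H187.TwF4Par
import Cfsg.Agent.H716.SplitAb

/-!
# Fixed point ratios of p-elements: groups of Lie type of characteristic `p`
-/

set_option autoImplicit false

universe u

namespace Cfsg.Agent.H409

open Cfsg

/-- Ratio `1 / (p + 1)` for groups of Lie type of characteristic `p`, given the case `G₂(3)`. -/
theorem FprRow.of_lie_of_G2 {p : ℕ} (hp : p.Prime) {G : Type u} [Group G] [Finite G] [IsSimpleGroup G]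
    (h : IsLieTypeChar p G)
    (hG2 : p = 3 → ∀ (F : Type) [Field F] [Fintype F], Fintype.card F = 3 → Nonempty (G ≃* Lie.chevG2.group F) →
      FprRow (3 + 1) 1 3 G) : FprRow (p + 1) 1 p G := by
  have hpf : Fact p.Prime := ⟨hp⟩
  have hs := Cfsg.Agent.H716.SplitAb.hasSplitAb_of_lie hp h
  have hpar : H396.Par p G → FprRow (p + 1) 1 p G := fun hP =>
    Own.row_of_par hs (fun H hH hi => (hP.of_isCoatom hH hi).1)
  rcases Cfsg.Agent.H396.CommTab.table h with h1 | h1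
  · exact hpar h1.par
  · rcases h1 with ⟨F, i1, i2, i3, -, ⟨e⟩⟩ | ⟨F, i1, i2, i3, q, hF, hq, ⟨e⟩⟩ | ⟨rfl, h2⟩ | ⟨rfl, h2⟩ | ⟨rfl, h2⟩ |
      ⟨rfl, F, i1, i2, m, hF, hm, ⟨e⟩⟩ | ⟨rfl, F, i1, i2, hF, h2⟩ | ⟨rfl, F, i1, i2, hF, ⟨e⟩⟩
    · exact TI.row_psl2 hs e
    · exact TI.row_psu3 hF hq e
    · exact TI.row_sz h2
    · exact TI.row_ree h2
    · exact hpar (H187.par_2F4 h2)
    · have : CharP F 2 := charP_of_card_eq_prime hF
      exact hpar ((H396.ParSp2.par_PSp (F := F) (p := 2) hm).of_equiv e.symm)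
    · exact hG2 rfl F hF h2
    · have : CharP F 2 := charP_of_card_eq_prime hF
      exact hpar ((H396.ParF4.par_F4 (K := F) 2).of_equiv e.symm)

end Cfsg.Agent.H409
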