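import Cfsg.Agent.H409.FprTIRows
import Cfsg.Agent.H409.FprOwn
import Cfsg.Agent.H210.Loc.TI
import Cfsg.Agent.H436.TTPsl2
import Cfsg.Agent.H394.SqPsl2
import Cfsg.Agent.S0799

/-!
# Fixed point ratios of p-elements: `PSL₂(q)` in own characteristic
-/

set_option autoImplicit false

namespace Cfsg.Agent.H409.TI

open MulAction Subgroup Cfsg
open scoped Pointwise

/-- The Sylow subgroups of `H` in the exceptional case of `ti_row`. -/
theorem sylow_of_hall {S : Type*} [Group S] [Finite S] {p : ℕ} [hp : Fact p.Prime]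
    (hTI : ∀ P Q : Sylow p S, P ≠ Q → (P : Subgroup S) ⊓ Q = ⊥)
    {Q : ℕ} (hQp : Q ≠ p) (hcount : Nat.card (Sylow p S) = 1 + Q) (H : Subgroup S)
    (hall : ∀ P : Sylow p S, p * Nat.card (H ⊓ (P : Subgroup S) : Subgroup S) = Q) :
    (∀ R : Sylow p H, p * Nat.card R = Q) ∧ Nat.card (Sylow p H) = 1 + Q := by
  classical
  have hcard : ∀ P : Sylow p S, Nat.card ((P : Subgroup S).subgroupOf H) =
      Nat.card (H ⊓ (P : Subgroup S) : Subgroup S) := by
    intro P
    rw [inf_comm, ← Subgroup.subgroupOf_map_subtype]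
    exact (Nat.card_congr (((P : Subgroup S).subgroupOf H).equivMapOfInjective _
      (Subgroup.subtype_injective _)).toEquiv)
  have h1 : ∀ R : Sylow p H, p * Nat.card R = Q := by
    intro R
    obtain ⟨P, hP⟩ := R.exists_comap_subtype_eq
    have hP' : (P : Subgroup S).subgroupOf H = R := hP
    have h2 := hcard P
    rw [hP'] at h2
    rw [← hall P, ← h2]
  refine ⟨h1, ?_⟩
  have h2 : ∀ P : Sylow p S, ∃ R : Sylow p H, (R : Subgroup H) = (P : Subgroup S).subgroupOf H := by
    intro P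
    have h3 : IsPGroup p ((P : Subgroup S).subgroupOf H) := P.isPGroup'.comap_subtype
    obtain ⟨R, hR⟩ := h3.exists_le_sylow
    refine ⟨R, (Subgroup.eq_of_le_of_card_ge hR ?_).symm⟩
    have h4 := h1 R
    rw [← hall P, ← hcard P] at h4
    exact (Nat.eq_of_mul_eq_mul_left hp.out.pos h4).le
  choose f hf using h2
  have hinj : Function.Injective f := by
    intro P P' hPP
    by_contra hne
    have h3 : (P : Subgroup S).subgroupOf H = (P' : Subgroup S).subgroupOf H := by
      rw [← hf P, ← hf P', hPP]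
    have h4 : H ⊓ (P : Subgroup S) = ⊥ := by
      rw [eq_bot_iff, ← hTI P P' hne]
      intro x hx
      refine ⟨hx.2, ?_⟩
      have h5 : (⟨x, hx.1⟩ : H) ∈ (P : Subgroup S).subgroupOf H := hx.2
      rw [h3] at h5
      exact h5
    have h5 := hall P
    rw [h4, Subgroup.card_bot, mul_one] at h5
    exact hQp h5.symm
  have hsurj : Function.Surjective f := by
    intro R
    obtain ⟨P, hP⟩ := R.exists_comap_subtype_eq
    refine ⟨P, Sylow.ext ?_⟩
    rw [hf P]
    exact hP
  rw [← hcount]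
  exact (Nat.card_congr (Equiv.ofBijective f ⟨hinj, hsurj⟩)).symm

theorem part_eq {p : ℕ} (hp : p.Prime) {k b x d h : ℕ} (hk : k = p ^ b) (hx : ¬ p ∣ x)
    (hd : ¬ p ∣ d) (he : k * x = d * h) (hh : h ≠ 0) : k = p ^ h.factorization p := by
  have hx0 : x ≠ 0 := fun h0 => hx (h0 ▸ dvd_zero p)
  have hd0 : d ≠ 0 := fun h0 => hd (h0 ▸ dvd_zero p)
  have hk0 : k ≠ 0 := by rw [hk]; exact pow_ne_zero _ hp.ne_zero
  have h1 := congrArg (fun n => Nat.factorization n p) he
  simp only [Nat.factorization_mul hk0 hx0, Nat.factorization_mul hd0 hh, Finsupp.add_apply,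
    Nat.factorization_eq_zero_of_not_dvd hx, Nat.factorization_eq_zero_of_not_dvd hd] at h1
  rw [zero_add, add_zero] at h1
  rw [← h1]
  conv_lhs => rw [hk]
  rw [hk, hp.factorization_pow, Finsupp.single_eq_same]

theorem hex_psl2 {F : Type*} [Field F] [Fintype F] {p : ℕ} [hp : Fact p.Prime] [CharP F p]
    {q : ℕ} (hq : Fintype.card F = q) (h3 : p ^ 3 ∣ q)
    (H : Subgroup (Matrix.ProjectiveSpecialLinearGroup (Fin 2) F))
    (hall : ∀ P : Sylow p (Matrix.ProjectiveSpecialLinearGroup (Fin 2) F),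
      p * Nat.card (H ⊓ (P : Subgroup (Matrix.ProjectiveSpecialLinearGroup (Fin 2) F)) :
        Subgroup (Matrix.ProjectiveSpecialLinearGroup (Fin 2) F)) = q)
    (hcount : Nat.card (Sylow p (Matrix.ProjectiveSpecialLinearGroup (Fin 2) F)) = 1 + q) : False := by
  classical
  have : Finite (Matrix.ProjectiveSpecialLinearGroup (Fin 2) F) := Quotient.finite _
  have hp2 := hp.out.two_le
  have hq1 : 1 < q := hq ▸ Fintype.one_lt_card
  have hpq : p ∣ q := (dvd_pow_self p (by norm_num)).trans h3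
  have hple : p ^ 3 ≤ q := Nat.le_of_dvd (by omega) h3
  have h8 : 8 ≤ q := by
    calc 8 = 2 ^ 3 := by norm_num
      _ ≤ p ^ 3 := Nat.pow_le_pow_left hp2 3
      _ ≤ q := hple
  have hqp : q ≠ p := by
    intro h
    have h1 : p ^ 1 < p ^ 3 := Nat.pow_lt_pow_right hp.out.one_lt (by norm_num)
    rw [pow_one] at h1
    omega
  obtain ⟨hR, hc⟩ := sylow_of_hall H210.Loc.ti_psl2 hqp hcount H hall
  obtain ⟨R⟩ : Nonempty (Sylow p H) := inferInstance
  obtain ⟨r, hr⟩ : ∃ r, r = Nat.card R := ⟨_, rfl⟩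
  have hpr : p * r = q := by rw [hr]; exact hR R
  have hrH : r ∣ Nat.card H := by rw [hr]; exact Subgroup.card_subgroup_dvd_card _
  have hp2r : p ^ 2 ∣ r := by
    obtain ⟨t, ht⟩ := h3
    refine ⟨t, ?_⟩
    apply Nat.eq_of_mul_eq_mul_left hp.out.pos
    rw [hpr, ht]; ring
  have hqH : 1 + q ∣ Nat.card H := by
    rw [← hc]
    exact R.card_dvd_index.trans (Subgroup.index_dvd_card _)
  have hH0 : 0 < Nat.card H := Nat.card_pos
  have hp1 : ¬ p ∣ q + 1 := fun h => hp.out.one_lt.ne' (Nat.dvd_one.1 ((Nat.dvd_add_right hpq).1 h))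
  have hp1' : ¬ p ∣ q - 1 := by
    intro h
    have h5 : p ∣ q - (q - 1) := Nat.dvd_sub hpq h
    rw [Nat.sub_sub_self (by omega)] at h5
    exact hp.out.one_lt.ne' (Nat.dvd_one.1 h5)
  have hdvd12 : ∀ n : ℕ, 0 < n → n ≤ 60 → 12 ∣ n → Nat.card H = n → n = 12 ∨ n = 24 ∨ n = 60 → False := by
    intro n hn0 hn hn12 hHn hn3
    rw [hHn] at hqH
    have hqn : 1 + q ≤ n := Nat.le_of_dvd hn0 hqH
    have hp4 : p < 4 := by
      by_contra hcon
      have h1 : 4 ^ 3 ≤ p ^ 3 := Nat.pow_le_pow_left (by omega) 3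
      omega
    have hpp : p = 2 ∨ p = 3 := by omega
    obtain ⟨t, ht⟩ := h3
    rcases hpp with rfl | rfl
    · obtain ⟨s, hs⟩ := hqH
      rw [ht] at hs
      have ht8 : t < 8 := by omega
      have hs8 : s < 8 := by
        by_contra hcon
        have : (1 + 2 ^ 3 * t) * 8 ≤ (1 + 2 ^ 3 * t) * s := Nat.mul_le_mul_left _ (by omega)
        omega
      rcases hn3 with rfl | rfl | rfl <;> interval_cases t <;> omega
    · obtain ⟨s, hs⟩ := hqH
      rw [ht] at hs
      have ht8 : t < 3 := by omega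
      rcases hn3 with rfl | rfl | rfl <;> interval_cases t <;> omega
  rcases Cfsg.Agent.S0799.result hq p H with ⟨k, hk, h | h⟩ | ⟨P, K, hK, ⟨e⟩⟩ | ⟨⟨e⟩⟩ | ⟨⟨e⟩⟩ | ⟨⟨e⟩⟩ |
    ⟨K, iK1, iK2, m, hm, h⟩
  · -- cyclic
    have h1 : p ∣ k := by rw [← h.2]; exact ((dvd_pow_self p (by norm_num)).trans hp2r).trans hrH
    rcases hk with hk | hk
    · exact hp1 ((h1.trans hk).trans (Nat.div_dvd_of_dvd
        (by
          rcases Nat.even_or_odd q with hq2 | hq2
          · have : Nat.gcd 2 (q - 1) = 1 := by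
              rw [← Nat.coprime_iff_gcd_eq_one, Nat.coprime_two_left]
              exact Nat.Even.sub_odd (by omega) hq2 odd_one
            rw [this]; exact one_dvd _
          · exact (Nat.gcd_dvd_left _ _).trans (by
              have := hq2.add_odd odd_one
              exact this.two_dvd))))
    · exact hp1' ((h1.trans hk).trans (Nat.div_dvd_of_dvd (Nat.gcd_dvd_right _ _)))
  · -- dihedral
    obtain ⟨e⟩ := h
    have h0 : Nat.card H = 2 * k := by rw [Nat.card_congr e.toEquiv, DihedralGroup.nat_card]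
    have h1 : p ∣ k := by
      by_contra hcon
      have h2 : p ^ 2 ∣ 2 * k := by rw [← h0]; exact hp2r.trans hrH
      have h3 : Nat.Coprime (p ^ 2) k := ((Nat.Prime.coprime_iff_not_dvd hp.out).2 hcon).pow_left 2
      have h4 := Nat.le_of_dvd (by norm_num) (h3.dvd_of_dvd_mul_right h2)
      nlinarith
    rcases hk with hk | hk
    · exact hp1 ((h1.trans hk).trans (Nat.div_dvd_of_dvd
        (by
          rcases Nat.even_or_odd q with hq2 | hq2
          · have : Nat.gcd 2 (q - 1) = 1 := by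
              rw [← Nat.coprime_iff_gcd_eq_one, Nat.coprime_two_left]
              exact Nat.Even.sub_odd (by omega) hq2 odd_one
            rw [this]; exact one_dvd _
          · exact (Nat.gcd_dvd_left _ _).trans (by
              have := hq2.add_odd odd_one
              exact this.two_dvd))))
    · exact hp1' ((h1.trans hk).trans (Nat.div_dvd_of_dvd (Nat.gcd_dvd_right _ _)))
  · -- in a Borel subgroup
    have h1 : Nat.card H ∣ Nat.card (Subgroup.normalizer
        ((P : Subgroup (Matrix.ProjectiveSpecialLinearGroup (Fin 2) F)) :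
          Set (Matrix.ProjectiveSpecialLinearGroup (Fin 2) F))) := by
      rw [Nat.card_congr e.toEquiv]
      exact Subgroup.card_dvd_of_le hK
    have h2 := Subgroup.index_mul_card (Subgroup.normalizer
      ((P : Subgroup (Matrix.ProjectiveSpecialLinearGroup (Fin 2) F)) :
        Set (Matrix.ProjectiveSpecialLinearGroup (Fin 2) F)))
    rw [Cfsg.Agent.H436.TT.index_normalizer, hq] at h2
    have h4 := Cfsg.Agent.H394.SqPsl2.card_psl (F := F)
    rw [hq, ← h2, H394.SqPsl2.sub_mul_self (by omega)] at h4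
    set N := Nat.card (Subgroup.normalizer
      ((P : Subgroup (Matrix.ProjectiveSpecialLinearGroup (Fin 2) F)) :
        Set (Matrix.ProjectiveSpecialLinearGroup (Fin 2) F))) with hN
    have h5 : Nat.gcd 2 (q - 1) * N = q * (q - 1) := by
      apply Nat.eq_of_mul_eq_mul_left (show 0 < q + 1 by omega)
      calc (q + 1) * (Nat.gcd 2 (q - 1) * N) = Nat.gcd 2 (q - 1) * ((q + 1) * N) := by ring
        _ = q * ((q + 1) * (q - 1)) := h4
        _ = _ := by ring
    have h6 : 1 + q ∣ q * (q - 1) := by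
      rw [← h5]
      exact (hqH.trans h1).mul_left _
    have h7 : Nat.Coprime (1 + q) q := by
      rw [Nat.coprime_add_self_left]
      exact Nat.coprime_one_left _
    have h8' := Nat.le_of_dvd (by omega) (h7.dvd_of_dvd_mul_left h6)
    omega
  · exact hdvd12 12 (by norm_num) (by norm_num) (by norm_num) (by
      rw [Nat.card_congr e.toEquiv, Nat.card_eq_fintype_card]; decide) (Or.inl rfl)
  · exact hdvd12 24 (by norm_num) (by norm_num) (by norm_num) (by
      rw [Nat.card_congr e.toEquiv, Nat.card_eq_fintype_card, Fintype.card_perm, Fintype.card_fin]; decide)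
      (Or.inr (Or.inl rfl))
  · exact hdvd12 60 (by norm_num) (by norm_num) (by norm_num) (by
      rw [Nat.card_congr e.toEquiv, nat_card_alternatingGroup, Nat.card_eq_fintype_card,
        Fintype.card_fin]; decide)
      (Or.inr (Or.inr rfl))
  · -- subfield
    obtain ⟨k, hk⟩ : ∃ k, k = Fintype.card K := ⟨_, rfl⟩
    have hk1 : 1 < k := hk ▸ Fintype.one_lt_card
    rw [← hk] at hm
    obtain ⟨N, hpN, hN⟩ := FiniteField.card F p
    rw [hq] at hN
    have hm0 : m ≠ 0 := by rintro rfl; rw [pow_zero] at hm; omega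
    obtain ⟨b, -, hb⟩ := (Nat.dvd_prime_pow hp.out).1 (show k ∣ p ^ (N : ℕ) by
      rw [← hN, ← hm]; exact dvd_pow_self k hm0)
    have hb0 : b ≠ 0 := by rintro rfl; rw [pow_zero] at hb; omega
    have hpk : p ∣ k := by rw [hb]; exact dvd_pow_self p hb0
    have hpk1 : ¬ p ∣ k - 1 := by
      intro h
      have h5 : p ∣ k - (k - 1) := Nat.dvd_sub hpk h
      rw [Nat.sub_sub_self (by omega)] at h5
      exact hp.out.one_lt.ne' (Nat.dvd_one.1 h5)
    have hpk2 : ¬ p ∣ k ^ 2 - 1 := by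
      intro h
      have hk2 : 1 ≤ k ^ 2 := Nat.one_le_pow _ _ (by omega)
      have h5 : p ∣ k ^ 2 - (k ^ 2 - 1) := Nat.dvd_sub (hpk.trans (dvd_pow_self k (by norm_num))) h
      rw [Nat.sub_sub_self hk2] at h5
      exact hp.out.one_lt.ne' (Nat.dvd_one.1 h5)
    have hrp : r = p ^ (Nat.card H).factorization p := by rw [hr]; exact R.card_eq_multiplicity
    have hkr : k = r := by
      rw [hrp]
      rcases h with ⟨⟨e⟩⟩ | ⟨⟨e⟩⟩
      · have h4 := Cfsg.Agent.H394.SqPsl2.card_psl (F := K)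
        rw [← hk, ← Nat.card_congr e.toEquiv] at h4
        exact part_eq hp.out hb hpk2 (fun h => hpk1 (h.trans (Nat.gcd_dvd_right _ _))) h4.symm hH0.ne'
      · have h4 := Cfsg.Agent.H394.SqPsl2.card_pgl (F := K)
        rw [← hk, ← Nat.card_congr e.toEquiv] at h4
        exact part_eq hp.out hb hpk2 (fun h => hp.out.one_lt.ne' (Nat.dvd_one.1 h))
          (by rw [one_mul]; exact h4.symm) hH0.ne'
    have hk2 : p ^ 2 ≤ k := by rw [hkr]; exact Nat.le_of_dvd (by rw [← hkr]; omega) hp2r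
    have hm1 : m ≠ 1 := by
      rintro rfl
      rw [pow_one] at hm
      rw [← hpr, ← hkr] at hm
      nlinarith
    have h5 : k ^ 2 ≤ k ^ m := Nat.pow_le_pow_right (by omega) (by omega)
    rw [hm, ← hpr, ← hkr] at h5
    nlinarith

/-- **`PSL₂(q)`.** -/
theorem row_psl2 {T : Type*} [Group T] [Finite T] [IsSimpleGroup T] {F : Type*} [Field F] [Fintype F]
    {p : ℕ} [hp : Fact p.Prime] [CharP F p]
    (hs : Cfsg.Agent.Omega.ML.LieRow.CRB.HasSplitAb p T)
    (e : T ≃* Matrix.ProjectiveSpecialLinearGroup (Fin 2) F) :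
    FprRow (p + 1) 1 p T := by
  classical
  have hss : IsSimpleGroup (Matrix.ProjectiveSpecialLinearGroup (Fin 2) F) := Cfsg.Agent.H394.SqSzRee.simple_of_equiv e
  have hf : Finite (Matrix.ProjectiveSpecialLinearGroup (Fin 2) F) := Quotient.finite _
  obtain ⟨q, hq⟩ : ∃ q, Fintype.card F = q := ⟨_, rfl⟩
  obtain ⟨N, hpN, hN⟩ := FiniteField.card F p
  rw [hq] at hN
  have hq1 : 1 < q := hq ▸ Fintype.one_lt_card
  have hpq : p ∣ q := by rw [hN]; exact dvd_pow_self p N.2.ne'
  have hcard := H394.SqPsl2.card_psl (F := F)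
  rw [hq] at hcard
  have hd1 : ¬ p ∣ Nat.gcd 2 (q - 1) := by
    intro h
    have h5 : p ∣ q - (q - 1) := Nat.dvd_sub hpq (h.trans (Nat.gcd_dvd_right _ _))
    rw [Nat.sub_sub_self (by omega)] at h5
    exact hp.out.one_lt.ne' (Nat.dvd_one.1 h5)
  have hq2 : 1 ≤ q ^ 2 := Nat.one_le_pow _ _ (by omega)
  have hpq2 : ¬ p ∣ q ^ 2 - 1 := by
    intro h
    have h5 : p ∣ q ^ 2 - (q ^ 2 - 1) := Nat.dvd_sub (hpq.trans (dvd_pow_self q (by norm_num))) h
    rw [Nat.sub_sub_self hq2] at h5
    exact hp.out.one_lt.ne' (Nat.dvd_one.1 h5)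
  have hc0 : 0 < Nat.card (Matrix.ProjectiveSpecialLinearGroup (Fin 2) F) := Nat.card_pos
  have hqp := part_eq hp.out hN hpq2 hd1 hcard.symm hc0.ne'
  rcases Nat.lt_or_ge (N : ℕ) 3 with hN3 | hN3
  · apply Cfsg.Agent.H409.Own.row_of_small hs
    intro h3
    rw [Nat.card_congr e.toEquiv] at h3
    have h4 : p ^ 3 ∣ q * (q ^ 2 - 1) := by rw [← hcard]; exact h3.mul_left _
    have h5 : Nat.Coprime (p ^ 3) (q ^ 2 - 1) := ((Nat.Prime.coprime_iff_not_dvd hp.out).2 hpq2).pow_left 3
    have h6 := h5.dvd_of_dvd_mul_right h4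
    rw [hN] at h6
    exact absurd ((Nat.pow_dvd_pow_iff_le_right hp.out.one_lt).1 h6) (by omega)
  · refine FprRow.of_mulEquiv hp.out e.symm ?_
    have hQ : ∀ P : Sylow p (Matrix.ProjectiveSpecialLinearGroup (Fin 2) F), Nat.card P = q := by
      intro P
      rw [P.card_eq_multiplicity]
      exact hqp.symm
    have hcount : Nat.card (Sylow p (Matrix.ProjectiveSpecialLinearGroup (Fin 2) F)) = 1 + q := by
      obtain ⟨P⟩ : Nonempty (Sylow p (Matrix.ProjectiveSpecialLinearGroup (Fin 2) F)) := inferInstance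
      rw [P.card_eq_index_normalizer]
      have h1 := Cfsg.Agent.H436.TT.index_normalizer (F := F) p P
      rw [hq] at h1
      rw [add_comm]
      exact h1
    refine ti_row H210.Loc.ti_psl2 (by omega) hQ hcount ?_
    intro H _ hall
    exact hex_psl2 hq (by rw [hN]; exact pow_dvd_pow p hN3) H hall hcount

end Cfsg.Agent.H409.TI
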