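import Cfsg.Agent.H409.FprTI
import Cfsg.Agent.H394.SqSzRee
import Cfsg.Agent.H394.SqPsu3

/-!
# Fixed point ratios of p-elements: Suzuki, Ree and unitary groups of rank one in own characteristic
-/

set_option autoImplicit false

namespace Cfsg.Agent.H409.TI

open MulAction Subgroup Cfsg Cfsg.Agent.H394.SqTI Cfsg.Agent.H394.SqSzRee Cfsg.Agent.H394.SqPsu3
open scoped Pointwise

theorem card_sylow_of {S : Type*} [Group S] [Finite S] {p : ℕ} [hp : Fact p.Prime] {Q h k : ℕ}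
    (hQ : Q = p ^ k) (hk : k ≠ 0) (hord : Nat.card S = Q * ((Q + 1) * h)) (hph : ¬ p ∣ h)
    (P : Sylow p S) : Nat.card P = Q := by
  have hpQ : ¬ p ∣ Q + 1 := by
    intro h1
    have h2 : p ∣ Q := hQ ▸ dvd_pow_self p hk
    exact hp.out.one_lt.ne' (Nat.dvd_one.1 ((Nat.dvd_add_right h2).1 h1))
  have hh0 : 0 < h := Nat.pos_of_ne_zero (fun h0 => hph (h0 ▸ dvd_zero p))
  rw [P.card_eq_multiplicity, hord]
  have h2 : ¬ p ∣ (Q + 1) * h := fun h3 => (hp.out.dvd_mul.1 h3).elim hpQ hph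
  have hQ0 : Q ≠ 0 := by rw [hQ]; exact pow_ne_zero _ hp.out.ne_zero
  have h3 : (Q + 1) * h ≠ 0 := by positivity
  rw [Nat.factorization_mul hQ0 h3, Finsupp.add_apply, Nat.factorization_eq_zero_of_not_dvd h2,
    add_zero]
  conv_rhs => rw [hQ]
  congr 1
  rw [hQ, hp.out.factorization_pow, Finsupp.single_eq_same]

/-- The set of elements contained in all subgroups of index `p` of a Sylow subgroup. -/
theorem hex_of_fr {S : Type*} [Group S] [Finite S] [IsSimpleGroup S] {p : ℕ} [hp : Fact p.Prime]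
    (hna : ∀ P : Sylow p S, Fr p (P : Subgroup S)) {Q : ℕ} (hQ : ∀ P : Sylow p S, Nat.card P = Q)
    (H : Subgroup S) (hH : H ≠ ⊤) :
    ¬ ∀ P : Sylow p S, p * Nat.card (H ⊓ (P : Subgroup S) : Subgroup S) = Q := by
  intro hall
  let C : Set S := {x | ∃ (P : Sylow p S) (hx : x ∈ (P : Subgroup S)), ∀ M : Subgroup (P : Subgroup S),
    (M.index = 1 ∨ M.index = p) → (⟨x, hx⟩ : (P : Subgroup S)) ∈ M}
  have hCconj : ∀ g : S, ∀ x ∈ C, g * x * g⁻¹ ∈ C := by
    rintro g x ⟨P, hx, hM⟩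
    have hmem : g * x * g⁻¹ ∈ ((g • P : Sylow p S) : Subgroup S) := by
      rw [Sylow.smul_def]
      exact ⟨x, hx, rfl⟩
    refine ⟨g • P, hmem, ?_⟩
    intro M hMi
    -- pull back along conjugation
    let f : (P : Subgroup S) →* ((g • P : Sylow p S) : Subgroup S) :=
      ((MulAut.conj g).toMonoidHom.comp (P : Subgroup S).subtype).codRestrict _ (fun y => by
        rw [Sylow.smul_def]
        exact ⟨y, y.2, rfl⟩)
    have hfs : Function.Surjective f := by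
      rintro ⟨y, hy⟩
      rw [Sylow.smul_def] at hy
      obtain ⟨z, hz, hzy⟩ := hy
      exact ⟨⟨z, hz⟩, Subtype.ext hzy⟩
    have h1 := hM (M.comap f) (by rwa [Subgroup.index_comap_of_surjective M hfs])
    exact h1
  have hN : (Subgroup.closure C).Normal := by
    constructor
    intro x hx g
    have h1 : Subgroup.closure C ≤ (Subgroup.closure C).comap (MulAut.conj g).toMonoidHom := by
      rw [closure_le]
      intro y hy
      exact Subgroup.subset_closure (hCconj g y hy)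
    exact h1 hx
  have hCH : C ⊆ H := by
    rintro x ⟨P, hx, hM⟩
    have h1 : ((H.subgroupOf (P : Subgroup S))).index = p := by
      have h2 := (H.subgroupOf (P : Subgroup S)).card_mul_index
      have h3 : Nat.card (H.subgroupOf (P : Subgroup S)) =
          Nat.card (H ⊓ (P : Subgroup S) : Subgroup S) := by
        rw [← Subgroup.subgroupOf_map_subtype]
        exact (Nat.card_congr ((H.subgroupOf (P : Subgroup S)).equivMapOfInjective _
          (Subgroup.subtype_injective _)).toEquiv)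
      rw [h3] at h2
      have h4 := hall P
      have h5 : Nat.card (P : Subgroup S) = Q := hQ P
      rw [h5] at h2
      have h6 : 0 < Nat.card (H ⊓ (P : Subgroup S) : Subgroup S) := Nat.card_pos
      rw [← h4, mul_comm p] at h2
      exact Nat.eq_of_mul_eq_mul_left h6 h2
    exact hM _ (Or.inr h1)
  rcases hN.eq_bot_or_eq_top with h1 | h1
  · obtain ⟨P⟩ : Nonempty (Sylow p S) := inferInstance
    obtain ⟨w, hw1, hw⟩ := hna P
    have h2 : (w : S) ∈ Subgroup.closure C := Subgroup.subset_closure ⟨P, w.2, hw⟩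
    rw [h1, mem_bot] at h2
    exact hw1 (Subtype.ext h2)
  · apply hH
    rw [eq_top_iff, ← h1, closure_le]
    exact hCH

theorem row_of_ti_fr {S : Type*} [Group S] [Finite S] [IsSimpleGroup S] {p : ℕ} [hp : Fact p.Prime]
    (hTI : ∀ P Q : Sylow p S, P ≠ Q → (P : Subgroup S) ⊓ Q = ⊥)
    (hna : ∀ P : Sylow p S, Fr p (P : Subgroup S)) {Q h k : ℕ} (hQ : Q = p ^ k) (hk : k ≠ 0)
    (hord : Nat.card S = Q * ((Q + 1) * h)) (hph : ¬ p ∣ h) (hlt : h < Q) :
    FprRow (p + 1) 1 p S := by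
  have hcardP : ∀ P : Sylow p S, Nat.card P = Q := card_sylow_of hQ hk hord hph
  obtain ⟨P⟩ : Nonempty (Sylow p S) := inferInstance
  have hpQ : p ∣ Q := hQ ▸ dvd_pow_self p hk
  have hcount : Nat.card (Sylow p S) = 1 + Q := by
    have h1 := card_sylow_eq hTI P (h := h) (by rw [hcardP]; exact hpQ)
      (by rw [hcardP]; exact hord) (by rw [hcardP]; exact hlt)
    rw [h1, hcardP P]
  have hQ1 : 1 < Q := by
    have h0 : 0 < Q := by rw [hQ]; exact pow_pos hp.out.pos _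
    exact lt_of_lt_of_le hp.out.one_lt (Nat.le_of_dvd h0 hpQ)
  exact ti_row hTI hQ1 hcardP hcount (fun H hH => hex_of_fr hna hcardP H hH)

/-- **The Ree groups.** -/
theorem row_ree {T : Type*} [Group T] [Finite T] [IsSimpleGroup T] (h : Cfsg.Lie.IsoRee T) :
    FprRow (3 + 1) 1 3 T := by
  obtain ⟨K, iK, iK', m, hm, hK, ⟨e⟩⟩ := h
  have hs : IsSimpleGroup ↥(Cfsg.Lie.twistedG2 K (3 ^ m)) := simple_of_equiv e
  have hf : Finite ↥(Cfsg.Lie.twistedG2 K (3 ^ m)) := Finite.of_equiv T e.toEquiv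
  refine FprRow.of_mulEquiv Nat.prime_three e.symm ?_
  obtain ⟨U, h, n, D⟩ := Cfsg.Agent.ChevalleyStructure.Ree.Data.exists_data hK
  have : Fact (Nat.Prime 3) := ⟨Nat.prime_three⟩
  have hchar : (3 : K) = 0 := by
    have h1 : ((Fintype.card K : ℕ) : K) = 0 := FiniteField.cast_card_eq_zero K
    rw [hK, Nat.cast_pow] at h1
    exact pow_eq_zero_iff (by omega) |>.1 h1
  obtain ⟨q, hq⟩ : ∃ q, q = 3 ^ (2 * m + 1) := ⟨_, rfl⟩
  have hcard := Cfsg.Agent.LieRecognition.ReeSylowThree.card_eq D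
  rw [hK, ← hq] at hcard
  have hq27 : 27 ≤ q := by
    rw [hq]
    calc 27 = 3 ^ 3 := by norm_num
      _ ≤ 3 ^ (2 * m + 1) := Nat.pow_le_pow_right (by norm_num) (by omega)
  have h3q : 3 ∣ q := hq ▸ dvd_pow_self 3 (by omega)
  refine row_of_ti_fr (p := 3) (S := ↥(Cfsg.Lie.twistedG2 K (3 ^ m))) (Q := q ^ 3) (k := 3 * (2 * m + 1))
    (h := q - 1) (fun P Q hPQ => Cfsg.Agent.S1155.result hm hK P Q hPQ) ?_ ?_ (by omega) ?_ ?_ ?_
  · intro P
    have h1 := D.U_mul 1 0 0 1 0 0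
    have h2 : U 1 0 0 * U 1 0 0 = U (1 + 1) (-1) 0 := by
      rw [h1]; congr 1 <;> simp
    have h3 : U 1 0 0 * U 1 0 0 * U 1 0 0 = U 0 0 (-1) := by
      rw [h2, D.U_mul]
      have e1 : (1 : K) + 1 + 1 = 0 := by linear_combination hchar
      have e2 : (-1 : K) + 0 - (1 + 1) * 1 ^ (3 ^ (m + 1)) = 0 := by
        rw [one_pow]; linear_combination -hchar
      have e3 : (0 : K) + 0 - (-1) * 1 - (1 + 1) ^ 2 * 1 ^ (3 ^ (m + 1)) +
          (1 + 1) * 1 * 1 ^ (3 ^ (m + 1)) = -1 := by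
        rw [one_pow]; ring
      rw [e1, e2, e3]
    have h4 : (U 1 0 0) ^ 3 = U 0 0 (-1) := by rw [← h3, pow_succ, pow_two]
    have hz : U 0 0 0 = 1 := D.U_zero
    refine fr_all (x := U 1 0 0) (k := 2) ?_ ?_ P
    · rw [show 3 ^ 2 = 3 * 3 by norm_num, pow_mul, h4]
      have h5 : U 0 0 (-1) * U 0 0 (-1) * U 0 0 (-1) = 1 := by
        rw [D.U_mul, D.U_mul, ← hz]
        congr 1
        · ring
        · simp
        · simp only [zero_mul, mul_zero, sub_zero, add_zero, zero_pow (by positivity : (2:ℕ) ≠ 0)]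
          linear_combination -hchar
      rw [← h5, pow_succ, pow_two]
    · rw [h4, ← hz]
      intro h5
      have h6 := (Cfsg.Agent.LieRecognition.ReeSylowThree.U_injective D h5).2.2
      exact (neg_ne_zero.2 one_ne_zero) h6
  · rw [hq, ← pow_mul, mul_comm]
  · rw [hcard]; ring
  · intro h1
    have h2 : 3 ∣ q - (q - 1) := Nat.dvd_sub h3q h1
    rw [Nat.sub_sub_self (by omega)] at h2
    norm_num at h2
  · have h1 : q ≤ q ^ 3 := Nat.le_self_pow (by norm_num) q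
    omega

open Cfsg.Agent.LieRecognition.SzMatrix in
/-- **The Suzuki groups.** -/
theorem row_sz {T : Type*} [Group T] [Finite T] [IsSimpleGroup T] (h : Cfsg.Lie.IsoSuzuki T) :
    FprRow (2 + 1) 1 2 T := by
  obtain ⟨F, iF, iF', m, hm, hF, ⟨e⟩⟩ := h
  have hs : IsSimpleGroup ↥(Cfsg.Lie.Sz F (2 ^ (m + 1))) := simple_of_equiv e
  have hf : Finite ↥(Cfsg.Lie.Sz F (2 ^ (m + 1))) := Finite.of_equiv T e.toEquiv
  refine FprRow.of_mulEquiv Nat.prime_two e.symm ?_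
  have : Fact (Nat.Prime 2) := ⟨Nat.prime_two⟩
  obtain ⟨hcard, S, hS1, hS2, hS3, hS4⟩ := Cfsg.Agent.S1163.result hm hF
  obtain ⟨q, hq⟩ : ∃ q, q = 2 ^ (2 * m + 1) := ⟨_, rfl⟩
  rw [← hq] at hcard hS1 hS2
  have hq8 : 8 ≤ q := by
    rw [hq]
    calc 8 = 2 ^ 3 := by norm_num
      _ ≤ 2 ^ (2 * m + 1) := Nat.pow_le_pow_right (by norm_num) (by omega)
  have h2q : 2 ∣ q := hq ▸ dvd_pow_self 2 (by omega)
  have hTI0 : ∀ g : ↥(Cfsg.Lie.Sz F (2 ^ (m + 1))), g ∉ normalizer ((S : Subgroup ↥(Cfsg.Lie.Sz F (2 ^ (m + 1)))) : Set ↥(Cfsg.Lie.Sz F (2 ^ (m + 1)))) →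
      ∀ x ∈ (S : Subgroup _), g⁻¹ * x * g ∈ (S : Subgroup _) → x = 1 := by
    intro g hg x hx hgx
    have h1 : (QuotientGroup.mk g : ↥(Cfsg.Lie.Sz F (2 ^ (m + 1))) ⧸
        normalizer ((S : Subgroup ↥(Cfsg.Lie.Sz F (2 ^ (m + 1)))) : Set ↥(Cfsg.Lie.Sz F (2 ^ (m + 1))))) ≠ QuotientGroup.mk 1 := by
      intro h2
      have h3 := QuotientGroup.eq.1 h2
      rw [mul_one] at h3
      exact hg (inv_mem_iff.1 h3)
    obtain ⟨s, hs, huniq⟩ := hS4 _ _ h1 h1
    have h2 := huniq ⟨x, hx⟩ (by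
      show QuotientGroup.mk (x * g) = QuotientGroup.mk g
      rw [QuotientGroup.eq]
      have h5 : (g⁻¹ * x * g)⁻¹ ∈ (S : Subgroup ↥(Cfsg.Lie.Sz F (2 ^ (m + 1)))) := inv_mem hgx
      have h3 := le_normalizer h5
      have h4 : (g⁻¹ * x * g)⁻¹ = (x * g)⁻¹ * g := by group
      rwa [h4] at h3)
    have h3 := huniq 1 (by
      show QuotientGroup.mk (1 * g) = QuotientGroup.mk g
      rw [one_mul])
    exact congrArg Subtype.val (h2.trans h3.symm)
  have hTI : ∀ P Q : Sylow 2 ↥(Cfsg.Lie.Sz F (2 ^ (m + 1))), P ≠ Q →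
      (P : Subgroup ↥(Cfsg.Lie.Sz F (2 ^ (m + 1)))) ⊓ Q = ⊥ := by
    intro P Q hPQ
    obtain ⟨a, rfl⟩ := exists_smul_eq ↥(Cfsg.Lie.Sz F (2 ^ (m + 1))) S P
    obtain ⟨b, rfl⟩ := exists_smul_eq ↥(Cfsg.Lie.Sz F (2 ^ (m + 1))) S Q
    rw [eq_bot_iff]
    rintro x ⟨⟨y, hy, hyx⟩, ⟨z, hz, hzx⟩⟩
    have hyx' : a * y * a⁻¹ = x := hyx
    have hzx' : b * z * b⁻¹ = x := hzx
    have hab : a⁻¹ * b ∉ normalizer ((S : Subgroup ↥(Cfsg.Lie.Sz F (2 ^ (m + 1)))) : Set ↥(Cfsg.Lie.Sz F (2 ^ (m + 1)))) := by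
      intro h1
      apply hPQ
      have h2 : (a⁻¹ * b) • S = S := Sylow.smul_eq_iff_mem_normalizer.2 h1
      rw [mul_smul, inv_smul_eq_iff] at h2
      exact h2.symm
    have h1 := hTI0 _ hab y hy (by
      have : (a⁻¹ * b)⁻¹ * y * (a⁻¹ * b) = z := by
        have h2 : z = b⁻¹ * x * b := by rw [← hzx']; group
        rw [h2, ← hyx']; group
      rw [this]; exact hz)
    rw [mem_bot, ← hyx', h1]
    group
  refine row_of_ti_fr (p := 2) (S := ↥(Cfsg.Lie.Sz F (2 ^ (m + 1)))) (Q := q ^ 2) (k := 2 * (2 * m + 1))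
    (h := q - 1) hTI ?_ ?_ (by omega) ?_ ?_ ?_
  · intro P
    have H := good hF
    have h1 : H.u 1 0 * H.u 1 0 = H.u 0 1 := by
      rw [H.u_mul]
      congr 1
      · rw [H.add_self]
      · simp
    refine fr_all (x := H.u 1 0) (k := 2) ?_ ?_ P
    · rw [show 2 ^ 2 = 2 * 2 by norm_num, pow_mul, pow_two, pow_two, h1, H.u_mul, ← H.u_zero]
      congr 1
      · simp
      · rw [zero_mul, add_zero, H.add_self]
    · rw [pow_two, h1, ← H.u_zero]
      intro h2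
      exact one_ne_zero (H.u_inj h2).2
  · rw [hq, ← pow_mul, mul_comm]
  · rw [hcard]; ring
  · intro h1
    have h2 : 2 ∣ q - (q - 1) := Nat.dvd_sub h2q h1
    rw [Nat.sub_sub_self (by omega)] at h2
    norm_num at h2
  · have h1 : q ≤ q ^ 2 := Nat.le_self_pow (by norm_num) q
    omega

/-- **`PSU₃(q)`.** -/
theorem row_psu3 {T : Type*} [Group T] [Finite T] [IsSimpleGroup T] {F : Type*} [Field F] [Fintype F]
    {p : ℕ} [hp : Fact p.Prime] [CharP F p]
    {q : ℕ} (hF : Fintype.card F = q ^ 2) (hq : q ≠ 2) (e : T ≃* PSU 3 F q) :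
    FprRow (p + 1) 1 p T := by
  have hs : IsSimpleGroup (PSU 3 F q) := simple_of_equiv e
  have hf : Finite (PSU 3 F q) := Finite.of_equiv T e.toEquiv
  refine FprRow.of_mulEquiv hp.out e.symm ?_
  obtain ⟨N, hpN, hN⟩ := FiniteField.card F p
  -- `q` is a power of `p`
  have hqp : ∃ n, q = p ^ n := by
    have h1 : q ∣ p ^ (N : ℕ) := by rw [← hN, hF]; exact dvd_pow_self q (by norm_num)
    obtain ⟨n, -, hn⟩ := (Nat.dvd_prime_pow hp.out).1 h1
    exact ⟨n, hn⟩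
  obtain ⟨n, hn⟩ := hqp
  have hn0 : n ≠ 0 := by
    rintro rfl
    rw [pow_zero] at hn
    rw [hn, one_pow] at hF
    have := Fintype.one_lt_card (α := F)
    omega
  have hq2 : 2 ≤ q := by
    rw [hn]
    calc 2 ≤ p := hp.out.two_le
      _ = p ^ 1 := (pow_one p).symm
      _ ≤ p ^ n := Nat.pow_le_pow_right hp.out.pos (by omega)
  have hq3 : 2 < q := by omega
  have hpq : p ∣ q := hn ▸ dvd_pow_self p hn0
  have hcard := card_psu3 hF
  obtain ⟨d, hd⟩ : ∃ d, d = Nat.gcd 3 (q + 1) := ⟨_, rfl⟩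
  rw [← hd] at hcard
  have hd3 : d ∣ 3 := hd ▸ Nat.gcd_dvd_left _ _
  have hdq : d ∣ q ^ 2 - 1 := by
    have h1 : d ∣ q + 1 := hd ▸ Nat.gcd_dvd_right _ _
    have h2 : q ^ 2 - 1 = (q + 1) * (q - 1) := by
      have := Nat.sq_sub_sq q 1
      rwa [one_pow] at this
    rw [h2]; exact h1.mul_right _
  obtain ⟨h, hh⟩ := hdq
  have hd0 : 0 < d := Nat.pos_of_dvd_of_pos hd3 (by norm_num)
  have hq1 : 1 ≤ q ^ 2 := Nat.one_le_pow _ _ (by omega)
  have hph : ¬ p ∣ h := by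
    intro h1
    have h2 : p ∣ q ^ 2 - 1 := by rw [hh]; exact h1.mul_left _
    have h3 : p ∣ q ^ 2 - (q ^ 2 - 1) := Nat.dvd_sub (hpq.trans (dvd_pow_self q (by norm_num))) h2
    rw [Nat.sub_sub_self hq1] at h3
    exact hp.out.one_lt.ne' (Nat.dvd_one.1 h3)
  have hhle : h ≤ q ^ 2 - 1 := by rw [hh]; exact Nat.le_mul_of_pos_left _ hd0
  refine row_of_ti_fr (p := p) (S := PSU 3 F q) (Q := q ^ 3) (k := n * 3)
    (h := h) (inf_of_ti (ti_psu3 hF)) ?_ ?_ (by omega) ?_ hph ?_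
  · intro P
    obtain ⟨R, hR, a, ha, b, hb, hab⟩ := Cfsg.Agent.H794.PsuNotAb.exists_pair (p := p) (n := 3) hF le_rfl
    exact fr_all' hR ha hb hab P
  · rw [hn, ← pow_mul]
  · rw [hh] at hcard
    apply Nat.eq_of_mul_eq_mul_left hd0
    rw [hcard]; ring
  · have h1 : q ^ 2 ≤ q ^ 3 := Nat.pow_le_pow_right (by omega) (by norm_num)
    omega

end Cfsg.Agent.H409.TI
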