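import Cfsg.Agent.H409.ThreeTrans
import Cfsg.Agent.S0547
import Cfsg.Agent.S3611
import Cfsg.Agent.S0699
import Cfsg.Agent.Lib.SubnormalJoin
import Cfsg.Agent.SporadicA.PrimeDegNorm

/-!
The setwise stabiliser of two points acting on the remaining points; 5-transitivity of
transitive insoluble groups of prime degree `p = q + 2` (`q > 5` prime) whose Sylow
`p`-normaliser has order `p (p - 1) / 2`.
-/

set_option autoImplicit false

namespace Cfsg.Agent.H409

section

variable {G Ω : Type*} [Group G] [MulAction G Ω]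

/-- Normal subgroups of three-transitive groups of odd degree, for abstract actions. -/
theorem same_of_normal [FaithfulSMul G Ω] [Finite Ω] (hodd : Odd (Nat.card Ω))
    (h5 : 5 ≤ Nat.card Ω)
    (h3 : ∀ x y z x' y' z' : Ω, x ≠ y → x ≠ z → y ≠ z → x' ≠ y' → x' ≠ z' → y' ≠ z' →
      Same G x y z x' y' z') (N : Subgroup G) [N.Normal] (hN : N ≠ ⊥)
    {x y z x' y' z' : Ω} (hxy : x ≠ y) (hxz : x ≠ z) (hyz : y ≠ z)
    (hxy' : x' ≠ y') (hxz' : x' ≠ z') (hyz' : y' ≠ z') :
    ∃ n ∈ N, n • x = x' ∧ n • y = y' ∧ n • z = z' := by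
  classical
  have := Fintype.ofFinite Ω
  let f : G ≃* permGroup G Ω := permGroupEquiv
  have h3' : MulAction.IsMultiplyPretransitive (permGroup G Ω) Ω 3 := by
    apply Cfsg.Agent.S3611.three_transitive_of
    intro x y z x' y' z' h1 h2 h3'' h4 h5 h6
    obtain ⟨g, hg1, hg2, hg3⟩ := h3 x y z x' y' z' h1 h2 h3'' h4 h5 h6
    exact ⟨⟨MulAction.toPermHom G Ω g, ⟨g, rfl⟩⟩, hg1, hg2, hg3⟩
  let N' : Subgroup (permGroup G Ω) := N.map f.toMonoidHom
  have hn : N'.Normal := Subgroup.Normal.map inferInstance _ f.surjective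
  have hN' : N' ≠ ⊥ := by
    intro h
    exact hN ((Subgroup.map_eq_bot_iff_of_injective (f := f.toMonoidHom) _ f.injective).1 h)
  rw [Nat.card_eq_fintype_card] at hodd h5
  have h4 := Cfsg.Agent.S0699.result (permGroup G Ω) hodd h5 h3' N' hN'
  obtain ⟨⟨_, n, hn, rfl⟩, hg1, hg2, hg3⟩ :=
    same_of_three_transitive h4 hxy hxz hyz hxy' hxz' hyz'
  exact ⟨n, hn, hg1, hg2, hg3⟩

/-- A solvable transitive group of prime degree `q` has order dividing `q (q - 1)`. -/
theorem card_dvd_of_solvable [FaithfulSMul G Ω] [Finite G] {q : ℕ} (hq : q.Prime)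
    (hΩ : Nat.card Ω = q) (htrans : MulAction.IsPretransitive G Ω) (hs : Group.IsSolvable G) :
    Nat.card G ∣ q * (q - 1) := by
  have : Fact q.Prime := ⟨hq⟩
  have hne : Nonempty Ω := by
    have : Nat.card Ω ≠ 0 := by rw [hΩ]; exact hq.ne_zero
    exact (Nat.card_ne_zero.1 this).1
  have hprim : MulAction.IsPreprimitive G Ω :=
    MulAction.IsPreprimitive.of_prime_card (by rw [hΩ]; exact hq)
  have hnt : Nontrivial G := by
    by_contra h
    rw [not_nontrivial_iff_subsingleton] at h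
    obtain ⟨a⟩ := hne
    have h1 : ∀ b : Ω, b = a := by
      intro b
      obtain ⟨g, hg⟩ := MulAction.exists_smul_eq G a b
      rw [← hg, Subsingleton.elim g 1, one_smul]
    have h2 : Subsingleton Ω := ⟨fun b c => (h1 b).trans (h1 c).symm⟩
    have h3 : Nat.card Ω ≤ 1 := Finite.card_le_one_iff_subsingleton.2 h2
    rw [hΩ] at h3
    exact absurd hq.one_lt (by omega)
  obtain ⟨L, hL, hL0, hmin⟩ := Cfsg.Agent.Lib.SubnormalJoin.exists_minimal_normal G
  obtain ⟨-, -, r, d, hr, hd, h1, h2⟩ := Cfsg.Agent.S0547.result hprim L hL0 hmin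
  have hL' : Nat.card L = q := by rw [h2, ← h1, hΩ]
  have h3 := Cfsg.Agent.SporadicA.PrimeDegNorm.card_normalizer_dvd hΩ L hL'
  have h4 : Subgroup.normalizer (L : Set G) = ⊤ := Subgroup.normalizer_eq_top_iff.2 hL
  rwa [h4, Nat.card_congr Subgroup.topEquiv.toEquiv] at h3

/-- The setwise stabiliser of a pair. -/
def pairStab (G : Type*) {Ω : Type*} [Group G] [MulAction G Ω] (α β : Ω) : Subgroup G where
  carrier := {g | ∀ x, (g • x = α ∨ g • x = β) ↔ (x = α ∨ x = β)}
  mul_mem' := by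
    intro g h hg hh x
    rw [mul_smul, hg, hh]
  one_mem' := by
    intro x
    rw [one_smul]
  inv_mem' := by
    intro g hg x
    rw [← hg (g⁻¹ • x), smul_inv_smul]

theorem mem_pairStab {α β : Ω} {g : G} :
    g ∈ pairStab G α β ↔ ∀ x, (g • x = α ∨ g • x = β) ↔ (x = α ∨ x = β) := Iff.rfl

/-- The points off a pair. -/
def Off {Ω : Type*} (α β : Ω) : Type _ := {x : Ω // ¬ (x = α ∨ x = β)}

instance pairAction (α β : Ω) : MulAction (pairStab G α β) (Off α β) where
  smul g x := ⟨g.1 • x.1, fun h => x.2 ((mem_pairStab.1 g.2 x.1).1 h)⟩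
  one_smul x := Subtype.ext (one_smul G x.1)
  mul_smul g h x := Subtype.ext (mul_smul g.1 h.1 x.1)

theorem pair_smul_val {α β : Ω} (g : pairStab G α β) (x : Off α β) :
    (g • x).1 = g.1 • x.1 := rfl

instance offFinite [Finite Ω] (α β : Ω) : Finite (Off α β) :=
  inferInstanceAs (Finite {x : Ω // ¬ (x = α ∨ x = β)})

theorem card_off [Finite Ω] {α β : Ω} (hαβ : α ≠ β) : Nat.card (Off α β) = Nat.card Ω - 2 := by
  classical
  have := Fintype.ofFinite Ω
  have h1 : Nat.card (Off α β) = ((Finset.univ.erase α).erase β).card := by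
    have : Nat.card {x : Ω // ¬ (x = α ∨ x = β)} = _ := Nat.card_eq_fintype_card
    rw [show Nat.card (Off α β) = Nat.card {x : Ω // ¬ (x = α ∨ x = β)} from rfl, this,
      Fintype.card_subtype]
    congr 1
    ext x
    simp only [Finset.mem_filter, Finset.mem_univ, true_and, Finset.mem_erase, not_or, and_true]
    exact and_comm
  rw [h1, Finset.card_erase_of_mem, Finset.card_erase_of_mem (Finset.mem_univ _),
    Finset.card_univ, ← Nat.card_eq_fintype_card]
  · omega
  · rw [Finset.mem_erase]; exact ⟨hαβ.symm, Finset.mem_univ _⟩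

/-- The pointwise stabiliser of two points. -/
def pointStab (G : Type*) {Ω : Type*} [Group G] [MulAction G Ω] (α β : Ω) :
    Subgroup (pairStab G α β) where
  carrier := {g | g.1 • α = α ∧ g.1 • β = β}
  mul_mem' := by
    rintro g h ⟨hg1, hg2⟩ ⟨hh1, hh2⟩
    exact ⟨by rw [Subgroup.coe_mul, mul_smul, hh1, hg1], by rw [Subgroup.coe_mul, mul_smul, hh2, hg2]⟩
  one_mem' := by simp
  inv_mem' := by
    rintro g ⟨hg1, hg2⟩
    exact ⟨by rw [Subgroup.coe_inv, inv_smul_eq_iff, hg1],
      by rw [Subgroup.coe_inv, inv_smul_eq_iff, hg2]⟩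

theorem mem_pointStab {α β : Ω} {g : pairStab G α β} :
    g ∈ pointStab G α β ↔ g.1 • α = α ∧ g.1 • β = β := Iff.rfl

theorem mem_pairStab_of_fix {α β : Ω} {g : G} (h1 : g • α = α) (h2 : g • β = β) :
    g ∈ pairStab G α β := by
  intro x
  constructor
  · rintro (h | h)
    · exact Or.inl (smul_left_cancel g (h.trans h1.symm))
    · exact Or.inr (smul_left_cancel g (h.trans h2.symm))
  · rintro (rfl | rfl)
    · exact Or.inl h1
    · exact Or.inr h2

theorem mem_pairStab_of_swap {α β : Ω} {g : G} (h1 : g • α = β) (h2 : g • β = α) :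
    g ∈ pairStab G α β := by
  intro x
  constructor
  · rintro (h | h)
    · exact Or.inr (smul_left_cancel g (h.trans h2.symm))
    · exact Or.inl (smul_left_cancel g (h.trans h1.symm))
  · rintro (rfl | rfl)
    · exact Or.inr h1
    · exact Or.inl h2

theorem fix_or_swap {α β : Ω} (g : pairStab G α β) :
    (g.1 • α = α ∧ g.1 • β = β) ∨ (g.1 • α = β ∧ g.1 • β = α) := by
  have h1 := (mem_pairStab.1 g.2 α).2 (Or.inl rfl)
  have h2 := (mem_pairStab.1 g.2 β).2 (Or.inr rfl)
  rcases h1 with h1 | h1 <;> rcases h2 with h2 | h2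
  · left
    have : α = β := MulAction.injective g.1 (h1.trans h2.symm)
    subst this
    exact ⟨h1, h1⟩
  · exact Or.inl ⟨h1, h2⟩
  · exact Or.inr ⟨h1, h2⟩
  · left
    have : α = β := MulAction.injective g.1 (h1.trans h2.symm)
    subst this
    exact ⟨h1, h1⟩

instance pointStabNormal (α β : Ω) : (pointStab G α β).Normal where
  conj_mem := by
    intro n hn g
    rw [mem_pointStab] at hn ⊢
    rcases fix_or_swap g⁻¹ with ⟨h1, h2⟩ | ⟨h1, h2⟩
    · rw [Subgroup.coe_inv] at h1 h2
      constructor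
      · rw [Subgroup.coe_mul, Subgroup.coe_mul, Subgroup.coe_inv, mul_smul, mul_smul, h1, hn.1]
        exact (inv_smul_eq_iff.1 h1).symm
      · rw [Subgroup.coe_mul, Subgroup.coe_mul, Subgroup.coe_inv, mul_smul, mul_smul, h2, hn.2]
        exact (inv_smul_eq_iff.1 h2).symm
    · rw [Subgroup.coe_inv] at h1 h2
      constructor
      · rw [Subgroup.coe_mul, Subgroup.coe_mul, Subgroup.coe_inv, mul_smul, mul_smul, h1, hn.2]
        exact (inv_smul_eq_iff.1 h1).symm
      · rw [Subgroup.coe_mul, Subgroup.coe_mul, Subgroup.coe_inv, mul_smul, mul_smul, h2, hn.1]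
        exact (inv_smul_eq_iff.1 h2).symm

end

end Cfsg.Agent.H409
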