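import Mathlib
import Cfsg.Agent.PermutationGroups.PrimeInvolution
import Cfsg.Agent.PermutationGroups.PrimeDegreeHeart
import Cfsg.Agent.S0675

/-!
Transitive groups `G` of prime degree `p` whose Sylow `p`-normaliser has order `p (p - 1) / 2`:
labelling of the points by `ZMod p` such that all maps `x ↦ s ^ 2 * x + b` come from `G`.
-/

set_option autoImplicit false

namespace Cfsg.Agent.H409

open Cfsg.Agent.PermutationGroups.PrimeDegree Cfsg.Agent.PermutationGroups.PrimeInvolution
open Cfsg.Agent.PermutationGroups.PrimeDegreeHeart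

section transport

variable {G Ω : Type*} [Group G] [MulAction G Ω]

/-- The permutation group induced by an action. -/
abbrev permGroup (G Ω : Type*) [Group G] [MulAction G Ω] : Subgroup (Equiv.Perm Ω) :=
  (MulAction.toPermHom G Ω).range

theorem permGroup_trans [MulAction.IsPretransitive G Ω] :
    MulAction.IsPretransitive (permGroup G Ω) Ω := by
  constructor
  intro x y
  obtain ⟨g, hg⟩ := MulAction.exists_smul_eq G x y
  exact ⟨⟨MulAction.toPermHom G Ω g, ⟨g, rfl⟩⟩, hg⟩

/-- A faithful group is isomorphic to its permutation group. -/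
noncomputable def permGroupEquiv [FaithfulSMul G Ω] : G ≃* permGroup G Ω :=
  MonoidHom.ofInjective MulAction.toPerm_injective

theorem permGroupEquiv_apply [FaithfulSMul G Ω] (g : G) (x : Ω) :
    ((permGroupEquiv (G := G) (Ω := Ω) g : permGroup G Ω) : Equiv.Perm Ω) x = g • x := rfl

theorem not_solvable_permGroup [FaithfulSMul G Ω] (h : ¬ Group.IsSolvable G) :
    ¬ Group.IsSolvable (permGroup G Ω) := by
  intro h'
  exact h (Group.isSolvable_of_isSolvable_injective
    (f := (permGroupEquiv (G := G) (Ω := Ω)).toMonoidHom) (permGroupEquiv (G := G) (Ω := Ω)).injective)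

/-- Burnside's theorem for abstract actions. -/
theorem two_transitive [Finite Ω] [FaithfulSMul G Ω] (hp : (Nat.card Ω).Prime)
    (htrans : MulAction.IsPretransitive G Ω) (hins : ¬ Group.IsSolvable G) :
    ∀ a b c d : Ω, a ≠ b → c ≠ d → ∃ g : G, g • a = c ∧ g • b = d := by
  classical
  have := Fintype.ofFinite Ω
  have htr := permGroup_trans (G := G) (Ω := Ω)
  have h := (Cfsg.Agent.S0675.result (by rwa [← Nat.card_eq_fintype_card])
    (permGroup G Ω)).resolve_left (not_solvable_permGroup hins)
  rw [MulAction.is_two_pretransitive_iff] at h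
  intro a b c d hab hcd
  obtain ⟨⟨_, g, rfl⟩, h1, h2⟩ := h hab hcd
  exact ⟨g, h1, h2⟩

/-- Irreducibility of the heart for abstract actions, over `ZMod p`. -/
theorem heart [Fintype Ω] [FaithfulSMul G Ω] {p : ℕ} [Fact p.Prime] (hp : Nat.card Ω = p)
    (htrans : MulAction.IsPretransitive G Ω) (hins : ¬ Group.IsSolvable G)
    (W : Submodule (ZMod p) (Ω → ZMod p))
    (hW : ∀ g : G, ∀ f ∈ W, (fun x => f (g • x)) ∈ W) (h₂ : ∀ f ∈ W, ∑ x, f x = 0) :
    (∀ f ∈ W, ∃ c : ZMod p, f = fun _ => c) ∨
      (∀ f : Ω → ZMod p, ∑ x, f x = 0 → f ∈ W) := by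
  classical
  have htr := permGroup_trans (G := G) (Ω := Ω)
  refine heart_irreducible (by rw [← Nat.card_eq_fintype_card]; exact hp) (permGroup G Ω)
    (not_solvable_permGroup hins) W ?_ h₂
  rintro _ ⟨g, rfl⟩ f hf
  exact hW g f hf

/-- Labelling with the translation. -/
theorem exists_label [Finite Ω] {p : ℕ} [Fact p.Prime] (hp : Nat.card Ω = p)
    (htrans : MulAction.IsPretransitive G Ω) :
    ∃ (e : Ω ≃ ZMod p) (g : G), ∀ x, e (g • x) = e x + 1 := by
  classical
  have := Fintype.ofFinite Ω
  have htr := permGroup_trans (G := G) (Ω := Ω)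
  have hp' : Fintype.card Ω = p := by rw [← Nat.card_eq_fintype_card]; exact hp
  obtain ⟨e, σ, ⟨g, rfl⟩, h⟩ := exists_equiv_zmod hp' (permGroup G Ω)
  exact ⟨e, g, h⟩

theorem card_sylow' [Finite Ω] [Finite G] [FaithfulSMul G Ω] {p : ℕ} [Fact p.Prime]
    (hp : Nat.card Ω = p) (htrans : MulAction.IsPretransitive G Ω) (P : Sylow p G) :
    Nat.card (P : Subgroup G) = p := by
  classical
  have := Fintype.ofFinite Ω
  have htr := permGroup_trans (G := G) (Ω := Ω)
  have hp' : Fintype.card Ω = p := by rw [← Nat.card_eq_fintype_card]; exact hp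
  obtain ⟨m, hm, hmp⟩ := card_eq_mul hp' (permGroup G Ω)
  rw [← Nat.card_congr (permGroupEquiv (G := G) (Ω := Ω)).toEquiv] at hm
  have hp : p.Prime := Fact.out
  have hm0 : m ≠ 0 := by
    rintro rfl
    rw [zero_mul] at hm
    exact Nat.card_pos.ne' hm
  rw [P.card_eq_multiplicity, hm]
  rw [Nat.factorization_mul hm0 hp.ne_zero]
  simp only [Finsupp.coe_add, Pi.add_apply]
  rw [hp.factorization_self, Nat.factorization_eq_zero_of_not_dvd]
  · simp
  · exact (Nat.Prime.coprime_iff_not_dvd hp).1 hmp.symm

/-- **Labelling**: if the Sylow `p`-normaliser has order `p (p - 1) / 2` then the points can be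
labelled by `ZMod p` such that all `x ↦ s ^ 2 * x + b` are induced by `G`. -/
theorem exists_half_label [Finite Ω] [Finite G] [FaithfulSMul G Ω] {p : ℕ} [Fact p.Prime]
    (hp : Nat.card Ω = p) (htrans : MulAction.IsPretransitive G Ω) (P : Sylow p G)
    (hN : 2 * Nat.card ↥(Subgroup.normalizer ((P : Subgroup G) : Set G)) = p * (p - 1)) :
    ∃ e : Ω ≃ ZMod p, ∀ s b : ZMod p, s ≠ 0 →
      ∃ g : G, ∀ x, e (g • x) = s ^ 2 * e x + b := by
  classical
  have hpp : p.Prime := Fact.out
  obtain ⟨e, g₀, hg₀⟩ := exists_label (G := G) hp htrans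
  refine ⟨e, ?_⟩
  have hpow : ∀ k : ℕ, ∀ a, e ((g₀ ^ k) • a) = e a + k := by
    intro k
    induction k with
    | zero => intro a; simp
    | succ k ih =>
      intro a
      rw [pow_succ', mul_smul, hg₀, ih]
      push_cast
      ring
  have hord : orderOf g₀ = p := by
    apply orderOf_eq_prime
    · apply FaithfulSMul.eq_of_smul_eq_smul (α := Ω)
      intro a
      apply e.injective
      rw [hpow]
      simp
    · intro h
      have := hg₀ (e.symm 0)
      rw [h] at this
      simp at this
  have hQ : IsPGroup p (Subgroup.zpowers g₀) := by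
    apply IsPGroup.of_card (n := 1)
    rw [Nat.card_zpowers, hord, pow_one]
  obtain ⟨P', hP'⟩ := hQ.exists_le_sylow
  have hP'eq : (P' : Subgroup G) = Subgroup.zpowers g₀ := by
    symm
    apply Subgroup.eq_of_le_of_card_ge hP'
    rw [card_sylow' hp htrans P', Nat.card_zpowers, hord]
  have hcard : 2 * Nat.card ↥(Subgroup.normalizer ((P' : Subgroup G) : Set G)) = p * (p - 1) := by
    rw [← hN]
    congr 1
    have h1 : (Subgroup.normalizer ((P : Subgroup G) : Set G)).index =
        (Subgroup.normalizer ((P' : Subgroup G) : Set G)).index := by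
      have h2 := P.card_eq_index_normalizer
      have h3 := P'.card_eq_index_normalizer
      exact h2.symm.trans h3
    have h4 := Subgroup.card_mul_index (Subgroup.normalizer ((P : Subgroup G) : Set G))
    have h5 := Subgroup.card_mul_index (Subgroup.normalizer ((P' : Subgroup G) : Set G))
    rw [← h4, ← h1] at h5
    have h6 : (Subgroup.normalizer ((P : Subgroup G) : Set G)).index ≠ 0 :=
      Subgroup.index_ne_zero_of_finite
    exact Nat.eq_of_mul_eq_mul_right (Nat.pos_of_ne_zero h6) h5
  rw [hP'eq] at hcard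
  set N := Subgroup.normalizer ((Subgroup.zpowers g₀ : Subgroup G) : Set G) with hNdef
  -- elements of the normaliser are affine
  have haff : ∀ g ∈ N, ∃ k : ZMod p, ∀ a, e (g • a) = k * e a + e (g • e.symm 0) := by
    intro g hg
    have hconj : ∃ k : ℕ, g * g₀ * g⁻¹ = g₀ ^ k := by
      have h1 := (Subgroup.mem_normalizer_iff.1 hg g₀).1 (Subgroup.mem_zpowers _)
      rw [mem_zpowers_iff_mem_range_orderOf, Finset.mem_image] at h1
      obtain ⟨k, -, hk⟩ := h1
      exact ⟨k, hk.symm⟩
    obtain ⟨k, hk⟩ := hconj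
    have hsσ : ∀ a : Ω, g • (g₀ • a) = (g₀ ^ k) • (g • a) := by
      intro a
      rw [← hk]
      simp [mul_smul]
    have haff : ∀ n : ℕ, e (g • (e.symm n)) = k * n + e (g • e.symm 0) := by
      intro n
      induction n with
      | zero => simp
      | succ n ih =>
        have h1 : e.symm ((n + 1 : ℕ) : ZMod p) = g₀ • (e.symm n) := by
          rw [e.symm_apply_eq, hg₀]
          simp
        rw [h1, hsσ, hpow, ih]
        push_cast
        ring
    refine ⟨k, fun a => ?_⟩
    have := haff (e a).val
    rw [ZMod.natCast_val, ZMod.cast_id] at this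
    simpa using this
  let s : G → ZMod p := fun g => e (g • (e.symm 1)) - e (g • (e.symm 0))
  have hs : ∀ g ∈ N, ∀ x, e (g • x) = s g * e x + e (g • (e.symm 0)) := by
    intro g hg x
    obtain ⟨k, hk⟩ := haff g hg
    have : s g = k := by simp only [s]; rw [hk (e.symm 1)]; simp
    rw [this]
    exact hk x
  have hne : ∀ g ∈ N, s g ≠ 0 := by
    intro g hg h
    have h1 := hs g hg (e.symm 1)
    have h0 := hs g hg (e.symm 0)
    rw [h, zero_mul] at h1 h0
    have h2 : e.symm 1 = e.symm 0 :=
      MulAction.injective g (e.injective (by rw [h1, zero_add]))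
    exact one_ne_zero (e.symm.injective h2)
  have hmul : ∀ g g' : N, s (g * g') = s g * s g' := by
    intro g g'
    have h1 : ∀ x, e ((g * g' : G) • x) = s g * (s g' * e x + e ((g' : G) • (e.symm 0)))
        + e ((g : G) • (e.symm 0)) := by
      intro x
      rw [← hs g' g'.2 x, ← hs g g.2, mul_smul]
    have h2 : s (g * g' : G) = e ((g * g' : G) • (e.symm 1)) - e ((g * g' : G) • (e.symm 0)) := rfl
    rw [h2, h1, h1, e.apply_symm_apply, e.apply_symm_apply]
    ring
  let φ : N →* (ZMod p)ˣ := MonoidHom.mk' (fun g => Units.mk0 (s g) (hne g g.2)) (by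
    intro g g'
    ext
    simpa using hmul g g')
  have hφ : ∀ g : N, (φ g : ZMod p) = s g := fun g => rfl
  -- the kernel has order at most `p`
  have hker : Nat.card φ.ker ≤ p := by
    have h1 : Function.Injective (fun g : φ.ker => e ((g : G) • (e.symm 0))) := by
      intro g g' h
      have hg : s g = 1 := by
        rw [← hφ, (MonoidHom.mem_ker.1 g.2)]; rfl
      have hg' : s g' = 1 := by
        rw [← hφ, (MonoidHom.mem_ker.1 g'.2)]; rfl
      apply Subtype.ext
      apply Subtype.ext
      apply FaithfulSMul.eq_of_smul_eq_smul (α := Ω)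
      intro x
      apply e.injective
      rw [hs g g.1.2, hs g' g'.1.2, hg, hg']
      exact congrArg _ h
    have h2 := Nat.card_le_card_of_injective _ h1
    rwa [Nat.card_zmod] at h2
  have hindex : φ.range.index = 1 ∨ φ.range.index = 2 := by
    have h1 := Subgroup.card_mul_index φ.ker
    rw [Subgroup.index_ker] at h1
    have h2 := Subgroup.card_mul_index φ.range
    rw [Nat.card_units, Nat.card_zmod] at h2
    have h3 : 0 < Nat.card φ.range := Nat.card_pos
    have h4 : φ.range.index ≠ 0 := Subgroup.index_ne_zero_of_finite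
    have h5 : p * (p - 1) ≤ p * (2 * Nat.card φ.range) := by
      rw [← hcard, ← h1]
      calc 2 * (Nat.card φ.ker * Nat.card φ.range) ≤ 2 * (p * Nat.card φ.range) := by
            gcongr
        _ = p * (2 * Nat.card φ.range) := by ring
    have h6 : p - 1 ≤ 2 * Nat.card φ.range := Nat.le_of_mul_le_mul_left h5 hpp.pos
    rw [← h2] at h6
    have h7 : φ.range.index ≤ 2 := by
      by_contra h8
      push Not at h8
      have : Nat.card φ.range * 3 ≤ Nat.card φ.range * φ.range.index :=
        Nat.mul_le_mul_left _ h8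
      omega
    omega
  have hsq : ∀ u : (ZMod p)ˣ, u ^ 2 ∈ φ.range := by
    intro u
    rcases hindex with h | h
    · rw [Subgroup.index_eq_one.1 h]; trivial
    · exact Subgroup.sq_mem_of_index_two h u
  intro t b ht
  obtain ⟨g, hg⟩ := hsq (Units.mk0 t ht)
  have hsg : s g = t ^ 2 := by
    rw [← hφ, hg]
    simp
  refine ⟨g₀ ^ (b - e ((g : G) • e.symm 0)).val * g, fun x => ?_⟩
  rw [mul_smul, hpow, hs g g.2, hsg, ZMod.natCast_val, ZMod.cast_id]
  ring

end transport

end Cfsg.Agent.H409
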