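import Cfsg.Agent.H409.PrimeLin

/-!
Transitive insoluble groups of prime degree `p ≡ 3 (mod 4)`, `p > 7`, containing all the maps
`x ↦ s ^ 2 * x + b` leave no non-trivial linear space invariant (a Netto triple system with more
than seven points has no triangle-transitive group of automorphisms).
-/

set_option autoImplicit false

namespace Cfsg.Agent.H409

namespace LinSp

section

variable {G Ω : Type*} [Group G] [MulAction G Ω] {Col : Ω → Ω → Ω → Prop}

open Classical in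
/-- The third point. -/
noncomputable def tp (Col : Ω → Ω → Ω → Prop) (x y : Ω) : Ω :=
  if h : ∃ z, Col x y z then h.choose else x

theorem tp_spec (h : LinSp G Col) {x y : Ω} (hxy : x ≠ y) : Col x y (tp Col x y) := by
  have h1 := h.ex hxy
  rw [tp, dif_pos h1]
  exact h1.choose_spec

/-- Each line has three points. -/
def Uniq (Col : Ω → Ω → Ω → Prop) : Prop :=
  ∀ {x y z z' : Ω}, Col x y z → Col x y z' → z = z'

theorem tp_eq (h : LinSp G Col) (hu : Uniq Col) {x y z : Ω} (hc : Col x y z) : tp Col x y = z :=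
  hu (h.tp_spec (h.ne12 hc)) hc

theorem tp_comm (h : LinSp G Col) (hu : Uniq Col) {x y : Ω} (hxy : x ≠ y) :
    tp Col x y = tp Col y x :=
  h.tp_eq hu (h.sw12 (h.tp_spec hxy.symm))

theorem tp_tp (h : LinSp G Col) (hu : Uniq Col) {x y : Ω} (hxy : x ≠ y) :
    tp Col x (tp Col x y) = y :=
  h.tp_eq hu (h.sw23 (h.tp_spec hxy))

theorem tp_smul (h : LinSp G Col) (hu : Uniq Col) (g : G) {x y : Ω} (hxy : x ≠ y) :
    tp Col (g • x) (g • y) = g • tp Col x y :=
  h.tp_eq hu (h.inv g (h.tp_spec hxy))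

variable [Finite G]

/-- **Involution lemma** for a triangle-transitive group of automorphisms of a triple system. -/
theorem tp_mem_line (h : LinSp G Col) (hu : Uniq Col) {a b c : Ω}
    (htri : ∀ x x' : Ω, x ≠ a → x ≠ b → x ≠ c → x' ≠ a → x' ≠ b → x' ≠ c →
      ∃ g : G, g • a = a ∧ g • b = b ∧ g • x = x')
    (ρ : Ω → Ω) {x : Ω} (hxa : x ≠ a) (hxb : x ≠ b) (hxc : x ≠ c)
    (hρ : ∀ g : G, g • a = a → g • b = b → g • x ≠ a → g • x ≠ b → g • x ≠ c →
      ρ (g • x) = g • ρ x)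
    (hρa : ρ x ≠ a) (hρb : ρ x ≠ b) (hρc : ρ x ≠ c) (hne : ρ x ≠ x) (hρρ : ρ (ρ x) = x) :
    tp Col x (ρ x) = a ∨ tp Col x (ρ x) = b ∨ tp Col x (ρ x) = c := by
  by_contra hcon
  push Not at hcon
  obtain ⟨hwa, hwb, hwc⟩ := hcon
  set w := tp Col x (ρ x) with hw
  have hcol : Col x (ρ x) w := h.tp_spec (Ne.symm hne)
  obtain ⟨t, hta, htb, htx⟩ := htri x (ρ x) hxa hxb hxc hρa hρb hρc
  have htρ : t • ρ x = x := by
    rw [← hρ t hta htb (by rwa [htx]) (by rwa [htx]) (by rwa [htx]), htx, hρρ]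
  have htw : t • w = w := by
    have h1 := h.inv t hcol
    rw [htx, htρ] at h1
    exact hu (h.sw12 h1) hcol
  obtain ⟨d, hda, hdb, hdx⟩ := htri x w hxa hxb hxc hwa hwb hwc
  let K : Ω → Subgroup G := fun y => MulAction.stabilizer G ((a, b, y) : Ω × Ω × Ω)
  have hmem : ∀ y (k : G), k ∈ K y ↔ k • a = a ∧ k • b = b ∧ k • y = y := by
    intro y k
    simp [K, MulAction.mem_stabilizer_iff, Prod.smul_mk]
  have hle : K x ≤ K w := by
    intro k hk
    rw [hmem] at hk ⊢
    refine ⟨hk.1, hk.2.1, ?_⟩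
    have h1 := h.inv k hcol
    rw [hk.2.2, ← hρ k hk.1 hk.2.1 (by rwa [hk.2.2]) (by rwa [hk.2.2]) (by rwa [hk.2.2]),
      hk.2.2] at h1
    exact hu h1 hcol
  have hcard : Nat.card (K w) = Nat.card (K x) := by
    have h1 : ((a, b, w) : Ω × Ω × Ω) = d • (a, b, x) := by
      simp [Prod.smul_mk, hda, hdb, hdx]
    simp only [K]
    rw [h1]
    exact Nat.card_congr (MulAction.stabilizerEquivStabilizer (g := d)
      (show d • ((a, b, x) : Ω × Ω × Ω) = d • (a, b, x) from rfl)).symm.toEquiv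
  have hKK : K x = K w := Subgroup.eq_of_le_of_card_ge hle hcard.le
  have htK : t ∈ K w := (hmem _ _).2 ⟨hta, htb, htw⟩
  rw [← hKK, hmem] at htK
  exact hne (htx.symm.trans htK.2.2)

/-- The stabiliser structure of a line: Pasch or affine law. -/
theorem pasch_or_affine (h : LinSp G Col) (hu : Uniq Col) {a b c : Ω} (habc : Col a b c)
    (htri : ∀ x x' : Ω, x ≠ a → x ≠ b → x ≠ c → x' ≠ a → x' ≠ b → x' ≠ c →
      ∃ g : G, g • a = a ∧ g • b = b ∧ g • x = x') :
    (∀ x, x ≠ a → x ≠ b → x ≠ c → tp Col b (tp Col a x) = tp Col c x) ∨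
    (∀ x, x ≠ a → x ≠ b → x ≠ c → tp Col a (tp Col b (tp Col a x)) = tp Col c x) := by
  have hab := h.ne12 habc
  have hac := h.ne13 habc
  have hbc := h.ne23 habc
  by_cases hex : ∃ x, x ≠ a ∧ x ≠ b ∧ x ≠ c
  swap
  · left
    intro x h1 h2 h3
    exact absurd ⟨x, h1, h2, h3⟩ hex
  obtain ⟨x, hxa, hxb, hxc⟩ := hex
  -- each of the three maps preserves the complement of the line
  have hA : ∀ x, x ≠ a → x ≠ b → x ≠ c → tp Col a x ≠ a ∧ tp Col a x ≠ b ∧ tp Col a x ≠ c := by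
    intro x hxa hxb hxc
    have h1 := h.tp_spec (Ne.symm hxa)
    refine ⟨fun h2 => h.ne13 h1 h2.symm, fun h2 => ?_, fun h2 => ?_⟩
    · rw [h2] at h1
      exact hxc (hu (h.sw23 h1) habc)
    · rw [h2] at h1
      exact hxb (hu (h.sw23 h1) (h.sw23 habc))
  have hB : ∀ x, x ≠ a → x ≠ b → x ≠ c → tp Col b x ≠ a ∧ tp Col b x ≠ b ∧ tp Col b x ≠ c := by
    intro x hxa hxb hxc
    have h1 := h.tp_spec (Ne.symm hxb)
    refine ⟨fun h2 => ?_, fun h2 => h.ne13 h1 h2.symm, fun h2 => ?_⟩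
    · rw [h2] at h1
      exact hxc (hu (h.sw23 h1) (h.sw12 habc))
    · rw [h2] at h1
      exact hxa (hu (h.sw23 h1) (h.sw23 (h.sw12 habc)))
  -- equivariance
  have hfix : ∀ g : G, g • a = a → g • b = b → g • c = c := by
    intro g hga hgb
    have h1 := h.inv g habc
    rw [hga, hgb] at h1
    exact hu h1 habc
  have eA : ∀ g : G, g • a = a → ∀ x, x ≠ a → tp Col a (g • x) = g • tp Col a x := by
    intro g hga x hx
    conv_lhs => rw [← hga]
    exact h.tp_smul hu g (Ne.symm hx)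
  have eB : ∀ g : G, g • b = b → ∀ x, x ≠ b → tp Col b (g • x) = g • tp Col b x := by
    intro g hgb x hx
    conv_lhs => rw [← hgb]
    exact h.tp_smul hu g (Ne.symm hx)
  have eC : ∀ g : G, g • c = c → ∀ x, x ≠ c → tp Col c (g • x) = g • tp Col c x := by
    intro g hgc x hx
    conv_lhs => rw [← hgc]
    exact h.tp_smul hu g (Ne.symm hx)
  -- from a statement "third point in the line"
  have conv : ∀ y u v : Ω, y ≠ u → tp Col y u = v → tp Col v y = u := by
    intro y u v hyu h1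
    have h2 := h.tp_spec hyu
    rw [h1] at h2
    exact h.tp_eq hu (h.sw12 (h.sw23 h2))
  have hAne : ∀ x, x ≠ a → tp Col a x ≠ x := fun x hx h1 =>
    h.ne23 (h.tp_spec (Ne.symm hx)) h1.symm
  have hBne : ∀ x, x ≠ b → tp Col b x ≠ x := fun x hx h1 =>
    h.ne23 (h.tp_spec (Ne.symm hx)) h1.symm
  have hAA : ∀ x, x ≠ a → tp Col a (tp Col a x) = x := fun x hx => h.tp_tp hu (Ne.symm hx)
  have hBB : ∀ x, x ≠ b → tp Col b (tp Col b x) = x := fun x hx => h.tp_tp hu (Ne.symm hx)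
  have hABne : ∀ x, x ≠ a → x ≠ b → tp Col a x ≠ tp Col b x := by
    intro x hxa hxb h1
    have h3 := h.tp_spec (Ne.symm hxa)
    have h4 := h.tp_spec (Ne.symm hxb)
    rw [← h1] at h4
    exact hab (hu (h.sw12 (h.sw23 (h.sw12 h3))) (h.sw12 (h.sw23 (h.sw12 h4))))
  obtain ⟨ax1, ax2, ax3⟩ := hA x hxa hxb hxc
  obtain ⟨bax1, bax2, bax3⟩ := hB _ ax1 ax2 ax3
  obtain ⟨abax1, abax2, abax3⟩ := hA _ bax1 bax2 bax3
  obtain ⟨bx1, bx2, bx3⟩ := hB x hxa hxb hxc
  have hbax_ne_x : tp Col b (tp Col a x) ≠ x := by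
    intro h1
    apply hABne x hxa hxb
    conv_rhs => rw [← h1]
    rw [hBB _ ax2]
  have main : ∀ ρ : Ω → Ω, (∀ g : G, g • a = a → g • b = b → g • x ≠ a → g • x ≠ b → g • x ≠ c →
      ρ (g • x) = g • ρ x) → ρ x ≠ a → ρ x ≠ b → ρ x ≠ c → ρ x ≠ x → ρ (ρ x) = x →
      tp Col a x = ρ x ∨ tp Col b x = ρ x ∨ tp Col c x = ρ x := by
    intro ρ h1 h2 h3 h4 h5 h6
    rcases h.tp_mem_line hu htri ρ hxa hxb hxc h1 h2 h3 h4 h5 h6 with h7 | h7 | h7
    · exact Or.inl (conv _ _ _ (Ne.symm h5) h7)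
    · exact Or.inr (Or.inl (conv _ _ _ (Ne.symm h5) h7))
    · exact Or.inr (Or.inr (conv _ _ _ (Ne.symm h5) h7))
  have hgx : ∀ g : G, g • a = a → g • b = b → g • c = c → ∀ y, y ≠ a → y ≠ b → y ≠ c →
      g • y ≠ a ∧ g • y ≠ b ∧ g • y ≠ c := by
    intro g hga hgb hgc y h1 h2 h3
    refine ⟨fun h4 => h1 (MulAction.injective g (h4.trans hga.symm)),
      fun h4 => h2 (MulAction.injective g (h4.trans hgb.symm)),
      fun h4 => h3 (MulAction.injective g (h4.trans hgc.symm))⟩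
  have eABA : ∀ g : G, g • a = a → g • b = b →
      tp Col a (tp Col b (tp Col a (g • x))) = g • tp Col a (tp Col b (tp Col a x)) := by
    intro g hga hgb
    rw [eA g hga x hxa, eB g hgb _ ax2, eA g hga _ bax1]
  have eBA : ∀ g : G, g • a = a → g • b = b →
      tp Col b (tp Col a (g • x)) = g • tp Col b (tp Col a x) := by
    intro g hga hgb
    rw [eA g hga x hxa, eB g hgb _ ax2]
  have hρρ : tp Col a (tp Col b (tp Col a (tp Col a (tp Col b (tp Col a x))))) = x := by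
    rw [hAA _ bax1, hBB _ ax2, hAA _ hxa]
  have hρne : tp Col a (tp Col b (tp Col a x)) ≠ x := by
    intro h1
    apply hBne (tp Col a x) ax2
    rw [← hAA _ bax1, h1]
  rcases main (fun y => tp Col a (tp Col b (tp Col a y))) (fun g hga hgb _ _ _ => eABA g hga hgb)
    abax1 abax2 abax3 hρne hρρ with h1 | h1 | h1
  · exfalso
    apply hbax_ne_x
    rw [← hAA _ bax1, ← h1, hAA _ hxa]
  · left
    have h2 : tp Col b (tp Col a (tp Col b (tp Col a x))) = x := by
      rw [← h1, hBB _ hxb]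
    have h3 : tp Col c x = tp Col b (tp Col a x) := by
      rcases main (fun y => tp Col b (tp Col a y)) (fun g hga hgb _ _ _ => eBA g hga hgb)
        bax1 bax2 bax3 hbax_ne_x h2 with h4 | h4 | h4
      · exact absurd h4.symm (hBne _ ax2)
      · exfalso
        apply hAne x hxa
        rw [← hBB _ ax2, ← h4, hBB _ hxb]
      · exact h4
    intro y h4 h5 h6
    obtain ⟨g, hga, hgb, rfl⟩ := htri x y hxa hxb hxc h4 h5 h6
    rw [eBA g hga hgb, ← h3, eC g (hfix g hga hgb) x hxc]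
  · right
    intro y h4 h5 h6
    obtain ⟨g, hga, hgb, rfl⟩ := htri x y hxa hxb hxc h4 h5 h6
    rw [eABA g hga hgb, eC g (hfix g hga hgb) x hxc, h1]

end

section

variable {G Ω : Type*} [Group G] [MulAction G Ω] {p : ℕ} [Fact p.Prime]
  {Col : Ω → Ω → Ω → Prop}

/-- A Netto triple system with more than seven points has no triangle-transitive group. -/
theorem false_of_tri [Finite G] (h : LinSp G Col) (hu : Uniq Col) (hp3 : p % 4 = 3) (hp7 : 7 < p)
    {e : Ω ≃ ZMod p} (he : HalfAff G e)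
    (htri : ∀ a b x x' : Ω, a ≠ b → x ≠ a → x ≠ b → ¬ Col a b x → x' ≠ a → x' ≠ b →
      ¬ Col a b x' → ∃ g : G, g • a = a ∧ g • b = b ∧ g • x = x') : False := by
  have hp : p.Prime := Fact.out
  obtain ⟨ζ, hζ1, hζ2, hζ3⟩ := h.exists_zeta hp3 he
  have hcast : ∀ n : ℕ, 0 < n → n < p → ((n : ℕ) : ZMod p) ≠ 0 := by
    intro n hn hnp h1
    rw [ZMod.natCast_eq_zero_iff] at h1
    have := Nat.le_of_dvd hn h1
    omega
  have h2 : (2 : ZMod p) ≠ 0 := by exact_mod_cast hcast 2 (by norm_num) (by omega)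
  have h3 : (3 : ZMod p) ≠ 0 := by exact_mod_cast hcast 3 (by norm_num) (by omega)
  have h5 : (5 : ZMod p) ≠ 0 := by exact_mod_cast hcast 5 (by norm_num) (by omega)
  have h7 : (7 : ZMod p) ≠ 0 := by exact_mod_cast hcast 7 (by norm_num) (by omega)
  have hζ0 : ζ ≠ 0 := by
    rintro rfl
    simp at hζ1
  have hζne1 : ζ ≠ 1 := by
    rintro rfl
    simp at hζ1
  have T1 : ∀ x y : ZMod p, x ≠ y → IsSquare (y - x) →
      tp Col (e.symm x) (e.symm y) = e.symm ((y - x) * ζ + x) := fun x y hxy hs =>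
    h.tp_eq hu ((h.third_square he hζ3 hxy hs _).2 rfl)
  have T2 : ∀ x y : ZMod p, ¬ IsSquare (y - x) →
      tp Col (e.symm x) (e.symm y) = e.symm ((y - x) * (1 - ζ) + x) := fun x y hs =>
    h.tp_eq hu ((h.third_nonsquare hp3 he hζ3 hs _).2 rfl)
  -- the point
  obtain ⟨u, hu4⟩ : ∃ u : ZMod p, 16 * u = 25 := ⟨25 / 16, by
    have : (16 : ZMod p) ≠ 0 := by
      have : (16 : ZMod p) = 2 ^ 4 := by norm_num
      rw [this]; exact pow_ne_zero _ h2
    field_simp⟩
  have h16 : (16 : ZMod p) ≠ 0 := by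
    have : (16 : ZMod p) = 2 ^ 4 := by norm_num
    rw [this]; exact pow_ne_zero _ h2
  have hu0 : u ≠ 0 := by
    rintro rfl
    rw [mul_zero] at hu4
    have : (5 : ZMod p) ^ 2 = 0 := by rw [← mul_zero (16 : ZMod p)] at *; linear_combination -hu4
    exact pow_ne_zero 2 h5 this
  have hu1 : u - 1 ≠ 0 := by
    intro h1
    have h4 : (3 : ZMod p) ^ 2 = 0 := by linear_combination 16 * h1 - hu4
    exact pow_ne_zero 2 h3 h4
  have hu2 : u ≠ 2 := by
    intro h1
    apply h7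
    linear_combination hu4 - 16 * h1
  have h4 : (4 : ZMod p) ≠ 0 := by
    have : (4 : ZMod p) = 2 ^ 2 := by norm_num
    rw [this]; exact pow_ne_zero _ h2
  have hsq : IsSquare u := ⟨5 / 4, by
    have : u = 25 / 16 := by rw [eq_div_iff h16]; linear_combination hu4
    rw [this]; field_simp; norm_num⟩
  have hsq1 : IsSquare (u - 1) := ⟨3 / 4, by
    have : u = 25 / 16 := by rw [eq_div_iff h16]; linear_combination hu4
    rw [this]; field_simp; norm_num⟩
  have huζ : u ≠ ζ := fun h1 => hζ2 (h1 ▸ hsq)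
  have hns : ¬ IsSquare ((u - 1) * ζ) := by
    rintro hs
    apply hζ2
    have h6 : ζ = (u - 1) * ζ / (u - 1) := by field_simp
    rw [h6]
    exact hs.div hsq1
  -- the values
  have v1 : tp Col (e.symm 0) (e.symm u) = e.symm (u * ζ) := by
    rw [T1 0 u (Ne.symm hu0) (by rwa [sub_zero])]
    congr 1; ring
  have v2 : tp Col (e.symm ζ) (e.symm (u * ζ)) = e.symm (u - 1 + ζ) := by
    rw [T2 ζ (u * ζ) (by rwa [show u * ζ - ζ = (u - 1) * ζ by ring])]
    congr 1
    linear_combination (1 - u) * hζ1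
  have v3 : tp Col (e.symm 1) (e.symm u) = e.symm ((u - 1) * ζ + 1) :=
    T1 1 u (fun h6 => hu1 (by rw [← h6, sub_self])) hsq1
  have hcol01 : Col (e.symm 0) (e.symm 1) (e.symm ζ) := (hζ3 _).2 rfl
  have hcol : Col (e.symm 0) (e.symm ζ) (e.symm 1) := h.sw23 hcol01
  have hne : ∀ {x y : ZMod p}, x ≠ y → e.symm x ≠ e.symm y := fun hxy h6 =>
    hxy (e.symm.injective h6)
  rcases h.pasch_or_affine hu hcol (fun x x' h11 h12 h13 h14 h15 h16 =>
    htri _ _ x x' (hne hζ0.symm) h11 h12 (fun h17 => h13 (hu h17 hcol)) h14 h15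
      (fun h17 => h16 (hu h17 hcol))) with h6 | h6
  · have h8 := h6 (e.symm u) (hne hu0) (hne huζ) (hne (fun h9 => hu1 (by rw [h9, sub_self])))
    rw [v1, v2, v3] at h8
    have h9 := e.symm.injective h8
    have h10 : (u - 2) * (1 - ζ) = 0 := by linear_combination h9
    rcases mul_eq_zero.1 h10 with h11 | h11
    · exact hu2 (sub_eq_zero.1 h11)
    · exact hζne1 (sub_eq_zero.1 h11).symm
  · have h8 := h6 (e.symm u) (hne hu0) (hne huζ) (hne (fun h9 => hu1 (by rw [h9, sub_self])))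
    rw [v1, v2, v3] at h8
    by_cases hs : IsSquare (u - 1 + ζ)
    · have hne0 : (0 : ZMod p) ≠ u - 1 + ζ := by
        intro h9
        apply hζ2
        have h10 : ζ = 1 / u := by
          rw [eq_div_iff hu0]
          linear_combination -ζ * h9 - hζ1
        rw [h10]
        exact IsSquare.one.div hsq
      rw [T1 0 _ hne0 (by rwa [sub_zero])] at h8
      have h9 := e.symm.injective h8
      have h10 : ζ ^ 2 = 1 := by linear_combination h9
      have h11 : ζ = 2 := by linear_combination h10 - hζ1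
      apply h3
      rw [h11] at h10
      linear_combination h10
    · rw [T2 0 _ (by rwa [sub_zero])] at h8
      have h9 := e.symm.injective h8
      have h10 : (u - 1) * (1 - 2 * ζ) = 0 := by linear_combination h9 + hζ1
      rcases mul_eq_zero.1 h10 with h11 | h11
      · exact hu1 h11
      · apply h3
        linear_combination 4 * hζ1 + (2 * ζ - 1) * h11
end

end LinSp

end Cfsg.Agent.H409
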