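import Cfsg.Agent.H409.PrimeHalf

/-!
Transitive groups of prime degree `p` whose Sylow `p`-normaliser has order `p (p - 1) / 2`
consist of even permutations.
-/

set_option autoImplicit false

namespace Cfsg.Agent.H409

section

variable {G Ω : Type*} [Group G] [MulAction G Ω]

/-- **Labelling, strong form.** -/
theorem exists_half_label_strong [Finite Ω] [Finite G] [FaithfulSMul G Ω] {p : ℕ} [Fact p.Prime]
    (hp2 : p ≠ 2) (hp : Nat.card Ω = p) (htrans : MulAction.IsPretransitive G Ω) (P : Sylow p G)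
    (hN : 2 * Nat.card ↥(Subgroup.normalizer ((P : Subgroup G) : Set G)) = p * (p - 1)) :
    ∃ (e : Ω ≃ ZMod p) (g₀ : G) (P' : Sylow p G), HalfAff G e ∧ (∀ x, e (g₀ • x) = e x + 1) ∧
      orderOf g₀ = p ∧ (P' : Subgroup G) = Subgroup.zpowers g₀ ∧
      ∀ g ∈ Subgroup.normalizer ((P' : Subgroup G) : Set G),
        ∃ s b : ZMod p, s ≠ 0 ∧ ∀ x, e (g • x) = s ^ 2 * e x + b := by
  classical
  have hpp : p.Prime := Fact.out
  obtain ⟨e, he⟩ := exists_half_label hp htrans P hN
  obtain ⟨g₀, hg₀⟩ := he 1 1 one_ne_zero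
  have hg₀ : ∀ x, e (g₀ • x) = e x + 1 := fun x => by rw [hg₀]; ring
  have hpow : ∀ k : ℕ, ∀ a, e ((g₀ ^ k) • a) = e a + k := by
    intro k
    induction k with
    | zero => intro a; simp
    | succ k ih =>
      intro a
      rw [pow_succ', mul_smul, hg₀, ih]
      push_cast
      ring
  have hord : orderOf g₀ = p := by
    apply orderOf_eq_prime
    · apply FaithfulSMul.eq_of_smul_eq_smul (α := Ω)
      intro a
      apply e.injective
      rw [hpow]
      simp
    · intro h
      have := hg₀ (e.symm 0)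
      rw [h] at this
      simp at this
  have hQ : IsPGroup p (Subgroup.zpowers g₀) := by
    apply IsPGroup.of_card (n := 1)
    rw [Nat.card_zpowers, hord, pow_one]
  obtain ⟨P', hP'⟩ := hQ.exists_le_sylow
  have hP'eq : (P' : Subgroup G) = Subgroup.zpowers g₀ := by
    symm
    apply Subgroup.eq_of_le_of_card_ge hP'
    rw [card_sylow' hp htrans P', Nat.card_zpowers, hord]
  refine ⟨e, g₀, P', he, hg₀, hord, hP'eq, ?_⟩
  have hcard : 2 * Nat.card ↥(Subgroup.normalizer ((P' : Subgroup G) : Set G)) = p * (p - 1) := by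
    rw [← hN]
    congr 1
    have h1 : (Subgroup.normalizer ((P : Subgroup G) : Set G)).index =
        (Subgroup.normalizer ((P' : Subgroup G) : Set G)).index := by
      have h2 := P.card_eq_index_normalizer
      have h3 := P'.card_eq_index_normalizer
      exact h2.symm.trans h3
    have h4 := Subgroup.card_mul_index (Subgroup.normalizer ((P : Subgroup G) : Set G))
    have h5 := Subgroup.card_mul_index (Subgroup.normalizer ((P' : Subgroup G) : Set G))
    rw [← h4, ← h1] at h5
    have h6 : (Subgroup.normalizer ((P : Subgroup G) : Set G)).index ≠ 0 :=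
      Subgroup.index_ne_zero_of_finite
    exact Nat.eq_of_mul_eq_mul_right (Nat.pos_of_ne_zero h6) h5
  rw [hP'eq] at hcard ⊢
  set N := Subgroup.normalizer ((Subgroup.zpowers g₀ : Subgroup G) : Set G) with hNdef
  -- elements of the normaliser are affine
  have haff : ∀ g ∈ N, ∃ k : ZMod p, ∀ a, e (g • a) = k * e a + e (g • e.symm 0) := by
    intro g hg
    have hconj : ∃ k : ℕ, g * g₀ * g⁻¹ = g₀ ^ k := by
      have h1 := (Subgroup.mem_normalizer_iff.1 hg g₀).1 (Subgroup.mem_zpowers _)
      rw [mem_zpowers_iff_mem_range_orderOf, Finset.mem_image] at h1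
      obtain ⟨k, -, hk⟩ := h1
      exact ⟨k, hk.symm⟩
    obtain ⟨k, hk⟩ := hconj
    have hsσ : ∀ a : Ω, g • (g₀ • a) = (g₀ ^ k) • (g • a) := by
      intro a
      rw [← hk]
      simp [mul_smul]
    have haff : ∀ n : ℕ, e (g • (e.symm n)) = k * n + e (g • e.symm 0) := by
      intro n
      induction n with
      | zero => simp
      | succ n ih =>
        have h1 : e.symm ((n + 1 : ℕ) : ZMod p) = g₀ • (e.symm n) := by
          rw [e.symm_apply_eq, hg₀]
          simp
        rw [h1, hsσ, hpow, ih]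
        push_cast
        ring
    refine ⟨k, fun a => ?_⟩
    have := haff (e a).val
    rw [ZMod.natCast_val, ZMod.cast_id] at this
    simpa using this
  let s : G → ZMod p := fun g => e (g • (e.symm 1)) - e (g • (e.symm 0))
  have hs : ∀ g ∈ N, ∀ x, e (g • x) = s g * e x + e (g • (e.symm 0)) := by
    intro g hg x
    obtain ⟨k, hk⟩ := haff g hg
    have : s g = k := by simp only [s]; rw [hk (e.symm 1)]; simp
    rw [this]
    exact hk x
  have hne : ∀ g ∈ N, s g ≠ 0 := by
    intro g hg h
    have h1 := hs g hg (e.symm 1)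
    have h0 := hs g hg (e.symm 0)
    rw [h, zero_mul] at h1 h0
    have h2 : e.symm 1 = e.symm 0 :=
      MulAction.injective g (e.injective (by rw [h1, zero_add]))
    exact one_ne_zero (e.symm.injective h2)
  have hmul : ∀ g g' : N, s (g * g') = s g * s g' := by
    intro g g'
    have h1 : ∀ x, e ((g * g' : G) • x) = s g * (s g' * e x + e ((g' : G) • (e.symm 0)))
        + e ((g : G) • (e.symm 0)) := by
      intro x
      rw [← hs g' g'.2 x, ← hs g g.2, mul_smul]
    have h2 : s (g * g' : G) = e ((g * g' : G) • (e.symm 1)) - e ((g * g' : G) • (e.symm 0)) := rfl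
    rw [h2, h1, h1, e.apply_symm_apply, e.apply_symm_apply]
    ring
  let φ : N →* (ZMod p)ˣ := MonoidHom.mk' (fun g => Units.mk0 (s g) (hne g g.2)) (by
    intro g g'
    ext
    simpa using hmul g g')
  have hφ : ∀ g : N, (φ g : ZMod p) = s g := fun g => rfl
  -- the kernel has order at least `p`
  have hg₀N : g₀ ∈ N := Subgroup.le_normalizer (Subgroup.mem_zpowers g₀)
  have hker : p ≤ Nat.card φ.ker := by
    have h1 : (⟨g₀, hg₀N⟩ : N) ∈ φ.ker := by
      rw [MonoidHom.mem_ker]
      apply Units.ext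
      rw [hφ]
      simp [s, hg₀]
    have h2 : orderOf (⟨⟨g₀, hg₀N⟩, h1⟩ : φ.ker) = orderOf g₀ := by
      rw [Subgroup.orderOf_mk, Subgroup.orderOf_mk]
    calc p = orderOf g₀ := hord.symm
      _ = orderOf (⟨⟨g₀, hg₀N⟩, h1⟩ : φ.ker) := h2.symm
      _ ≤ Nat.card φ.ker := orderOf_le_card
  have hrange : 2 * Nat.card φ.range ≤ p - 1 := by
    have h1 := Subgroup.card_mul_index φ.ker
    rw [Subgroup.index_ker] at h1
    have h2 : p * (2 * Nat.card φ.range) ≤ p * (p - 1) := by
      rw [← hcard, ← h1]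
      calc p * (2 * Nat.card φ.range) = 2 * (p * Nat.card φ.range) := by ring
        _ ≤ 2 * (Nat.card φ.ker * Nat.card φ.range) := by gcongr
    exact Nat.le_of_mul_le_mul_left h2 hpp.pos
  have hdvd : Nat.card φ.range ∣ (p - 1) := by
    have h2 := Subgroup.card_subgroup_dvd_card φ.range
    rwa [Nat.card_units, Nat.card_zmod] at h2
  have hpos : 0 < Nat.card φ.range := Nat.card_pos
  -- the range contains the squares, so has order `(p - 1) / 2`
  have hsqr : ∀ u : (ZMod p)ˣ, u ^ 2 ∈ φ.range := by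
    intro u
    obtain ⟨g, hg⟩ := he u 0 u.ne_zero
    have hgN : g ∈ N := by
      rw [hNdef, Subgroup.mem_normalizer_iff]
      -- conjugation takes `g₀` to a power
      have key : ∀ g : G, ∀ t : ZMod p, (∀ x, e (g • x) = t * e x) → t ≠ 0 → ∀ h ∈
          Subgroup.zpowers g₀, g * h * g⁻¹ ∈ Subgroup.zpowers g₀ := by
        intro g t hg ht h hh
        have h3 : g * g₀ * g⁻¹ = g₀ ^ t.val := by
          apply FaithfulSMul.eq_of_smul_eq_smul (α := Ω)
          intro x
          apply e.injective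
          rw [hpow, mul_smul, mul_smul, hg, hg₀, mul_add, ← hg, smul_inv_smul,
            ZMod.natCast_val, ZMod.cast_id, mul_one]
        obtain ⟨k, rfl⟩ := Subgroup.mem_zpowers_iff.1 hh
        rw [← conj_zpow, h3]
        exact Subgroup.zpow_mem _ (Subgroup.pow_mem _ (Subgroup.mem_zpowers _) _) _
      intro h
      constructor
      · exact key g ((u : ZMod p) ^ 2) (fun x => by rw [hg]; ring) (pow_ne_zero 2 u.ne_zero) h
      · intro h4
        have h5 := key g⁻¹ (((u : ZMod p) ^ 2)⁻¹) (fun x => by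
          have h6 := hg (g⁻¹ • x)
          rw [smul_inv_smul, add_zero] at h6
          rw [h6, ← mul_assoc, inv_mul_cancel₀ (pow_ne_zero 2 u.ne_zero), one_mul])
          (inv_ne_zero (pow_ne_zero 2 u.ne_zero)) _ h4
        simpa [mul_assoc] using h5
    refine ⟨⟨g, hgN⟩, ?_⟩
    apply Units.ext
    rw [hφ]
    simp [s, hg]
  have hcardr : Nat.card φ.range = p / 2 := by
    have h1 : φ.range.index = 1 ∨ φ.range.index = 2 := by
      have h2 : φ.range.index ∣ 2 := by
        have h3 : (φ.range.index : ℕ) = Nat.card ((ZMod p)ˣ ⧸ φ.range) := rfl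
        rw [h3]
        have hcyc : IsCyclic ((ZMod p)ˣ ⧸ φ.range) :=
          isCyclic_of_surjective (QuotientGroup.mk' φ.range) (QuotientGroup.mk'_surjective _)
        obtain ⟨x, hx⟩ := hcyc.exists_generator
        rw [← orderOf_eq_card_of_forall_mem_zpowers hx]
        apply orderOf_dvd_of_pow_eq_one
        induction x using QuotientGroup.induction_on with
        | H x =>
          rw [← QuotientGroup.mk_pow, QuotientGroup.eq_one_iff]
          exact hsqr x
      exact (Nat.dvd_prime Nat.prime_two).1 h2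
    have h2 := Subgroup.card_mul_index φ.range
    rw [Nat.card_units, Nat.card_zmod] at h2
    have hodd : p % 2 = 1 := hpp.eq_two_or_odd.resolve_left hp2
    rcases h1 with h1 | h1
    · rw [h1, mul_one] at h2
      have := hpp.two_le
      omega
    · rw [h1] at h2
      omega
  intro g hg
  have h1 : IsSquare (s g) := by
    rw [ZMod.euler_criterion p (hne g hg), ← hcardr]
    have h2 : (φ ⟨g, hg⟩) ^ (Nat.card φ.range) = 1 := by
      have h3 := pow_card_eq_one' (x := (⟨φ ⟨g, hg⟩, ⟨_, rfl⟩⟩ : φ.range))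
      exact congrArg Subtype.val h3
    have h4 := congrArg Units.val h2
    rw [Units.val_pow_eq_pow_val, hφ] at h4
    exact h4
  obtain ⟨t, ht⟩ := h1
  refine ⟨t, e (g • e.symm 0), ?_, fun x => ?_⟩
  · rintro rfl
    exact hne g hg (by rw [ht]; ring)
  · rw [hs g hg x, ht]; ring

/-- An affine permutation with square slope is even. -/
theorem sign_affine [Fintype Ω] [DecidableEq Ω] {p : ℕ} [Fact p.Prime] (hp2 : p ≠ 2)
    (e : Ω ≃ ZMod p) (f : Equiv.Perm Ω) {s b : ZMod p} (hs : s ≠ 0)
    (hf : ∀ x, e (f x) = s ^ 2 * e x + b) : Equiv.Perm.sign f = 1 := by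
  have hp : p.Prime := Fact.out
  have h2 : (2 : ZMod p) ≠ 0 := by
    intro h
    have h3 : ((2 : ℕ) : ZMod p) = 0 := by exact_mod_cast h
    rw [ZMod.natCast_eq_zero_iff] at h3
    exact hp2 ((Nat.prime_dvd_prime_iff_eq hp Nat.prime_two).1 h3)
  obtain ⟨t, ht, ht1, hts⟩ : ∃ t : ZMod p, t ≠ 0 ∧ t + 1 ≠ 0 ∧ t ^ 2 = s ^ 2 := by
    by_cases h : s + 1 = 0
    · refine ⟨1, one_ne_zero, by rwa [one_add_one_eq_two], ?_⟩
      have : s = -1 := by linear_combination h
      rw [this]; ring
    · exact ⟨s, hs, h, rfl⟩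
  let r₀ : Equiv.Perm (ZMod p) :=
    { toFun := fun x => t * x + b / (t + 1)
      invFun := fun x => (x - b / (t + 1)) / t
      left_inv := fun x => by field_simp; ring
      right_inv := fun x => by field_simp; ring }
  let r : Equiv.Perm Ω := (e.trans r₀).trans e.symm
  have hr : ∀ x, e (r x) = t * e x + b / (t + 1) := fun x => by
    simp only [r, Equiv.trans_apply, Equiv.apply_symm_apply]
    rfl
  have hfr : f = r * r := by
    ext x
    apply e.injective
    rw [hf, Equiv.Perm.mul_apply, hr, hr, ← hts]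
    field_simp
    ring
  rw [hfr, map_mul, ← pow_two, Int.units_sq]

/-- **Parity**: the group consists of even permutations. -/
theorem sign_eq_one [Fintype Ω] [DecidableEq Ω] [Finite G] [FaithfulSMul G Ω] {p : ℕ}
    [Fact p.Prime] (hp2 : p ≠ 2) (hp : Nat.card Ω = p) (htrans : MulAction.IsPretransitive G Ω)
    (P : Sylow p G)
    (hN : 2 * Nat.card ↥(Subgroup.normalizer ((P : Subgroup G) : Set G)) = p * (p - 1)) (g : G) :
    Equiv.Perm.sign (MulAction.toPerm g : Equiv.Perm Ω) = 1 := by
  have hpp : p.Prime := Fact.out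
  obtain ⟨e, g₀, P', he, hg₀, hord, hP', hN'⟩ := exists_half_label_strong hp2 hp htrans P hN
  let χ : G →* ℤˣ := Equiv.Perm.sign.comp (MulAction.toPermHom G Ω)
  have hχ : ∀ g, χ g = Equiv.Perm.sign (MulAction.toPerm g : Equiv.Perm Ω) := fun g => rfl
  rw [← hχ]
  have hle : (P' : Subgroup G) ≤ χ.ker := by
    rw [hP', Subgroup.zpowers_le, MonoidHom.mem_ker, hχ]
    exact sign_affine hp2 e _ (s := 1) (b := 1) one_ne_zero (fun x => by
      rw [one_pow, one_mul]; exact hg₀ x)
  have hfr : Subgroup.normalizer ((P' : Subgroup G) : Set G) ⊔ χ.ker = ⊤ :=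
    Sylow.normalizer_sup_eq_top' P' hle
  have hg : g ∈ ((Subgroup.normalizer ((P' : Subgroup G) : Set G) ⊔ χ.ker : Subgroup G) :
      Set G) := by
    rw [hfr]; trivial
  rw [Subgroup.mul_normal, Set.mem_mul] at hg
  obtain ⟨n, hn, k, hk, rfl⟩ := hg
  rw [map_mul, (MonoidHom.mem_ker.1 hk), mul_one, hχ]
  obtain ⟨s, b, hs, hsb⟩ := hN' n hn
  exact sign_affine hp2 e _ hs hsb

end

end Cfsg.Agent.H409
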