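import Cfsg.Agent.S3612
import Cfsg.Agent.H409.PrimeParity

/-!
Transitive insoluble groups of prime degree `p` with Sylow `p`-normaliser of order `p (p - 1) / 2`:
they are 3-transitive when `p ≡ 1 (mod 4)`, and when `p - 2` is a prime greater than 5.
-/

set_option autoImplicit false

namespace Cfsg.Agent.H409

section

variable {G Ω : Type*} [Group G] [MulAction G Ω]

theorem inj' {g : G} {x y : Ω} (h : x ≠ y) : g • x ≠ g • y := fun h' =>
  h (MulAction.injective g h')

theorem same_of_three_transitive (h : MulAction.IsMultiplyPretransitive G Ω 3)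
    {x y z x' y' z' : Ω} (h1 : x ≠ y) (h2 : x ≠ z) (h3 : y ≠ z) (h1' : x' ≠ y') (h2' : x' ≠ z')
    (h3' : y' ≠ z') : Same G x y z x' y' z' := by
  have hinj : ∀ {x y z : Ω}, x ≠ y → x ≠ z → y ≠ z → Function.Injective ![x, y, z] := by
    intro x y z h1 h2 h3 i j hij
    fin_cases i <;> fin_cases j <;> simp at hij ⊢
    · exact h1 hij
    · exact h2 hij
    · exact h1 hij.symm
    · exact h3 hij
    · exact h2 hij.symm
    · exact h3 hij.symm
  obtain ⟨g, hg⟩ := h.exists_smul_eq ⟨![x, y, z], hinj h1 h2 h3⟩ ⟨![x', y', z'], hinj h1' h2' h3'⟩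
  exact ⟨g, DFunLike.congr_fun hg 0, DFunLike.congr_fun hg 1, DFunLike.congr_fun hg 2⟩

/-- Even order of the Sylow `p`-normaliser: three-transitivity, for abstract actions. -/
theorem same_of_even [Finite G] [FaithfulSMul G Ω] [Finite Ω]
    {p : ℕ} [Fact p.Prime] (hΩ : Nat.card Ω = p) (htrans : MulAction.IsPretransitive G Ω)
    (hins : ¬ Group.IsSolvable G) (P : Sylow p G)
    (hN : Even (Nat.card ↥(Subgroup.normalizer ((P : Subgroup G) : Set G))))
    {x y z x' y' z' : Ω} (hxy : x ≠ y) (hxz : x ≠ z) (hyz : y ≠ z)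
    (hxy' : x' ≠ y') (hxz' : x' ≠ z') (hyz' : y' ≠ z') : Same G x y z x' y' z' := by
  classical
  have hp : p.Prime := Fact.out
  have := Fintype.ofFinite Ω
  have htr := permGroup_trans (G := G) (Ω := Ω)
  have hp' : Fintype.card Ω = p := by rw [← Nat.card_eq_fintype_card]; exact hΩ
  have hns := not_solvable_permGroup (G := G) (Ω := Ω) hins
  -- transport of the Sylow subgroup
  let f : G ≃* permGroup G Ω := permGroupEquiv
  let P' : Sylow p (permGroup G Ω) := P.mapSurjective f.surjective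
  have hP' : (P' : Subgroup (permGroup G Ω)) = (P : Subgroup G).map f.toMonoidHom := rfl
  have hcard : Nat.card ↥(Subgroup.normalizer ((P' : Subgroup (permGroup G Ω)) :
      Set (permGroup G Ω))) = Nat.card ↥(Subgroup.normalizer ((P : Subgroup G) : Set G)) := by
    have h2 : Nat.card (Sylow p G) =
        (Subgroup.normalizer ((P : Subgroup G) : Set G)).index := P.card_eq_index_normalizer
    have h3 : Nat.card (Sylow p (permGroup G Ω)) = (Subgroup.normalizer
        ((P' : Subgroup (permGroup G Ω)) : Set (permGroup G Ω))).index :=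
      P'.card_eq_index_normalizer
    have h4 := Subgroup.card_mul_index (Subgroup.normalizer ((P : Subgroup G) : Set G))
    have h5 := Subgroup.card_mul_index (Subgroup.normalizer
      ((P' : Subgroup (permGroup G Ω)) : Set (permGroup G Ω)))
    have h6 : Nat.card (Sylow p (permGroup G Ω)) = Nat.card (Sylow p G) := by
      rw [h3, h2, hP']
      have h7 : ∀ Q : Subgroup G, (Subgroup.normalizer ((Q.map f.toMonoidHom :
          Subgroup (permGroup G Ω)) : Set (permGroup G Ω))) =
          (Subgroup.normalizer (Q : Set G)).map f.toMonoidHom := by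
        intro Q
        exact (Subgroup.map_normalizer_eq_of_bijective _ f.bijective).symm
      rw [h7]
      exact Subgroup.index_map_equiv _ f
    rw [← Nat.card_congr f.toEquiv, ← h4, ← h3, h6, h2] at h5
    exact Nat.eq_of_mul_eq_mul_right
      (Nat.pos_of_ne_zero (Subgroup.index_ne_zero_of_finite (H := Subgroup.normalizer
        ((P : Subgroup G) : Set G)))) h5
  have h3 := Cfsg.Agent.S0676.result hp' (permGroup G Ω) hns P' (by rw [hcard]; exact hN)
  obtain ⟨⟨_, g, rfl⟩, hg⟩ := same_of_three_transitive h3 hxy hxz hyz hxy' hxz' hyz'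
  exact ⟨g, hg⟩

/-- `p ≡ 1 (mod 4)`: three-transitivity. -/
theorem same_of_one_mod_four [Finite G] [FaithfulSMul G Ω] [Finite Ω]
    {p : ℕ} [Fact p.Prime] (hΩ : Nat.card Ω = p) (htrans : MulAction.IsPretransitive G Ω)
    (hins : ¬ Group.IsSolvable G) (P : Sylow p G)
    (hN : 2 * Nat.card ↥(Subgroup.normalizer ((P : Subgroup G) : Set G)) = p * (p - 1))
    (h1 : p % 4 = 1) {x y z x' y' z' : Ω} (hxy : x ≠ y) (hxz : x ≠ z) (hyz : y ≠ z)
    (hxy' : x' ≠ y') (hxz' : x' ≠ z') (hyz' : y' ≠ z') : Same G x y z x' y' z' := by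
  refine same_of_even hΩ htrans hins P ?_ hxy hxz hyz hxy' hxz' hyz'
  obtain ⟨k, hk⟩ : ∃ k, p - 1 = 4 * k := ⟨(p - 1) / 4, by omega⟩
  rw [hk] at hN
  have : Nat.card ↥(Subgroup.normalizer ((P : Subgroup G) : Set G)) = 2 * (p * k) := by
    apply Nat.eq_of_mul_eq_mul_left (show 0 < 2 by norm_num)
    rw [hN]; ring
  rw [this]
  exact even_two_mul _

section three

variable {p : ℕ} [Fact p.Prime] [Fintype Ω] [FaithfulSMul G Ω]

/-- For `p ≡ 3 (mod 4)`, `p > 7`, point stabilisers have no non-trivial blocks. -/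
theorem no_block [Finite G] (hΩ : Nat.card Ω = p) (htrans : MulAction.IsPretransitive G Ω)
    (hins : ¬ Group.IsSolvable G) (hp3 : p % 4 = 3) (hp7 : 7 < p) {e : Ω ≃ ZMod p}
    (he : HalfAff G e) {α β₀ β₁ δ : Ω} {B : Set Ω} (hα : α ∉ B) (hβ₀ : β₀ ∈ B) (hβ₁ : β₁ ∈ B)
    (hne : β₁ ≠ β₀) (hδ : δ ∉ B) (hδα : δ ≠ α)
    (hB : ∀ g : G, g • α = α → (∃ x ∈ B, g • x ∈ B) → ∀ y ∈ B, g • y ∈ B) : False := by
  have htwo := two_transitive (G := G) (Ω := Ω) (by rw [hΩ]; exact Fact.out) htrans hins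
  obtain ⟨Col, hCol⟩ := Cfsg.Agent.S3612.exists_linSp (G := G) (α := α) (β₀ := β₀) (β₁ := β₁)
    (δ := δ) (B := B) htwo
    (fun x y z h1 h2 h3 => swap_same hΩ htrans hins hp3 he h1 h2 h3) hα hβ₀ hβ₁ hne hδ hδα hB
  have huniq : LinSp.Uniq Col := by
    intro x y z z' hz hz'
    have h01 : e.symm 0 ≠ e.symm 1 := fun h => zero_ne_one (e.symm.injective h)
    obtain ⟨g, hg1, hg2⟩ := htwo x y (e.symm 0) (e.symm 1) (hCol.ne12 hz) h01
    have h1 := hCol.inv g hz
    have h2 := hCol.inv g hz'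
    rw [hg1, hg2] at h1 h2
    exact MulAction.injective g (hCol.unique_third hp3 he h1 h2)
  refine hCol.false_of_tri huniq hp3 hp7 he ?_
  intro a b x x' hab hxa hxb hx hxa' hxb' hx'
  obtain ⟨z, hz⟩ := hCol.ex hab
  have hnz : ∀ w, ¬ Col a b w → ¬ Same G z a b w a b := by
    rintro w hw ⟨g, h1, h2, h3⟩
    apply hw
    have h4 := hCol.inv g hz
    rwa [h1, h2, h3] at h4
  obtain ⟨i, j, hij, h⟩ := two_orbits hΩ htrans hins hp3 he hab ![z, x, x'] (by
    intro i
    fin_cases i
    · exact ⟨(hCol.ne13 hz).symm, (hCol.ne23 hz).symm⟩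
    · exact ⟨hxa, hxb⟩
    · exact ⟨hxa', hxb'⟩)
  fin_cases i <;> fin_cases j <;> first
    | exact absurd rfl hij
    | exact absurd h (hnz _ hx)
    | exact absurd h (hnz _ hx')
    | exact absurd (Same.symm h) (hnz _ hx)
    | exact absurd (Same.symm h) (hnz _ hx')
    | (obtain ⟨g, h1, h2, h3⟩ := h; exact ⟨g, h2, h3, h1⟩)
    | (obtain ⟨g, h1, h2, h3⟩ := Same.symm h; exact ⟨g, h2, h3, h1⟩)

open Classical in
/-- A closed neighbourhood relation gives a block of the point stabiliser. -/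
theorem no_closed [Finite G] (hΩ : Nat.card Ω = p) (htrans : MulAction.IsPretransitive G Ω)
    (hins : ¬ Group.IsSolvable G) (hp3 : p % 4 = 3) (hp7 : 7 < p) {e : Ω ≃ ZMod p}
    (he : HalfAff G e) (U : Ω → Ω → Ω → Prop)
    (hinv : ∀ (g : G) x y z, U (g • x) (g • y) (g • z) ↔ U x y z)
    (hU : ∀ x y z, U x y z → x ≠ y ∧ x ≠ z ∧ y ≠ z) {α β β₁ δ : Ω} (hαβ : α ≠ β)
    (hβ₁ : U α β β₁) (hδα : δ ≠ α) (hδβ : δ ≠ β) (hδ : ¬ U α β δ)
    (hcl : ∀ x, (x = β ∨ U α β x) → ∀ y, U α x y → (y = β ∨ U α β y)) : False := by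
  have htwo := two_transitive (G := G) (Ω := Ω) (by rw [hΩ]; exact Fact.out) htrans hins
  let N : Ω → Finset Ω := fun x => Finset.univ.filter (fun y => U α x y)
  have hN : ∀ x y, y ∈ N x ↔ U α x y := fun x y => by simp [N]
  have hcard : ∀ x, x ≠ α → (N x).card = (N β).card := by
    intro x hx
    obtain ⟨g, hg1, hg2⟩ := htwo α β α x hαβ hx.symm
    have h1 : N x = (N β).map (MulAction.toPerm g).toEmbedding := by
      ext y
      obtain ⟨y, rfl⟩ := (MulAction.toPerm g).surjective y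
      rw [Finset.mem_map_equiv, Equiv.symm_apply_apply, hN, hN]
      change U α x (g • y) ↔ U α β y
      rw [← hinv g α β y, hg1, hg2]
    rw [h1, Finset.card_map]
  have hfull : ∀ x, (x = β ∨ U α β x) → ∀ y, (y = β ∨ U α β y) → y = x ∨ U α x y := by
    intro x hx
    have hxα : x ≠ α := by
      rcases hx with rfl | hx
      · exact hαβ.symm
      · exact (hU _ _ _ hx).2.1.symm
    have h1 : insert x (N x) ⊆ insert β (N β) := by
      intro y hy
      rw [Finset.mem_insert, hN] at hy ⊢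
      rcases hy with rfl | hy
      · exact hx
      · exact hcl x hx y hy
    have h2 : (insert x (N x)).card = (insert β (N β)).card := by
      rw [Finset.card_insert_of_notMem, Finset.card_insert_of_notMem, hcard x hxα]
      · rw [hN]; exact fun h => (hU _ _ _ h).2.2 rfl
      · rw [hN]; exact fun h => (hU _ _ _ h).2.2 rfl
    have h3 := Finset.eq_of_subset_of_card_le h1 h2.ge
    intro y hy
    have h4 : y ∈ insert β (N β) := by rw [Finset.mem_insert, hN]; exact hy
    rw [← h3, Finset.mem_insert, hN] at h4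
    exact h4
  refine no_block hΩ htrans hins hp3 hp7 he (α := α) (β₀ := β) (β₁ := β₁) (δ := δ)
    (B := {y | y = β ∨ U α β y}) ?_ (Or.inl rfl) (Or.inr hβ₁) (hU _ _ _ hβ₁).2.2.symm ?_ hδα ?_
  · rintro (h | h)
    · exact hαβ h
    · exact (hU _ _ _ h).2.1 rfl
  · rintro (h | h)
    · exact hδβ h
    · exact hδ h
  · rintro g hg ⟨x, hx, hgx⟩ y hy
    rcases hfull x hx y hy with rfl | h
    · exact hgx
    · refine hcl (g • x) hgx (g • y) ?_
      rw [← hg, hinv]
      exact h

open Classical in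
/-- **Coprime subdegrees**: for `p ≡ 3 (mod 4)`, `p > 7` and `p - 2` prime the group is
three-transitive. -/
theorem same_of_three_mod_four [Finite G] (hΩ : Nat.card Ω = p)
    (htrans : MulAction.IsPretransitive G Ω)
    (hins : ¬ Group.IsSolvable G) (hp3 : p % 4 = 3) (hp7 : 7 < p) (hq : (p - 2).Prime)
    {e : Ω ≃ ZMod p} (he : HalfAff G e) {x y z x' y' z' : Ω} (hxy : x ≠ y) (hxz : x ≠ z)
    (hyz : y ≠ z) (hxy' : x' ≠ y') (hxz' : x' ≠ z') (hyz' : y' ≠ z') :
    Same G x y z x' y' z' := by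
  by_contra hcon
  have htwo := two_transitive (G := G) (Ω := Ω) (by rw [hΩ]; exact Fact.out) htrans hins
  have hsw : ∀ {x y z : Ω}, y ≠ z → x ≠ y → x ≠ z → Same G x y z x z y := fun h1 h2 h3 =>
    swap_same hΩ htrans hins hp3 he h1 h2 h3
  set T : Ω → Ω → Ω → Prop := fun a b c => Same G x y z a b c with hT
  have hTd : ∀ {a b c}, T a b c → a ≠ b ∧ a ≠ c ∧ b ≠ c := by
    rintro a b c ⟨g, rfl, rfl, rfl⟩
    exact ⟨inj' hxy, inj' hxz, inj' hyz⟩
  have hTinv : ∀ (g : G) a b c, T (g • a) (g • b) (g • c) ↔ T a b c := fun g a b c =>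
    same_smul_iff g
  have hT23 : ∀ {a b c}, T a b c → T a c b := by
    intro a b c h
    exact h.trans (hsw (hTd h).2.2 (hTd h).1 (hTd h).2.1)
  have hT12 : ∀ {a b c}, T a b c → T b a c := by
    intro a b c h
    obtain ⟨g, h1, h2, h3⟩ := hsw (x := c) (y := a) (z := b) (hTd h).1 (hTd h).2.1.symm
      (hTd h).2.2.symm
    exact h.trans ⟨g, h2, h3, h1⟩
  -- the complementary relation is a single orbit
  have hone : ∀ {a b c a' b' c'}, a ≠ b → a ≠ c → b ≠ c → a' ≠ b' → a' ≠ c' → b' ≠ c' →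
      ¬ T a b c → ¬ T a' b' c' → Same G a b c a' b' c' := by
    intro a b c a' b' c' h1 h2 h3 h1' h2' h3' hn hn'
    obtain ⟨g, hg1, hg2⟩ := htwo a b x y h1 hxy
    obtain ⟨g', hg1', hg2'⟩ := htwo a' b' x y h1' hxy
    have e1 : Same G a b c x y (g • c) := ⟨g, hg1, hg2, rfl⟩
    have e2 : Same G a' b' c' x y (g' • c') := ⟨g', hg1', hg2', rfl⟩
    have d1 : g • c ≠ x ∧ g • c ≠ y := by
      rw [← hg1, ← hg2]; exact ⟨inj' h2.symm, inj' h3.symm⟩
    have d2 : g' • c' ≠ x ∧ g' • c' ≠ y := by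
      rw [← hg1', ← hg2']; exact ⟨inj' h2'.symm, inj' h3'.symm⟩
    have n1 : ¬ T x y (g • c) := fun h => hn (h.trans e1.symm)
    have n2 : ¬ T x y (g' • c') := fun h => hn' (h.trans e2.symm)
    have hrot : ∀ {u v : Ω}, Same G u x y v x y → Same G x y u x y v := by
      rintro u v ⟨g, h1, h2, h3⟩
      exact ⟨g, h2, h3, h1⟩
    obtain ⟨i, j, hij, h⟩ := two_orbits hΩ htrans hins hp3 he hxy ![z, g • c, g' • c'] (by
      intro i
      fin_cases i
      · exact ⟨hxz.symm, hyz.symm⟩
      · exact d1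
      · exact d2)
    fin_cases i <;> fin_cases j <;> first
      | exact absurd rfl hij
      | exact absurd (hrot h) n1
      | exact absurd (hrot h) n2
      | exact absurd (hrot (Same.symm h)) n1
      | exact absurd (hrot (Same.symm h)) n2
      | exact e1.trans ((hrot h).trans e2.symm)
      | exact e1.trans ((hrot (Same.symm h)).trans e2.symm)
  -- a point off
  obtain ⟨g₁, hg₁, hg₁'⟩ := htwo x' y' x y hxy' hxy
  set w := g₁ • z' with hw
  have hwx : w ≠ x := by rw [← hg₁]; exact inj' hxz'.symm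
  have hwy : w ≠ y := by rw [← hg₁']; exact inj' hyz'.symm
  have hTw : ¬ T x y w := by
    intro h
    exact hcon (h.trans (Same.symm ⟨g₁, hg₁, hg₁', rfl⟩))
  have hTz : T x y z := Same.refl _ _ _
  let A : Ω → Finset Ω := fun u => Finset.univ.filter (fun v => T x u v)
  let D : Finset Ω := Finset.univ.filter (fun v => v ≠ x ∧ v ≠ y ∧ ¬ T x y v)
  have hA : ∀ u v, v ∈ A u ↔ T x u v := fun u v => by simp [A]
  have hD : ∀ v, v ∈ D ↔ v ≠ x ∧ v ≠ y ∧ ¬ T x y v := fun v => by simp [D]
  have hsum : (A y).card + D.card = p - 2 := by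
    have h1 : Disjoint (A y) D := by
      rw [Finset.disjoint_left]
      intro v hv hv'
      rw [hA] at hv
      rw [hD] at hv'
      exact hv'.2.2 hv
    have h2 : A y ∪ D = (Finset.univ.erase x).erase y := by
      ext v
      rw [Finset.mem_union, hA, hD, Finset.mem_erase, Finset.mem_erase]
      constructor
      · rintro (h | h)
        · exact ⟨(hTd h).2.2.symm, (hTd h).2.1.symm, Finset.mem_univ _⟩
        · exact ⟨h.2.1, h.1, Finset.mem_univ _⟩
      · rintro ⟨h3, h4, -⟩
        by_cases h : T x y v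
        · exact Or.inl h
        · exact Or.inr ⟨h4, h3, h⟩
    rw [← Finset.card_union_of_disjoint h1, h2, Finset.card_erase_of_mem, Finset.card_erase_of_mem
      (Finset.mem_univ _), Finset.card_univ, ← Nat.card_eq_fintype_card, hΩ]
    · omega
    · rw [Finset.mem_erase]; exact ⟨hxy.symm, Finset.mem_univ _⟩
  have hk : 0 < (A y).card := Finset.card_pos.2 ⟨z, (hA _ _).2 hTz⟩
  have hl : 0 < D.card := Finset.card_pos.2 ⟨w, (hD _).2 ⟨hwx, hwy, hTw⟩⟩
  -- invariance of intersection numbers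
  have hb : ∀ u ∈ A y, (A u ∩ D).card = (A z ∩ D).card := by
    intro u hu
    rw [hA] at hu
    obtain ⟨g, h1, h2, h3⟩ := hu
    have : A u ∩ D = (A z ∩ D).map (MulAction.toPerm g).toEmbedding := by
      ext v
      obtain ⟨v, rfl⟩ := (MulAction.toPerm g).surjective v
      rw [Finset.mem_map_equiv, Equiv.symm_apply_apply, Finset.mem_inter, Finset.mem_inter, hA,
        hA, hD, hD]
      change T x u (g • v) ∧ (g • v ≠ x ∧ g • v ≠ y ∧ ¬ T x y (g • v)) ↔ _
      conv_lhs => rw [← h3, ← h1, ← h2]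
      rw [h1]
      conv_lhs => rw [← h1]
      rw [hTinv, hTinv, Ne, Ne, smul_left_cancel_iff, smul_left_cancel_iff]
    rw [this, Finset.card_map]
  have hμ : ∀ u ∈ D, (A u ∩ A y).card = (A w ∩ A y).card := by
    intro u hu
    rw [hD] at hu
    obtain ⟨g, h1, h2, h3⟩ := hone hxy hwx.symm hwy.symm hxy hu.1.symm hu.2.1.symm hTw hu.2.2
    have : A u ∩ A y = (A w ∩ A y).map (MulAction.toPerm g).toEmbedding := by
      ext v
      obtain ⟨v, rfl⟩ := (MulAction.toPerm g).surjective v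
      rw [Finset.mem_map_equiv, Equiv.symm_apply_apply, Finset.mem_inter, Finset.mem_inter, hA,
        hA, hA, hA]
      change T x u (g • v) ∧ T x y (g • v) ↔ _
      have e1 : T x u (g • v) ↔ T x w v := by
        rw [← hTinv g x w v, h1, h3]
      have e2 : T x y (g • v) ↔ T x y v := by
        rw [← hTinv g x y v, h1, h2]
      rw [e1, e2]
    rw [this, Finset.card_map]
  have hcount : (A y).card * (A z ∩ D).card = D.card * (A w ∩ A y).card := by
    have h1 : ∑ u ∈ A y, (A u ∩ D).card = (A y).card * (A z ∩ D).card := by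
      rw [Finset.sum_congr rfl hb, Finset.sum_const, smul_eq_mul]
    have h2 : ∑ u ∈ D, (A u ∩ A y).card = D.card * (A w ∩ A y).card := by
      rw [Finset.sum_congr rfl hμ, Finset.sum_const, smul_eq_mul]
    rw [← h1, ← h2]
    have h3 := Finset.sum_card_bipartiteAbove_eq_sum_card_bipartiteBelow (s := A y) (t := D)
      (fun u v => T x u v)
    have h4 : ∀ u ∈ A y, Finset.bipartiteAbove (fun u v => T x u v) D u = A u ∩ D := by
      intro u hu
      ext v
      rw [Finset.mem_bipartiteAbove, Finset.mem_inter, hA]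
      exact and_comm
    have h5 : ∀ v ∈ D, Finset.bipartiteBelow (fun u v => T x u v) (A y) v = A v ∩ A y := by
      intro v hv
      ext u
      rw [Finset.mem_bipartiteBelow, Finset.mem_inter, hA, hA]
      exact ⟨fun h => ⟨hT23 h.2, h.1⟩, fun h => ⟨h.2, hT23 h.1⟩⟩
    have e1 : ∑ u ∈ A y, (A u ∩ D).card =
        ∑ u ∈ A y, (Finset.bipartiteAbove (fun u v => T x u v) D u).card :=
      Finset.sum_congr rfl (fun u hu => by rw [h4 u hu])
    have e2 : ∑ u ∈ D, (A u ∩ A y).card =
        ∑ u ∈ D, (Finset.bipartiteBelow (fun u v => T x u v) (A y) u).card :=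
      Finset.sum_congr rfl (fun u hu => by rw [h5 u hu])
    rw [e1, e2]
    exact h3
  have hcop : Nat.Coprime D.card (A y).card := by
    rw [Nat.coprime_iff_gcd_eq_one]
    have h1 : Nat.gcd D.card (A y).card ∣ p - 2 := by
      rw [← hsum]
      exact dvd_add (Nat.gcd_dvd_right _ _) (Nat.gcd_dvd_left _ _)
    rcases (Nat.dvd_prime hq).1 h1 with h2 | h2
    · exact h2
    · exfalso
      have h3 := Nat.le_of_dvd hk (Nat.gcd_dvd_right D.card (A y).card)
      omega
  have hdvd : D.card ∣ (A z ∩ D).card :=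
    hcop.dvd_of_dvd_mul_left ⟨_, hcount⟩
  have hb01 : (A z ∩ D).card = 0 ∨ (A z ∩ D).card = D.card := by
    have h1 : (A z ∩ D).card ≤ D.card := Finset.card_le_card Finset.inter_subset_right
    rcases Nat.eq_zero_or_pos (A z ∩ D).card with h2 | h2
    · exact Or.inl h2
    · exact Or.inr (le_antisymm h1 (Nat.le_of_dvd h2 hdvd))
  rcases hb01 with h0 | h0
  · -- no edges between `A y` and `D`
    refine no_closed hΩ htrans hins hp3 hp7 he T hTinv (fun a b c h => hTd h) hxy hTz hwx hwy hTw ?_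
    rintro u (rfl | hu) v huv
    · exact Or.inr huv
    · by_cases hvy : v = y
      · exact Or.inl hvy
      · right
        by_contra hv
        have h1 : v ∈ A u ∩ D := Finset.mem_inter.2
          ⟨(hA _ _).2 huv, (hD _).2 ⟨(hTd huv).2.1.symm, hvy, hv⟩⟩
        have h2 := hb u ((hA _ _).2 hu)
        rw [h0, Finset.card_eq_zero] at h2
        rw [h2] at h1
        exact absurd h1 (Finset.notMem_empty _)
  · -- all edges between `A y` and `D`
    refine no_closed hΩ htrans hins hp3 hp7 he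
      (fun a b c => a ≠ b ∧ a ≠ c ∧ b ≠ c ∧ ¬ T a b c) (fun g a b c => by
        rw [hTinv, Ne, Ne, Ne, smul_left_cancel_iff, smul_left_cancel_iff, smul_left_cancel_iff])
      (fun a b c h => ⟨h.1, h.2.1, h.2.2.1⟩) (α := x) (β := y) (β₁ := w) (δ := z) hxy
      ⟨hxy, hwx.symm, hwy.symm, hTw⟩ hxz.symm hyz.symm (fun h => h.2.2.2 hTz) ?_
    rintro u (rfl | hu) v ⟨h1, h2, h3, h4⟩
    · exact Or.inr ⟨h1, h2, h3, h4⟩
    · by_cases hvy : v = y
      · exact Or.inl hvy
      · right
        refine ⟨hxy, h2, Ne.symm hvy, fun h5 => ?_⟩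
        -- `v ∈ A y`, `u ∈ D`, so `T x v u`
        have h6 := hb v ((hA _ _).2 h5)
        rw [h0] at h6
        have h7 : A v ∩ D = D := Finset.eq_of_subset_of_card_le Finset.inter_subset_right h6.ge
        have h8 : u ∈ D := (hD _).2 ⟨hu.2.1.symm, hu.2.2.1.symm, hu.2.2.2⟩
        rw [← h7, Finset.mem_inter, hA] at h8
        exact h4 (hT23 h8.1)

end three

end

end Cfsg.Agent.H409
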